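import Cfsg.Agent.Chars.QuotientBlocks
import Cfsg.Agent.Blocks.Covering
import Cfsg.Agent.BlockChar.RegKernel
import Cfsg.Agent.BlockChar.InducedApps
import Cfsg.Agent.BlockChar.AbelianCount

/-!
# A block and its image modulo a central element of order `p`

A block has exactly one block below it in the quotient, with the same rank and one less defect.
-/

set_option autoImplicit false
set_option linter.unusedSectionVars false
set_option linter.style.haveILetI false

namespace Cfsg.Agent.BlockChar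

open MonoidAlgebra
open scoped MonoidAlgebra ComplexConjugate
open Cfsg Cfsg.Agent Cfsg.Agent.Blocks
open Cfsg.Agent.Chars.Quot (pi infl)

universe u v

variable {G : Type u} [Group G] [Fintype G] {p : ℕ} [Fact p.Prime] {M : Ideal AlgInt}
  [M.IsMaximal] {N : Subgroup G} [N.Normal] {z : G}

/-- Two regular elements of one coset of a central `p`-subgroup are equal. -/
theorem eq_of_regular_coset (hN : IsPGroup p N) (hc : ∀ n ∈ N, ∀ g : G, n * g = g * n) {a b : G}
    (ha : ¬ p ∣ orderOf a) (hb : ¬ p ∣ orderOf b) (h : (a : G ⧸ N) = b) : a = b := by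
  have hn : a⁻¹ * b ∈ N := QuotientGroup.eq.mp h
  obtain ⟨i, hi⟩ := orderOf_of_mem hN hn
  have hcomm : Commute a (a⁻¹ * b) := (hc _ hn a).symm
  have h1 := ppart_mul hcomm.symm ⟨i, hi⟩ ha
  rw [hc _ hn a, mul_inv_cancel_left, ppart_one_iff.mpr hb] at h1
  exact inv_mul_eq_one.mp h1.symm

/-- A regular coset contains a regular element. -/
theorem exists_regular_coset (hN : IsPGroup p N) {x : G ⧸ N} (hx : ¬ p ∣ orderOf x) :
    ∃ g : G, ¬ p ∣ orderOf g ∧ (g : G ⧸ N) = x := by
  obtain ⟨g, rfl⟩ := QuotientGroup.mk_surjective x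
  obtain ⟨y, hy, -, ⟨k, hk⟩, hyr⟩ := isPPart_ppart (p := p) g
  refine ⟨y, hyr, ?_⟩
  have hmem : ppart p g ∈ N := by
    rw [← QuotientGroup.eq_one_iff, ← orderOf_eq_one_iff]
    refine Nat.eq_one_of_dvd_coprimes
      (((Fact.out : p.Prime).coprime_iff_not_dvd.mpr hx).pow_left k) ?_ ?_
    · exact hk ▸ orderOf_map_dvd (QuotientGroup.mk' N) (ppart p g)
    · refine orderOf_dvd_of_pow_eq_one ?_
      have hpow : ((ppart p g : G) : G ⧸ N) = (g : G ⧸ N) ^ ppExp p G :=
        QuotientGroup.mk_pow N g (ppExp p G)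
      rw [hpow, ← pow_mul, mul_comm, pow_mul, pow_orderOf_eq_one, one_pow]
  conv_rhs => rw [← hy, QuotientGroup.mk_mul, (QuotientGroup.eq_one_iff _).mpr hmem, one_mul]

theorem not_dvd_orderOf_mk {a : G} (ha : ¬ p ∣ orderOf a) : ¬ p ∣ orderOf (a : G ⧸ N) :=
  fun h => ha (h.trans (orderOf_map_dvd (QuotientGroup.mk' N) a))

section alg

variable {k : Type v} [Field k] [CharP k p]

theorem eq_sum_smul_of (y : k[G]) : y = ∑ g : G, y.coeff g • MonoidAlgebra.of k G g := by
  classical
  ext h
  rw [MonoidAlgebra.coeff_sum, Finsupp.finsetSum_apply, Finset.sum_eq_single h]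
  · simp
  · intro g _ hg; simp [hg]
  · exact fun h' => absurd (Finset.mem_univ h) h'

/-- The kernel of the quotient map by a central subgroup of order `p` is nilpotent. -/
theorem pow_eq_zero_of_pi [Fintype (G ⧸ N)] {r : ℕ} (hz : N = Subgroup.zpowers z)
    (hzp : z ^ p ^ r = 1) (hc : ∀ g : G, z * g = g * z) {y : k[G]} (hy : pi k N y = 0) :
    y ^ p ^ r = 0 := by
  classical
  haveI : CharP k[G] p := charP_of_injective_algebraMap (algebraMap k k[G]).injective p
  set T : k[G] := MonoidAlgebra.of k G z - 1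
  have hT : ∀ w : k[G], Commute T w := by
    intro w
    refine Commute.sub_left ?_ (Commute.one_left w)
    rw [eq_sum_smul_of w]
    refine Commute.sum_right _ _ _ fun g _ => Commute.smul_right ?_ _
    show _ * _ = _ * _
    rw [← map_mul, ← map_mul, hc g]
  have key : ∀ g n : G, n ∈ N → ∃ w : k[G],
      MonoidAlgebra.of k G (g * n) - MonoidAlgebra.of k G g = T * w := by
    intro g n hn
    rw [hz] at hn
    have hfin : IsOfFinOrder z := isOfFinOrder_of_finite z
    obtain ⟨i, rfl⟩ := (hfin.mem_powers_iff_mem_zpowers.mpr hn : n ∈ Submonoid.powers z)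
    refine ⟨MonoidAlgebra.of k G g * ∑ j ∈ Finset.range i, MonoidAlgebra.of k G z ^ j, ?_⟩
    rw [map_mul, map_pow, ← mul_assoc, (hT _).eq, mul_assoc,
      (hT _).eq, geom_sum_mul, mul_sub, mul_one]
  choose w hw using fun g : G => key ((g : G ⧸ N).out) (((g : G ⧸ N).out)⁻¹ * g)
    (QuotientGroup.eq.mp (QuotientGroup.out_eq' (g : G ⧸ N)))
  have h0 : y = T * ∑ g : G, y.coeff g • w g := by
    conv_lhs => rw [eq_sum_smul_of y]
    rw [Finset.mul_sum]
    have h1 : ∑ g : G, y.coeff g • MonoidAlgebra.of k G ((g : G ⧸ N).out) = 0 := by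
      rw [← Finset.sum_fiberwise (g := fun g : G => (g : G ⧸ N))]
      refine Finset.sum_eq_zero fun x _ => ?_
      rw [Finset.sum_congr rfl fun g hg => by rw [(Finset.mem_filter.mp hg).2], ← Finset.sum_smul,
        Finset.sum_filter, ← Chars.Quot.coeff_pi, hy]
      simp
    rw [← sub_zero (∑ g : G, y.coeff g • MonoidAlgebra.of k G g), ← h1, ← Finset.sum_sub_distrib]
    refine Finset.sum_congr rfl fun g _ => ?_
    rw [mul_smul_comm, ← hw g, mul_inv_cancel_left, smul_sub]
  rw [h0, (hT _).mul_pow, sub_pow_char_pow_of_commute p r (Commute.one_right _), one_pow, ← map_pow,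
    hzp, map_one, sub_self, zero_mul]

/-- An idempotent of the centre of the quotient supported on regular elements has an idempotent
preimage in the centre. -/
theorem exists_idem_lift_regular [Fintype (G ⧸ N)] {r : ℕ} (hN : N = Subgroup.zpowers z)
    (hzp : z ^ p ^ r = 1)
    (hc : ∀ g : G, z * g = g * z) {f : k[G ⧸ N]} (hf : CentralIn (⊤ : Subgroup (G ⧸ N)) f)
    (hff : f * f = f) (hsupp : ∀ x, f.coeff x ≠ 0 → ¬ p ∣ orderOf x) :
    ∃ y : k[G], CentralIn (⊤ : Subgroup G) y ∧ y * y = y ∧ pi k N y = f := by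
  classical
  haveI : CharP k[G] p := charP_of_injective_algebraMap (algebraMap k k[G]).injective p
  have hNp : IsPGroup p N := by
    subst hN
    exact isPGroup_zpowers_of (u := z) (by
      obtain ⟨i, -, hi⟩ := (Nat.dvd_prime_pow Fact.out).mp (orderOf_dvd_of_pow_eq_one hzp)
      exact ⟨i, hi⟩)
  have hcN : ∀ n ∈ N, ∀ g : G, n * g = g * n := by
    intro n hn g
    rw [hN] at hn
    obtain ⟨i, rfl⟩ := hn
    exact ((show Commute z g from hc g).zpow_left i).eq
  set y₀ : k[G] := ∑ g : G, (if ¬ p ∣ orderOf g then f.coeff (g : G ⧸ N) else 0) •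
    MonoidAlgebra.of k G g with hy₀
  have hcoeff : ∀ g, y₀.coeff g = if ¬ p ∣ orderOf g then f.coeff (g : G ⧸ N) else 0 := by
    intro g
    rw [hy₀, MonoidAlgebra.coeff_sum, Finsupp.finsetSum_apply, Finset.sum_eq_single g]
    · split_ifs <;> simp
    · intro a _ ha; split_ifs <;> simp [ha]
    · exact fun h' => absurd (Finset.mem_univ g) h'
  have hy₀c : CentralIn (⊤ : Subgroup G) y₀ := by
    refine ⟨fun g hg => absurd (Subgroup.mem_top g) hg, fixed_of_coeff fun h _ g => ?_⟩
    rw [hcoeff, hcoeff, show h * g * h⁻¹ = (MulAut.conj h).toMonoidHom g from rfl,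
      orderOf_injective (MulAut.conj h).toMonoidHom (MulAut.conj h).injective]
    refine if_congr Iff.rfl ?_ rfl
    show f.coeff ((h * g * h⁻¹ : G) : G ⧸ N) = _
    rw [QuotientGroup.mk_mul, QuotientGroup.mk_mul, QuotientGroup.mk_inv]
    exact hf.fixed.coeff (Subgroup.mem_top _) _
  have hpi₀ : pi k N y₀ = f := by
    ext x
    rw [Chars.Quot.coeff_pi]
    simp only [hcoeff]
    by_cases hx : ¬ p ∣ orderOf x
    · obtain ⟨g, hg, rfl⟩ := exists_regular_coset hNp hx
      rw [Finset.sum_eq_single g (fun a _ ha => ?_) (fun h => absurd (Finset.mem_univ g) h),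
        if_pos rfl, if_pos hg]
      split_ifs with h1 h2
      all_goals first | rfl | exact absurd (eq_of_regular_coset hNp hcN h2 hg h1) ha
    · have h0 : f.coeff x = 0 := by_contra fun h => hx (hsupp x h)
      rw [h0]
      refine Finset.sum_eq_zero fun a _ => ?_
      split_ifs with h1 h2
      all_goals first | rfl | (rw [h1]; exact h0)
  have hpw : ∀ n, CentralIn (⊤ : Subgroup G) (y₀ ^ n) := fun n => by
    induction n with
    | zero => rw [pow_zero]; exact CentralIn.one _
    | succ n ih => rw [pow_succ]; exact ih.mul hy₀c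
  have h0 : (y₀ * y₀ - y₀) ^ p ^ r = 0 := pow_eq_zero_of_pi hN hzp hc (by
    rw [map_sub, map_mul, hpi₀, hff, sub_self])
  rw [sub_pow_char_pow_of_commute p r ((Commute.refl y₀).mul_left (Commute.refl y₀)), sub_eq_zero,
    (Commute.refl y₀).mul_pow] at h0
  refine ⟨y₀ ^ p ^ r, hpw _, h0, ?_⟩
  rw [map_pow, hpi₀]
  exact (show IsIdempotentElem f from hff).pow_eq (pow_ne_zero r (Fact.out : p.Prime).ne_zero)

end alg

/-- The block of the quotient below a block: one less defect, the same rank. -/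
theorem exists_quot_block [Fintype (G ⧸ N)] (hpM : (p : AlgInt) ∈ M) {B : Set (IrrCharacter G)}
    (hB : IsPBlock M B) (hN : N = Subgroup.zpowers z) (hc : ∀ g : G, z * g = g * z) {r : ℕ}
    (hz : orderOf z = p ^ r) :
    ∃ Bb : Set (IrrCharacter (G ⧸ N)), IsPBlock M Bb ∧
      blockDefect p Bb + r = blockDefect p B ∧ blockRank p B ≤ Nat.card Bb ∧
      ∀ P : Subgroup G, IsDefectGroup p M B P →
        IsDefectGroup p M Bb (P.map (QuotientGroup.mk' N)) := by
  classical
  haveI := charP_res (p := p) hpM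
  have hp : p.Prime := Fact.out
  have hzp : z ^ p ^ r = 1 := hz ▸ pow_orderOf_eq_one z
  have hNp : IsPGroup p N := hN ▸ isPGroup_zpowers_of ⟨r, hz⟩
  have hcN : ∀ n ∈ N, ∀ g : G, n * g = g * n := by
    intro n hn g
    rw [hN] at hn
    obtain ⟨i, rfl⟩ := hn
    exact ((show Commute z g from hc g).zpow_left i).eq
  have hNc : Nat.card N = p ^ r := by rw [hN, Nat.card_zpowers, hz]
  have he := isBlk_idemG hpM hB
  obtain ⟨P, hP⟩ := exists_isDef (p := p) he
  obtain ⟨b, hb, hle, hD⟩ := Chars.Quot.exists_blk_image_def N hpM hB hNp hP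
  have huniq : ∀ b' : (Res M)[G ⧸ N], IsBlk ⊤ b' → pi (Res M) N (idemG M B) * b' = b' →
      pi (Res M) N (idemG M B) = b' := by
    intro b' hb' hle'
    obtain ⟨y, hyc, hyy, hpy⟩ := exists_idem_lift_regular (k := Res M) hN hzp hc hb'.central hb'.idem
      (fun x hx => isPRegular_of_coeff_blk hpM hb' hx)
    rcases he.prim y hyc hyy with h | h
    · refine absurd ?_ hb'.ne_zero
      rw [← hle', ← hpy, ← map_mul, hyc.comm he.supp |>.symm, h, map_zero]
    · conv_lhs => rw [← h]
      rw [map_mul, hpy, hb'.central.comm (fun g hg => absurd (Subgroup.mem_top g) hg), hle']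
  obtain ⟨Bb, hBb, hBbe⟩ := exists_idemG_eq hpM hb
  subst hBbe
  refine ⟨Bb, hBb, ?_, ?_, fun P' hP' => ?_⟩
  · have h1 := card_defectGroup hpM hBb ((isDefectGroup_iff_idemG hpM hBb _).mpr hD)
    have hPB := (isDefectGroup_iff_idemG hpM hB P).mpr hP
    have h2 := card_defectGroup hpM hB hPB
    have hNP : N ≤ P := le_defect_of_normal hpM hB hPB inferInstance hNp
    have h3 : Nat.card (P.map (QuotientGroup.mk' N)) * Nat.card N = Nat.card P := by
      have h := Subgroup.card_mul_index (((QuotientGroup.mk' N).comp P.subtype).ker)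
      rw [Subgroup.index_ker, ← MonoidHom.comap_ker, QuotientGroup.ker_mk',
        MonoidHom.range_comp, Subgroup.range_subtype,
        show Nat.card (N.comap P.subtype) = Nat.card N from
          Nat.card_congr (Subgroup.subgroupOfEquivOfLe hNP).toEquiv] at h
      rw [mul_comm]; exact h
    rw [h1, h2, hNc, ← pow_add] at h3
    exact Nat.pow_right_injective hp.two_le h3
  swap
  · obtain ⟨y, -, rfl⟩ := hP.exists_conj ((isDefectGroup_iff_idemG hpM hB P').mp hP')
    rw [Chars.Quot.map_conjS, isDefectGroup_iff_idemG hpM hBb]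
    exact hD.conj hb (Subgroup.mem_top _)
  -- the characters trivial at `z`
  have hmem : ∀ χ : IrrCharacter (G ⧸ N), infl N χ ∈ B ↔ χ ∈ Bb := by
    intro χ
    refine ⟨fun h => ?_, fun h => (Chars.Quot.pi_mul_iff N hpM hB hBb h).mp hle⟩
    have hBχ := isPBlock_blockOf (M := M) χ
    have h' := (Chars.Quot.pi_mul_iff N hpM hB hBχ (mem_blockOf_self χ)).mpr h
    have e := (huniq _ (isBlk_idemG hpM hBχ) h').symm.trans (huniq _ (isBlk_idemG hpM hBb) hle)
    rw [← eq_of_idemG_eq hpM hBχ hBb e]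
    exact mem_blockOf_self χ
  choose c hcpow hcφ using fun φ : IrrCharacter G =>
    exists_central_scalar hpM (z := z) (k := r) hzp hc φ
  have hker : ∀ x y : G, ¬ p ∣ orderOf x → ¬ p ∣ orderOf y →
      kerB B x y = ((p ^ r : ℕ) : ℂ) * kerB Bb (x : G ⧸ N) (y : G ⧸ N) := by
    intro x y hx hy
    have hci : ∀ (φ : IrrCharacter G) (i : ℕ),
        (φ : G → ℂ) (z ^ i * y) = c φ ^ i * (φ : G → ℂ) y := by
      intro φ i
      induction i with
      | zero => simp
      | succ i ih => rw [pow_succ', mul_assoc, hcφ, ih, pow_succ']; ring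
    have h1 : ∀ i ∈ Finset.range (p ^ r), i ≠ 0 → kerB B x (z ^ i * y) = 0 := by
      intro i hi hi0
      refine kerB_eq_zero hpM hB fun h => ?_
      rw [ppart_one_iff.mpr hx, ppart_mul ((show Commute z y from hc y).pow_left i) ?_ hy,
        isConj_one_right] at h
      · rw [← orderOf_dvd_iff_pow_eq_one, hz] at h
        exact hi0 (Nat.eq_zero_of_dvd_of_lt h (Finset.mem_range.mp hi))
      · obtain ⟨j, hj⟩ := (IsPGroup.iff_orderOf.mp hNp) ⟨z ^ i,
          hN ▸ Subgroup.pow_mem _ (Subgroup.mem_zpowers z) i⟩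
        exact ⟨j, by rw [← hj, ← Subgroup.orderOf_coe]⟩
    have h2 : ∑ i ∈ Finset.range (p ^ r), kerB B x (z ^ i * y) = kerB B x y := by
      rw [Finset.sum_eq_single 0 h1 (fun h => absurd (Finset.mem_range.mpr (pow_pos hp.pos r)) h), pow_zero,
        one_mul]
    have h3 : ∀ φ : IrrCharacter G, ∑ i ∈ Finset.range (p ^ r), conj (c φ) ^ i =
        if c φ = 1 then ((p ^ r : ℕ) : ℂ) else 0 := by
      intro φ
      have hpow : c φ ^ p ^ r = 1 := hcpow φ
      split_ifs with h
      · simp [h]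
      · rw [geom_sum_eq (fun h' => h (by
          rw [← Complex.conj_conj (c φ), h', map_one])), ← map_pow, hpow, map_one, sub_self,
          zero_div]
    have h4 : ∑ φ ∈ bf B, (if c φ = 1 then (φ : G → ℂ) x * conj ((φ : G → ℂ) y) else 0) =
        kerB Bb (x : G ⧸ N) (y : G ⧸ N) := by
      rw [← Finset.sum_filter, kerB]
      symm
      refine Finset.sum_nbij (infl N) ?_ ?_ ?_ fun _ _ => rfl
      · intro χ hχ
        refine Finset.mem_filter.mpr ⟨mem_bf.mpr ((hmem χ).mpr (mem_bf.mp hχ)), ?_⟩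
        have h := hcφ (infl N χ) 1
        rw [mul_one] at h
        have hz1 : ((infl N χ : IrrCharacter G) : G → ℂ) z = ((infl N χ : IrrCharacter G) : G → ℂ) 1 := by
          show (χ : G ⧸ N → ℂ) (z : G ⧸ N) = (χ : G ⧸ N → ℂ) ((1 : G) : G ⧸ N)
          rw [(QuotientGroup.eq_one_iff z).mpr (hN ▸ Subgroup.mem_zpowers z), QuotientGroup.mk_one]
        exact (mul_right_cancel₀ (Chars.irr_apply_one_ne_zero (infl N χ).2)
          ((one_mul _).trans (hz1.symm.trans h))).symm
      · intro a _ a' _ h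
        refine Subtype.ext (funext fun q => ?_)
        obtain ⟨g, rfl⟩ := QuotientGroup.mk_surjective q
        exact congrArg (fun φ : IrrCharacter G => (φ : G → ℂ) g) h
      · intro φ hφ
        obtain ⟨hφB, hφ1⟩ := Finset.mem_filter.mp hφ
        obtain ⟨χ, hχ⟩ := Blocks.exists_descend (N := N) φ.2 (fun n hn => by
          rw [hN] at hn
          obtain ⟨i, rfl⟩ := mem_powers_iff_mem_zpowers.mpr hn
          have : ∀ i : ℕ, (φ : G → ℂ) (z ^ i) = (φ : G → ℂ) 1 := fun i => by
            induction i with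
            | zero => simp
            | succ i ih => rw [pow_succ', hcφ, hφ1, one_mul, ih]
          exact this i)
        have e : infl N χ = φ := Subtype.ext hχ.symm
        exact ⟨χ, mem_bf.mpr ((hmem χ).mp (by rw [e]; exact mem_bf.mp hφB)), e⟩
    rw [← h2, ← h4, Finset.mul_sum]
    simp only [kerB, hci, map_mul, map_pow]
    rw [Finset.sum_comm]
    refine Finset.sum_congr rfl fun φ _ => ?_
    rw [Finset.sum_congr rfl fun i _ => mul_left_comm _ (conj (c φ) ^ i) _, ← Finset.sum_mul, h3,
      mul_ite, ite_mul, zero_mul, mul_zero]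
  have hrank : blockRank p B = blockRank p Bb := by
    apply Nat.cast_injective (R := ℂ)
    apply mul_left_cancel₀ (Chars.card_ne_zero (G := G))
    rw [card_mul_blockRank hpM hB, Subgroup.card_eq_card_quotient_mul_card_subgroup N, hNc,
      Nat.cast_mul, mul_comm (Nat.card (G ⧸ N) : ℂ), mul_assoc,
      card_mul_blockRank hpM hBb, Finset.mul_sum]
    refine Finset.sum_bij (fun g _ => (g : G ⧸ N)) ?_ ?_ ?_ ?_
    · exact fun g hg => mem_regs.mpr (not_dvd_orderOf_mk (mem_regs.mp hg))
    · exact fun a ha b hb' h => eq_of_regular_coset hNp hcN (mem_regs.mp ha) (mem_regs.mp hb') h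
    · intro q hq
      obtain ⟨g, hg, rfl⟩ := exists_regular_coset hNp (mem_regs.mp hq)
      exact ⟨g, mem_regs.mpr hg, rfl⟩
    · exact fun g hg => hker g g (mem_regs.mp hg) (mem_regs.mp hg)
  rw [hrank, blockRank, Nat.card_coe_set_eq, Set.ncard_eq_toFinset_card Bb]
  rw [← Set.Finite.coe_toFinset (Set.toFinite Bb), ← Finset.coe_image]
  refine (finrank_span_finset_le_card _).trans (Finset.card_image_le.trans (le_of_eq ?_))
  rw [Set.Finite.coe_toFinset]

end Cfsg.Agent.BlockChar
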