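import Mathlib.Analysis.Complex.Basic
import Mathlib.RingTheory.RootsOfUnity.Complex
import Mathlib.Dynamics.PeriodicPts.Defs
import Cfsg.Agent.Chars.Eigen

/-!
# A projection with a cyclic symmetry

Let `f` permute a finite set, let the vectors `χ ↦ a (f^[r] χ)`, `r < t`, be orthogonal of norm
`p`, and let the projection away from them be invariant under `f`. Then `f` has one orbit of
length `t` and fixes everything else, and the form of the projection is a sum of squares.
-/

set_option autoImplicit false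

namespace Cfsg.Agent.BlockChar

open Function Finset
open scoped ComplexConjugate

universe u

variable {X : Type u} [Fintype X] [DecidableEq X]

theorem sum_shift {β : Type*} [AddCommMonoid β] {F : ℕ → β} {t : ℕ} (hF : ∀ r, F (r + t) = F r)
    (j : ℕ) : ∑ r ∈ range t, F (r + j) = ∑ r ∈ range t, F r := by
  rcases Nat.eq_zero_or_pos t with rfl | ht
  · simp
  induction j with
  | zero => rfl
  | succ j ih =>
    rw [← ih]
    obtain ⟨s, rfl⟩ : ∃ s, t = s + 1 := ⟨t - 1, by omega⟩
    rw [sum_range_succ, sum_range_succ' (fun r => F (r + j)),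
      show s + (j + 1) = 0 + j + (s + 1) by omega, hF]
    exact congrArg (· + _) (sum_congr rfl fun r _ => by rw [show r + (j + 1) = r + 1 + j by omega])

/-- The data: a permutation `f`, a function `a`, and the projection. -/
structure CycModel (p t : ℕ) (f : X → X) (a : X → ℂ) (R : X → X → ℂ) : Prop where
  ht : 0 < t
  htp : t < p
  hp : p.Prime
  eq : ∀ χ ψ, (p : ℂ) * R χ ψ =
    (if χ = ψ then (p : ℂ) else 0) - ∑ r ∈ range t, a (f^[r] χ) * conj (a (f^[r] ψ))
  inv : ∀ χ ψ, R (f χ) ψ = R χ ψ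
  per : ∀ χ ψ, a (f^[t] χ) * conj (a (f^[t] ψ)) = a χ * conj (a ψ)
  orth : ∀ r, r < t → ∀ r', r' < t →
    ∑ χ, a (f^[r] χ) * conj (a (f^[r'] χ)) = if r = r' then (p : ℂ) else 0
  int : ∀ χ, IsIntegral ℤ (a χ)
  ne : ∀ χ, a χ ≠ 0
  two : p = 2 → ∀ χ, f χ = χ

namespace CycModel

variable {p t : ℕ} {f : X → X} {a : X → ℂ} {R : X → X → ℂ}

theorem inv_iterate (S : CycModel p t f a R) (n : ℕ) (χ ψ : X) : R (f^[n] χ) ψ = R χ ψ := by
  induction n generalizing χ with
  | zero => rfl
  | succ n ih => rw [iterate_succ_apply, ih, S.inv]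

theorem conj_R (S : CycModel p t f a R) (χ ψ : X) : conj (R χ ψ) = R ψ χ := by
  have hp0 : (p : ℂ) ≠ 0 := Nat.cast_ne_zero.mpr S.hp.ne_zero
  apply mul_left_cancel₀ hp0
  have h := congrArg conj (S.eq χ ψ)
  rw [map_mul, map_natCast, map_sub, map_sum] at h
  rw [h, S.eq ψ χ]
  congr 1
  · by_cases h : χ = ψ
    · subst h; simp
    · rw [if_neg h, if_neg (Ne.symm h), map_zero]
  · exact sum_congr rfl fun r _ => by rw [map_mul, Complex.conj_conj, mul_comm]

theorem inv_right (S : CycModel p t f a R) (χ ψ : X) : R χ (f ψ) = R χ ψ := by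
  rw [← S.conj_R, S.inv, S.conj_R]

theorem iterate_t (S : CycModel p t f a R) (χ : X) : f^[t] χ = χ := by
  by_contra hne
  set T : X → X → ℂ := fun χ ψ => ∑ r ∈ range t, a (f^[r] χ) * conj (a (f^[r] ψ))
  obtain ⟨θ, hθ⟩ : ∃ θ : ℂ, ∀ ψ, a (f^[t] ψ) = θ * a ψ := by
    refine ⟨a (f^[t] χ) / a χ, fun ψ => ?_⟩
    have h1 := S.per χ χ
    have h2 := S.per ψ χ
    have hc' := (map_ne_zero conj).mpr (S.ne (f^[t] χ))
    have := S.ne χ
    field_simp
    refine mul_right_cancel₀ hc' ?_
    linear_combination (a χ) * h2 - (a ψ) * h1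
  have hθn : θ * conj θ = 1 := by
    have h := S.per χ χ
    rw [hθ χ, map_mul] at h
    refine mul_right_cancel₀ (mul_ne_zero (S.ne χ) ((map_ne_zero conj).mpr (S.ne χ))) ?_
    linear_combination h
  have hshift : ∀ r ψ, a (f^[r] (f^[t] ψ)) = θ * a (f^[r] ψ) := fun r ψ => by
    rw [← hθ, ← iterate_add_apply, ← iterate_add_apply, add_comm]
  have hrow : ∀ ψ, (θ - 1) * T χ ψ =
      (if f^[t] χ = ψ then (p : ℂ) else 0) - if χ = ψ then (p : ℂ) else 0 := fun ψ => by
    have h1 := S.eq (f^[t] χ) ψ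
    rw [S.inv_iterate, S.eq χ ψ] at h1
    simp only [T]
    rw [sub_mul, one_mul, mul_sum, sum_congr rfl fun r _ => show θ * (a (f^[r] χ) * conj (a (f^[r] ψ))) =
      a (f^[r] (f^[t] χ)) * conj (a (f^[r] ψ)) by rw [hshift]; ring]
    linear_combination h1
  have hp0 : (p : ℂ) ≠ 0 := Nat.cast_ne_zero.mpr S.hp.ne_zero
  have hθ1 : θ - 1 ≠ 0 := fun h => by
    have := hrow χ
    rw [h, zero_mul, if_neg hne, if_pos rfl, zero_sub, eq_comm, neg_eq_zero] at this
    exact hp0 this
  have hsum : ∑ ψ, T χ ψ * a ψ = (p : ℂ) * a χ := by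
    simp only [T, sum_mul]
    rw [sum_comm, sum_eq_single 0]
    · simp only [iterate_zero_apply, mul_assoc, ← mul_sum]
      rw [sum_congr rfl fun ψ _ => mul_comm (conj (a ψ)) (a ψ)]
      have h0 := S.orth 0 S.ht 0 S.ht
      simp only [iterate_zero_apply, if_pos] at h0
      rw [h0, mul_comm]
    · intro r hr hr0
      simp only [mul_assoc, ← mul_sum]
      rw [sum_congr rfl fun ψ _ => mul_comm _ (a ψ)]
      have h0 := S.orth 0 S.ht r (mem_range.mp hr)
      simp only [iterate_zero_apply] at h0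
      rw [h0, if_neg (Ne.symm hr0), mul_zero]
    · exact fun h => absurd (mem_range.mpr S.ht) h
  rw [Fintype.sum_eq_add χ (f^[t] χ) (Ne.symm hne) fun ψ h => by
    have := hrow ψ
    rw [if_neg (Ne.symm h.2), if_neg (Ne.symm h.1), sub_zero] at this
    rw [(mul_eq_zero.mp this).resolve_left hθ1, zero_mul]] at hsum
  rw [show T χ (f^[t] χ) = conj θ * T χ χ by
    simp only [T, hshift, mul_sum, map_mul]
    exact sum_congr rfl fun r _ => by ring, hθ χ] at hsum
  have h2 : T χ χ * 2 = p := mul_right_cancel₀ (S.ne χ) (by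
    linear_combination hsum - (T χ χ * a χ) * hθn)
  have hint : IsIntegral ℤ ((p : ℂ) / ((2 : ℕ) : ℂ)) := by
    rw [← h2]
    push_cast
    rw [mul_div_assoc, div_self (two_ne_zero (α := ℂ)), mul_one]
    exact IsIntegral.sum _ fun r _ =>
      (S.int _).mul ((S.int _).map (starRingEnd ℂ).toIntAlgHom)
  have h2p : 2 = p :=
    (Nat.prime_dvd_prime_iff_eq Nat.prime_two S.hp).mp (Chars.dvd_of_isIntegral_div two_pos hint)
  have ht1 : t = 1 := by have := S.ht; have := S.htp; omega
  exact hne (by rw [ht1, iterate_one]; exact S.two h2p.symm χ)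

theorem gram_shift (S : CycModel p t f a R) (r : ℕ) (χ : X) :
    a (f^[r + t] χ) = a (f^[r] χ) := by
  rw [iterate_add_apply, S.iterate_t]

theorem exists_long (S : CycModel p t f a R) : ∃ y, ∀ s, 0 < s → s < t → f^[s] y ≠ y := by
  by_contra h
  push Not at h
  obtain ⟨ω, hω⟩ : ∃ ω : ℂ, IsPrimitiveRoot ω t := ⟨_, Complex.isPrimitiveRoot_exp t S.ht.ne'⟩
  have hz : ∀ χ, ∑ r ∈ range t, ω ^ r * a (f^[r] χ) = 0 := by
    intro χ
    obtain ⟨s, hs0, hst, hs⟩ := h χ
    have hF : ∀ r, ω ^ (r + t) * a (f^[r + t] χ) = ω ^ r * a (f^[r] χ) := fun r => by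
      rw [pow_add, hω.pow_eq_one, mul_one, S.gram_shift]
    have h1 := sum_shift (F := fun r => ω ^ r * a (f^[r] χ)) hF s
    simp only [pow_add, iterate_add_apply, hs] at h1
    rw [sum_congr rfl fun r _ => show ω ^ r * ω ^ s * a (f^[r] χ) = ω ^ s * (ω ^ r * a (f^[r] χ)) by
      ring, ← mul_sum] at h1
    exact (mul_eq_zero.mp (show (ω ^ s - 1) * _ = 0 by linear_combination h1)).resolve_left
      (sub_ne_zero.mpr (hω.pow_ne_one_of_pos_of_lt hs0.ne' hst))
  have hnorm : ∑ χ, (∑ r ∈ range t, ω ^ r * a (f^[r] χ)) *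
      conj (∑ r ∈ range t, ω ^ r * a (f^[r] χ)) = (t : ℂ) * p := by
    simp only [map_sum, sum_mul_sum, map_mul, map_pow]
    rw [sum_comm]
    rw [sum_congr rfl fun r hr => show _ = (p : ℂ) from ?_]
    · simp
    rw [sum_comm, sum_eq_single r]
    · rw [sum_congr rfl fun χ _ => show _ = (ω ^ r * conj ω ^ r) *
        (a (f^[r] χ) * conj (a (f^[r] χ))) by ring, ← mul_sum,
        S.orth r (mem_range.mp hr) r (mem_range.mp hr), if_pos rfl, ← mul_pow,
        ← Complex.inv_eq_conj (Complex.norm_eq_one_of_pow_eq_one hω.pow_eq_one S.ht.ne'),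
        mul_inv_cancel₀ (hω.ne_zero S.ht.ne'), one_pow, one_mul]
    · intro r' hr' hne
      rw [sum_congr rfl fun χ _ => show _ = (ω ^ r * conj ω ^ r') *
        (a (f^[r] χ) * conj (a (f^[r'] χ))) by ring, ← mul_sum,
        S.orth r (mem_range.mp hr) r' (mem_range.mp hr'), if_neg hne.symm, mul_zero]
    · exact fun h' => absurd hr h'
  simp only [hz, zero_mul, sum_const_zero] at hnorm
  exact mul_ne_zero (Nat.cast_ne_zero.mpr S.ht.ne') (Nat.cast_ne_zero.mpr S.hp.ne_zero) hnorm.symm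

/-- The structure of the model. -/
theorem structure' (S : CycModel p t f a R) :
    ∃ (y : X) (O : Finset X), (∀ χ, χ ∈ O ↔ ∀ j < t, χ ≠ f^[j] y) ∧ O.card + t = Fintype.card X ∧
      (∀ χ ∈ O, f χ = χ ∧ ∀ r, a (f^[r] χ) = a χ) ∧
      (∑ r ∈ range t, a (f^[r] y)) ≠ 0 ∧
      (t : ℂ) * ∑ χ ∈ O, a χ * conj (a χ) +
        (∑ r ∈ range t, a (f^[r] y)) * conj (∑ r ∈ range t, a (f^[r] y)) = p ∧
      ∑ r ∈ range t, a (f^[r] y) * conj (a (f^[r] y)) + ∑ χ ∈ O, a χ * conj (a χ) = p ∧
      ∑ χ, R χ χ = O.card := by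
  obtain ⟨y, hy⟩ := S.exists_long
  have hinj : Set.InjOn (fun j => f^[j] y) (range t) := by
    have key : ∀ i j, i < j → j < t → f^[i] y ≠ f^[j] y := by
      intro i j hij hj h
      have h1 := congrArg (f^[t - i]) h
      rw [← iterate_add_apply, ← iterate_add_apply, Nat.sub_add_cancel (by omega), S.iterate_t,
        show t - i + j = (j - i) + t by omega, iterate_add_apply, S.iterate_t] at h1
      exact hy (j - i) (by omega) (by omega) h1.symm
    intro i hi j hj h
    rcases lt_trichotomy i j with h' | h' | h'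
    · exact absurd h (key i j h' (mem_range.mp hj))
    · exact h'
    · exact absurd h.symm (key j i h' (mem_range.mp hi))
  set Y := (range t).image fun j => f^[j] y with hY
  set A : ℕ → ℂ := fun s => ∑ r ∈ range t, a (f^[r + s] y) * conj (a (f^[r] y)) with hA
  have hA' : ∀ s, 0 < s → s < t → A s = A 0 - p := by
    intro s hs hst
    induction s with
    | zero => omega
    | succ s ih =>
      have h1 := S.eq (f (f^[s] y)) y
      rw [S.inv, S.eq (f^[s] y) y, ← iterate_succ_apply' f s y,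
        if_neg (hy (s + 1) (by omega) hst)] at h1
      simp only [← iterate_add_apply] at h1
      change _ - A s = _ - A (s + 1) at h1
      rcases Nat.eq_zero_or_pos s with rfl | hs'
      · rw [iterate_zero_apply, if_pos rfl] at h1
        linear_combination h1
      · rw [if_neg (hy s hs' (by omega)), ih hs' (by omega)] at h1
        linear_combination h1
  have hW : (∑ r ∈ range t, a (f^[r] y)) * conj (∑ r ∈ range t, a (f^[r] y)) =
      (t : ℂ) * A 0 - ((t : ℂ) - 1) * p := by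
    rw [map_sum, sum_mul_sum, sum_comm]
    rw [sum_congr rfl (g := fun r => ∑ s ∈ range t, a (f^[r + s] y) * conj (a (f^[r] y)))
      fun r _ => by
        have h := sum_shift (t := t) (F := fun i => a (f^[i] y) * conj (a (f^[r] y)))
          (fun i => by rw [S.gram_shift]) r
        simp only [add_comm _ r] at h
        exact h.symm]
    rw [sum_comm]
    show ∑ s ∈ range t, A s = _
    rw [← add_sum_erase _ _ (mem_range.mpr S.ht), sum_congr rfl fun s hs => hA' s
      (Nat.pos_of_ne_zero (mem_erase.mp hs).1) (mem_range.mp (mem_erase.mp hs).2), sum_const,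
      card_erase_of_mem (mem_range.mpr S.ht), card_range, nsmul_eq_mul,
      Nat.cast_sub (Nat.one_le_iff_ne_zero.mpr S.ht.ne')]
    push_cast; ring
  -- the variation of a row
  set V : X → ℝ := fun χ => ∑ r ∈ range t, ∑ r' ∈ range t,
    Complex.normSq (a (f^[r] χ) - a (f^[r'] χ))
  have hV : ∀ χ, (V χ : ℂ) = 2 * ((t : ℂ) * ∑ r ∈ range t, a (f^[r] χ) * conj (a (f^[r] χ)) -
      (∑ r ∈ range t, a (f^[r] χ)) * conj (∑ r ∈ range t, a (f^[r] χ))) := fun χ => by
    simp only [V, Complex.ofReal_sum, ← Complex.mul_conj, map_sub, sub_mul, mul_sub, map_sum,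
      sum_sub_distrib, sum_mul_sum, sum_const, card_range, nsmul_eq_mul]
    rw [← mul_sum, sum_comm (f := fun r r' => a (f^[r'] χ) * conj (a (f^[r] χ)))]
    ring
  have hrowY : ∀ χ ∈ Y, ∑ r ∈ range t, a (f^[r] χ) * conj (a (f^[r] χ)) = A 0 ∧
      ∑ r ∈ range t, a (f^[r] χ) = ∑ r ∈ range t, a (f^[r] y) := by
    intro χ hχ
    obtain ⟨j, -, rfl⟩ := mem_image.mp hχ
    simp only [← iterate_add_apply]
    exact ⟨by
      rw [sum_shift (F := fun i => a (f^[i] y) * conj (a (f^[i] y)))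
        (fun i => by rw [S.gram_shift]) j]
      simp [A], sum_shift (F := fun i => a (f^[i] y)) (fun i => S.gram_shift i y) j⟩
  have hcardY : Y.card = t := by rw [card_image_of_injOn hinj, card_range]
  have htot : ∑ χ, ((t : ℂ) * ∑ r ∈ range t, a (f^[r] χ) * conj (a (f^[r] χ))) =
      (t : ℂ) * ((t : ℂ) * p) ∧ ∑ χ, (∑ r ∈ range t, a (f^[r] χ)) *
        conj (∑ r ∈ range t, a (f^[r] χ)) = (t : ℂ) * p := by
    constructor
    · rw [← mul_sum, sum_comm, sum_congr rfl fun r hr => by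
        rw [S.orth r (mem_range.mp hr) r (mem_range.mp hr), if_pos rfl], sum_const, card_range,
        nsmul_eq_mul]
    · simp only [map_sum, sum_mul_sum]
      rw [sum_comm]
      rw [sum_congr rfl fun r hr => show _ = (p : ℂ) from ?_]
      · simp
      rw [sum_comm, sum_congr rfl fun r' hr' => S.orth r (mem_range.mp hr) r' (mem_range.mp hr'),
        sum_ite_eq, if_pos hr]
  set O := univ \ Y with hO
  have hzero : ∀ χ ∈ O, V χ = 0 := by
    have h1 : ((∑ χ ∈ O, V χ : ℝ) : ℂ) = 0 := by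
      have h2 := sum_sdiff (f := fun χ => (V χ : ℂ)) (subset_univ Y)
      simp only [hV] at h2
      rw [← mul_sum (s := univ), sum_sub_distrib, htot.1, htot.2,
        sum_congr rfl (s₂ := Y) fun χ hχ => by
          rw [(hrowY χ hχ).1, (hrowY χ hχ).2, hW], sum_const, hcardY, nsmul_eq_mul] at h2
      rw [Complex.ofReal_sum]
      simp only [hV]
      linear_combination h2
    exact (sum_eq_zero_iff_of_nonneg fun χ _ => sum_nonneg fun r _ => sum_nonneg fun r' _ =>
      Complex.normSq_nonneg _).mp (Complex.ofReal_eq_zero.mp h1)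
  have hconst : ∀ χ ∈ O, ∀ r, a (f^[r] χ) = a χ := by
    intro χ hχ r
    have key : ∀ i, i < t → a (f^[i] χ) = a χ := fun i hi => by
      have h1 := (sum_eq_zero_iff_of_nonneg fun r _ => sum_nonneg fun r' _ =>
        Complex.normSq_nonneg _).mp (hzero χ hχ) i (mem_range.mpr hi)
      have h2 := (sum_eq_zero_iff_of_nonneg fun r' _ => Complex.normSq_nonneg _).mp h1 0
        (mem_range.mpr S.ht)
      simpa [sub_eq_zero] using Complex.normSq_eq_zero.mp h2
    induction r using Nat.strong_induction_on with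
    | _ r ih =>
      rcases lt_or_ge r t with h | h
      · exact key r h
      · rw [← Nat.sub_add_cancel h, S.gram_shift]
        exact ih _ (by have := S.ht; omega)
  refine ⟨y, O, fun χ => ?_, ?_, fun χ hχ => ⟨?_, hconst χ hχ⟩, ?_⟩
  · simp only [hO, hY, mem_sdiff, mem_univ, true_and, mem_image, mem_range, not_exists, not_and]
    exact ⟨fun h j hj e => h j hj e.symm, fun h j hj e => h j hj e.symm⟩
  · rw [hO, card_sdiff_of_subset (subset_univ Y), hcardY, card_univ, Nat.sub_add_cancel]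
    rw [← hcardY, ← card_univ]; exact card_le_univ _
  · have h1 := S.eq (f χ) χ
    rw [S.inv, S.eq χ χ, if_pos rfl] at h1
    simp only [← iterate_succ_apply, hconst χ hχ] at h1
    by_contra hne
    rw [if_neg hne] at h1
    exact Nat.cast_ne_zero.mpr S.hp.ne_zero (by linear_combination h1 : (p : ℂ) = 0)
  have hsplit := sum_sdiff (f := fun χ => (∑ r ∈ range t, a (f^[r] χ)) *
    conj (∑ r ∈ range t, a (f^[r] χ))) (subset_univ Y)
  rw [← hO, htot.2, sum_congr rfl (s₂ := Y) fun χ hχ => by rw [(hrowY χ hχ).2], sum_const, hcardY,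
    sum_congr rfl (s₂ := O) fun χ hχ => show _ = (t : ℂ) * ((t : ℂ) * (a χ * conj (a χ))) by
      simp only [hconst χ hχ, sum_const, card_range, nsmul_eq_mul, map_mul, map_natCast]; ring,
    ← mul_sum, ← mul_sum, nsmul_eq_mul, ← mul_add] at hsplit
  have hE := mul_left_cancel₀ (Nat.cast_ne_zero.mpr S.ht.ne' : (t : ℂ) ≠ 0) hsplit
  refine ⟨fun h0 => ?_, hE, ?_, ?_⟩
  · have hint : IsIntegral ℤ ((p : ℂ) / (t : ℂ)) := by
      rw [h0, zero_mul, add_zero] at hE
      rw [← hE, mul_div_cancel_left₀ _ (Nat.cast_ne_zero.mpr S.ht.ne' : (t : ℂ) ≠ 0)]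
      exact IsIntegral.sum _ fun χ _ => (S.int _).mul ((S.int _).map (starRingEnd ℂ).toIntAlgHom)
    have h1 := (S.hp.eq_one_or_self_of_dvd t (Chars.dvd_of_isIntegral_div S.ht hint)).resolve_right
      S.htp.ne
    rw [h1, sum_range_one, iterate_zero_apply] at h0
    exact S.ne y h0
  · show ∑ r ∈ range t, a (f^[r] y) * conj (a (f^[r] y)) + _ = _
    have hA0 : ∑ r ∈ range t, a (f^[r] y) * conj (a (f^[r] y)) = A 0 := by simp [A]
    rw [hA0]
    refine mul_left_cancel₀ (Nat.cast_ne_zero.mpr S.ht.ne' : (t : ℂ) ≠ 0) ?_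
    linear_combination hE - hW
  · have hp0 : (p : ℂ) ≠ 0 := Nat.cast_ne_zero.mpr S.hp.ne_zero
    refine mul_left_cancel₀ hp0 ?_
    rw [mul_sum, sum_congr rfl fun χ _ => (S.eq χ χ).trans (by rw [if_pos rfl]), sum_sub_distrib,
      sum_comm, sum_congr (s₁ := range t) rfl fun r hr => by
        rw [S.orth r (mem_range.mp hr) r (mem_range.mp hr), if_pos rfl], sum_const, sum_const,
      card_range, nsmul_eq_mul, nsmul_eq_mul, card_univ,
      ← show O.card + t = Fintype.card X by
        rw [hO, card_sdiff_of_subset (subset_univ Y), hcardY, card_univ, Nat.sub_add_cancel]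
        rw [← hcardY, ← card_univ]; exact card_le_univ _]
    push_cast; ring

/-- The form is a sum of squares, and when it is not zero enough of them are not zero. -/
theorem exists_squares (S : CycModel p t f a R) :
    ∃ (l : ℕ) (ι : Type u) (_ : Fintype ι) (L : ι → X → ℂ),
      (l : ℂ) = ∑ χ, R χ χ ∧
      (∀ (C : Subring ℂ), (∀ χ, a χ ∈ C ∧ conj (a χ) ∈ C) → ∀ i χ, L i χ ∈ C) ∧
      (∀ z : X → ℂ, 2 * ((p : ℂ) * ∑ χ, ∑ ψ, z χ * conj (z ψ) * R χ ψ) =
        ∑ i, (∑ χ, L i χ * z χ) * conj (∑ χ, L i χ * z χ)) ∧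
      ∀ z : X → ℂ, (∃ i, ∑ χ, L i χ * z χ ≠ 0) →
        2 * l ≤ Nat.card {i // ∑ χ, L i χ * z χ ≠ 0} := by
  classical
  obtain ⟨y, O, hO, -, hOfix, hW0, hnorm, hA0, htr⟩ := S.structure'
  set W := ∑ r ∈ range t, a (f^[r] y) with hWdef
  set g : X → X := fun χ => if χ ∈ O then χ else y with hg
  have hRg : ∀ χ ψ, R (g χ) ψ = R χ ψ := by
    intro χ ψ
    simp only [hg]
    split_ifs with h
    · rfl
    · rw [hO] at h
      push Not at h
      obtain ⟨j, -, rfl⟩ := h
      rw [S.inv_iterate]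
  have hyO : y ∉ O := fun h => (hO y).mp h 0 S.ht rfl
  let I : X → Finset X := fun i => univ.filter fun χ => g χ = i
  let N : (X → ℂ) → X → ℂ := fun z i => ∑ χ ∈ I i, z χ
  -- the coefficient of `N · i` is the indicator of the fibre
  let e : X → X → ℂ := fun i χ => if g χ = i then 1 else 0
  have hN : ∀ z i, N z i = ∑ χ, e i χ * z χ := fun z i => by
    simp [N, I, e, sum_filter, ite_mul]
  let L : (Bool × O) ⊕ (Fin t × O × O) → X → ℂ := fun
    | .inl (_, ψ) => fun χ => conj (a ψ) * e y χ - conj W * e ψ χ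
    | .inr (_, ψ, φ) => fun χ => conj (a ψ) * e φ χ - conj (a φ) * e ψ χ
  have hL1 : ∀ z b ψ, ∑ χ, L (.inl (b, ψ)) χ * z χ = conj (a ψ) * N z y - conj W * N z ψ := by
    intro z b ψ
    simp only [L, sub_mul, sum_sub_distrib, mul_assoc, ← mul_sum, hN]
  have hL2 : ∀ z i ψ φ, ∑ χ, L (.inr (i, ψ, φ)) χ * z χ =
      conj (a ψ) * N z φ - conj (a φ) * N z ψ := by
    intro z i ψ φ
    simp only [L, sub_mul, sum_sub_distrib, mul_assoc, ← mul_sum, hN]
  refine ⟨O.card, (Bool × O) ⊕ (Fin t × O × O), inferInstance, L, htr.symm, ?_, ?_, ?_⟩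
  · intro C hC i χ
    have he : ∀ i χ, e i χ ∈ C := fun i χ => by
      simp only [e]; split_ifs; exacts [one_mem C, zero_mem C]
    rcases i with ⟨b, ψ⟩ | ⟨i, ψ, φ⟩
    · refine sub_mem (mul_mem (hC _).2 (he _ _)) (mul_mem ?_ (he _ _))
      rw [hWdef, map_sum]
      exact sum_mem fun r _ => (hC _).2
    · exact sub_mem (mul_mem (hC _).2 (he _ _)) (mul_mem (hC _).2 (he _ _))
  · intro z
    have hRsym : ∀ χ ψ, R χ (g ψ) = R χ ψ := fun χ ψ => by rw [← S.conj_R, hRg, S.conj_R]
    have hgO : ∀ χ, g χ ∈ insert y O := fun χ => by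
      simp only [hg]; split_ifs with h
      · exact mem_insert_of_mem h
      · exact mem_insert_self _ _
    have hfold : ∑ χ, ∑ ψ, z χ * conj (z ψ) * R χ ψ =
        ∑ i ∈ insert y O, ∑ j ∈ insert y O, N z i * conj (N z j) * R i j := by
      rw [← sum_fiberwise_of_maps_to (fun χ _ => hgO χ)]
      refine sum_congr rfl fun i _ => ?_
      rw [sum_congr rfl fun χ hχ => (sum_fiberwise_of_maps_to (fun ψ _ => hgO ψ)
        (fun ψ => z χ * conj (z ψ) * R χ ψ)).symm, sum_comm]
      refine sum_congr rfl fun j _ => ?_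
      simp only [N, I, map_sum, sum_mul, mul_sum]
      rw [sum_comm]
      refine sum_congr rfl fun ψ hψ => sum_congr rfl fun χ hχ => ?_
      rw [← hRg χ ψ, (mem_filter.mp hχ).2, ← hRsym i ψ, (mem_filter.mp hψ).2]
    have hD : ∀ N : X → ℂ, ∑ i ∈ insert y O, ∑ j ∈ insert y O, N i * conj (N j) *
        ((p : ℂ) * R i j) = (p : ℂ) * (∑ i ∈ insert y O, N i * conj (N i)) -
        ∑ r ∈ range t, (∑ i ∈ insert y O, N i * a (f^[r] i)) *
          conj (∑ i ∈ insert y O, N i * a (f^[r] i)) := by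
      intro N
      simp only [map_sum, sum_mul_sum]
      simp only [S.eq, mul_sub, sum_sub_distrib, mul_ite, mul_zero, mul_sum, map_mul]
      congr 1
      · exact sum_congr rfl fun i hi => by rw [sum_ite_eq, if_pos hi]; ring
      · rw [sum_comm_cycle]
        exact sum_congr rfl fun r _ => sum_congr rfl fun i _ => sum_congr rfl fun j _ => by ring
    rw [hfold, mul_sum, mul_sum]
    simp only [mul_sum, mul_left_comm (p : ℂ)]
    rw [← sum_congr rfl fun i _ => mul_sum _ _ (2 : ℂ), ← mul_sum, hD (N z)]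
    rw [Fintype.sum_sum_type, Fintype.sum_prod_type, Fintype.sum_bool, Fintype.sum_prod_type]
    simp only [hL1, hL2]
    rw [Fin.sum_const, Fintype.sum_prod_type]
    rw [← sum_subtype O (fun _ => Iff.rfl) (fun ψ => (conj (a ψ) * N z y - conj W * N z ψ) *
      conj (conj (a ψ) * N z y - conj W * N z ψ))]
    rw [← sum_subtype O (fun _ => Iff.rfl) (fun ψ => ∑ φ : O,
      (conj (a ψ) * N z φ - conj (a φ) * N z ψ) * conj (conj (a ψ) * N z φ - conj (a φ) * N z ψ))]
    rw [sum_congr rfl fun ψ _ => (sum_subtype O (fun _ => Iff.rfl) (fun φ =>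
      (conj (a ψ) * N z φ - conj (a φ) * N z ψ) *
        conj (conj (a ψ) * N z φ - conj (a φ) * N z ψ))).symm]
    rw [nsmul_eq_mul]
    set n := N z
    clear_value n W
    have hin : ∀ r, ∑ i ∈ insert y O, n i * a (f^[r] i) =
        n y * a (f^[r] y) + ∑ ψ ∈ O, n ψ * a ψ := fun r => by
      rw [sum_insert hyO, sum_congr rfl fun ψ hψ => by rw [(hOfix ψ hψ).2 r]]
    simp only [hin, sum_insert hyO, map_add, map_mul, map_sub, Complex.conj_conj, sub_mul, mul_sub,
      add_mul, mul_add, sum_add_distrib, sum_sub_distrib]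
    set S0 := ∑ ψ ∈ O, n ψ * a ψ with hS0
    have e1 : ∀ (u v : X → ℂ), ∑ i ∈ O, ∑ j ∈ O, u i * v j = (∑ i ∈ O, u i) * ∑ j ∈ O, v j :=
      fun u v => (sum_mul_sum ..).symm
    set SA := ∑ χ ∈ O, a χ * conj (a χ) with hSA
    set SN := ∑ χ ∈ O, n χ * conj (n χ) with hSN
    set A0 := ∑ r ∈ range t, a (f^[r] y) * conj (a (f^[r] y)) with hA0def
    clear_value S0 SA SN A0
    have r1 : ∑ r ∈ range t, n y * a (f^[r] y) * (conj (n y) * conj (a (f^[r] y))) =
        n y * conj (n y) * A0 := by rw [hA0def, mul_sum]; exact sum_congr rfl fun r _ => by ring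
    have r2 : ∑ r ∈ range t, n y * a (f^[r] y) * conj S0 = n y * conj S0 * W := by
      rw [hWdef, mul_sum]; exact sum_congr rfl fun r _ => by ring
    have r3 : ∑ r ∈ range t, S0 * (conj (n y) * conj (a (f^[r] y))) = S0 * conj (n y) * conj W := by
      rw [hWdef, map_sum, mul_sum]; exact sum_congr rfl fun r _ => by ring
    have o1 : ∑ ψ ∈ O, conj (a ψ) * n y * (a ψ * conj (n y)) = n y * conj (n y) * SA := by
      rw [hSA, mul_sum]; exact sum_congr rfl fun r _ => by ring
    have o2 : ∑ ψ ∈ O, conj W * n ψ * (a ψ * conj (n y)) = S0 * conj (n y) * conj W := by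
      rw [hS0, sum_mul, sum_mul]; exact sum_congr rfl fun r _ => by ring
    have o3 : ∑ ψ ∈ O, conj (a ψ) * n y * (W * conj (n ψ)) = n y * conj S0 * W := by
      rw [hS0, map_sum, mul_sum, sum_mul]; exact sum_congr rfl fun r _ => by rw [map_mul]; ring
    have o4 : ∑ ψ ∈ O, conj W * n ψ * (W * conj (n ψ)) = W * conj W * SN := by
      rw [hSN, mul_sum]; exact sum_congr rfl fun r _ => by ring
    have d1 : ∑ ψ ∈ O, ∑ φ ∈ O, conj (a ψ) * n φ * (a ψ * conj (n φ)) = SA * SN := by
      rw [hSA, hSN, ← e1]; exact sum_congr rfl fun r _ => sum_congr rfl fun _ _ => by ring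
    have d2 : ∑ ψ ∈ O, ∑ φ ∈ O, conj (a φ) * n ψ * (a ψ * conj (n φ)) = S0 * conj S0 := by
      rw [hS0, map_sum, ← e1]
      exact sum_congr rfl fun r _ => sum_congr rfl fun _ _ => by rw [map_mul]; ring
    have d3 : ∑ ψ ∈ O, ∑ φ ∈ O, conj (a ψ) * n φ * (a φ * conj (n ψ)) = S0 * conj S0 := by
      rw [hS0, map_sum, sum_comm, ← e1]
      exact sum_congr rfl fun r _ => sum_congr rfl fun _ _ => by rw [map_mul]; ring
    have d4 : ∑ ψ ∈ O, ∑ φ ∈ O, conj (a φ) * n ψ * (a φ * conj (n ψ)) = SA * SN := by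
      rw [hSA, hSN, sum_comm, ← e1]
      exact sum_congr rfl fun r _ => sum_congr rfl fun _ _ => by ring
    rw [r1, r2, r3, o1, o2, o3, o4, d1, d2, d3, d4, sum_const, card_range, nsmul_eq_mul]
    linear_combination (-2 * SN) * hnorm - (2 * n y * conj (n y)) * hA0
  · intro z hne
    let P : (Bool × O) ⊕ (Fin t × O × O) → Prop := fun i => ∑ χ, L i χ * z χ ≠ 0
    set T := (univ : Finset O).filter fun ψ : O => conj (a ψ) * N z y - conj W * N z ψ ≠ 0 with hT
    have hT2 : ∀ ψ ∈ T, ∀ φ ∉ T, conj (a ψ) * N z φ - conj (a φ) * N z ψ ≠ 0 := by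
      intro ψ hψ φ hφ h0
      have h1 : conj (a φ) * N z y - conj W * N z φ = 0 :=
        not_not.mp fun h => hφ (mem_filter.mpr ⟨mem_univ _, h⟩)
      refine (mem_filter.mp hψ).2 (mul_left_cancel₀ ((map_ne_zero conj).mpr (S.ne φ)) ?_)
      rw [mul_zero]
      linear_combination conj (a ψ) * h1 + conj W * h0
    have hTne : T.Nonempty := by
      by_contra hT0
      rw [not_nonempty_iff_eq_empty] at hT0
      have h1 : ∀ ψ : O, conj (a ψ) * N z y - conj W * N z ψ = 0 := fun ψ =>
        not_not.mp fun h => by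
          have : ψ ∈ T := mem_filter.mpr ⟨mem_univ _, h⟩
          rw [hT0] at this; exact notMem_empty _ this
      obtain ⟨(⟨b, ψ⟩ | ⟨i, ψ, φ⟩), hi⟩ := hne
      · exact hi ((hL1 z b ψ).trans (h1 ψ))
      · refine hi ?_
        rw [hL2 z i ψ φ]
        refine (mul_eq_zero.mp (show conj W * _ = 0 from ?_)).resolve_left
          ((map_ne_zero conj).mpr hW0)
        linear_combination conj (a φ) * h1 ψ - conj (a ψ) * h1 φ
    rw [Nat.card_eq_fintype_card, Fintype.card_subtype]
    set i₀ : Fin t := ⟨0, S.ht⟩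
    let F₁ : Finset ((Bool × O) ⊕ (Fin t × O × O)) := ((univ : Finset Bool) ×ˢ T).disjSum
      (({i₀} : Finset (Fin t)) ×ˢ (T ×ˢ Tᶜ ∪ Tᶜ ×ˢ T))
    refine le_trans ?_ (card_le_card (s := F₁) ?_)
    · have hdis : Disjoint (T ×ˢ Tᶜ) (Tᶜ ×ˢ T) :=
        disjoint_left.mpr fun x h1 h2 => mem_compl.mp (mem_product.mp h2).1 (mem_product.mp h1).1
      simp only [F₁, card_disjSum, card_product, card_union_of_disjoint hdis, card_univ,
        Fintype.card_bool, card_singleton, one_mul, card_compl, Fintype.card_coe]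
      have h1 : T.card ≤ O.card := (card_le_univ T).trans (le_of_eq (Fintype.card_coe O))
      have h2 : O.card - T.card ≤ T.card * (O.card - T.card) :=
        Nat.le_mul_of_pos_left _ hTne.card_pos
      rw [mul_comm (O.card - T.card)]
      omega
    · rintro (⟨b, ψ⟩ | ⟨i, ψ, φ⟩) h
      · refine mem_filter.mpr ⟨mem_univ _, ?_⟩
        rw [hL1 z b ψ]
        exact (mem_filter.mp (mem_product.mp (inl_mem_disjSum.mp h)).2).2
      · refine mem_filter.mpr ⟨mem_univ _, ?_⟩
        rw [hL2 z i ψ φ]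
        rcases mem_union.mp (mem_product.mp (inr_mem_disjSum.mp h)).2 with h | h
        · exact hT2 ψ (mem_product.mp h).1 φ (mem_compl.mp (mem_product.mp h).2)
        · intro h0
          exact hT2 φ (mem_product.mp h).2 ψ (mem_compl.mp (mem_product.mp h).1)
            (by linear_combination -h0)

end CycModel

end Cfsg.Agent.BlockChar
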