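import Cfsg.Agent.DegreeGraph.Values

/-!
# Embeddings of the cyclotomic field of a group, on roots and on values of subgroup characters
-/

set_option autoImplicit false

namespace Cfsg.Agent.BlockChar

open Cfsg.Agent.DegreeGraph

variable {G : Type*} [Group G] [Finite G]

theorem root_mem_fieldG {ζ : ℂ} (h : ζ ^ Nat.card G = 1) : ζ ∈ fieldG G := by
  haveI : NeZero (Nat.card G) := ⟨Nat.card_pos.ne'⟩
  obtain ⟨i, -, hi⟩ := (isPrimitiveRoot_rootG (G := G)).eq_pow_of_pow_eq_one h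
  rw [← hi]
  exact pow_mem rootG_mem i

theorem rootG_sub_pow (H : Subgroup G) (i : ℕ) : (rootG H ^ i) ^ Nat.card G = 1 := by
  obtain ⟨c, hc⟩ := Subgroup.card_subgroup_dvd_card H
  rw [← pow_mul, mul_comm, pow_mul, hc, pow_mul, (isPrimitiveRoot_rootG (G := H)).pow_eq_one,
    one_pow, one_pow]

theorem value_mem_sub {H : Subgroup G} {φ : H → ℂ} (hφ : Cfsg.IsCharacter H φ) (s : H) :
    φ s ∈ fieldG G := by
  obtain ⟨c, hc⟩ := isCharacter_exists_mult hφ s
  rw [← pow_one s, hc 1]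
  exact sum_mem fun i _ => mul_mem (natCast_mem _ _) (root_mem_fieldG (rootG_sub_pow H _))

/-- An embedding raises the roots of unity to one power and acts accordingly on characters. -/
theorem exists_pow_embedding (σ : fieldG G →ₐ[ℚ] ℂ) :
    ∃ j : ℕ, j.Coprime (Nat.card G) ∧
      (∀ (ζ : ℂ) (h : ζ ^ Nat.card G = 1), σ ⟨ζ, root_mem_fieldG h⟩ = ζ ^ j) ∧
      ∀ (H : Subgroup G) (φ : H → ℂ) (hφ : Cfsg.IsCharacter H φ) (s : H),
        σ ⟨φ s, value_mem_sub hφ s⟩ = φ (s ^ j) := by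
  set w : fieldG G := ⟨rootG G, rootG_mem⟩ with hw
  haveI : NeZero (Nat.card G) := ⟨Nat.card_pos.ne'⟩
  have hwp : IsPrimitiveRoot w (Nat.card G) :=
    IsPrimitiveRoot.of_map_of_injective (f := (fieldG G).val) (isPrimitiveRoot_rootG (G := G))
      (fieldG G).val.injective
  have hσw : IsPrimitiveRoot (σ w) (Nat.card G) := hwp.map_of_injective σ.injective
  obtain ⟨j, -, hcop, hj⟩ :=
    ((isPrimitiveRoot_rootG (G := G)).isPrimitiveRoot_iff).mp hσw
  have hroot : ∀ (ζ : ℂ) (h : ζ ^ Nat.card G = 1), σ ⟨ζ, root_mem_fieldG h⟩ = ζ ^ j := by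
    intro ζ h
    obtain ⟨i, -, hi⟩ := (isPrimitiveRoot_rootG (G := G)).eq_pow_of_pow_eq_one h
    have e : (⟨ζ, root_mem_fieldG h⟩ : fieldG G) = w ^ i := Subtype.ext (by simp [hw, hi])
    rw [e, map_pow, ← hj, ← hi, ← pow_mul, ← pow_mul, mul_comm]
  refine ⟨j, hcop, hroot, fun H φ hφ s => ?_⟩
  obtain ⟨c, hc⟩ := isCharacter_exists_mult hφ s
  have hx : (⟨φ s, value_mem_sub hφ s⟩ : fieldG G) = ∑ i, (c i : fieldG G) *
      ⟨rootG H ^ (i : ℕ), root_mem_fieldG (rootG_sub_pow H _)⟩ := by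
    apply Subtype.ext
    have h1 := hc 1
    rw [pow_one] at h1
    change φ s = _
    rw [h1]
    simp
  rw [hx, map_sum, hc j]
  refine Finset.sum_congr rfl fun i _ => ?_
  rw [map_mul, map_natCast, hroot _ (rootG_sub_pow H _), ← pow_mul]

end Cfsg.Agent.BlockChar
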