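import Cfsg.Agent.BlockChar.MajorCentral

/-!
# The height of a character and the centre of a defect group

Orbits of the centre of a defect group under the inertial group bound the heights.
-/

set_option autoImplicit false
set_option linter.unusedSectionVars false
set_option linter.style.haveILetI false

namespace Cfsg.Agent.BlockChar

open MonoidAlgebra
open scoped MonoidAlgebra ComplexConjugate
open Cfsg Cfsg.Agent Cfsg.Agent.Blocks

universe u v

section fusion

variable {k : Type v} [Field k] {G : Type u} [Group G] [Fintype G] {p : ℕ} [Fact p.Prime]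
  [CharP k p] {P Q : Subgroup G} {e f : k[G]}

/-- Fusion of subgroups centralized by a maximal pair is controlled by its stabilizer. -/
theorem exists_stab_of_central [IsAlgClosed k] (hmax : IsMaxPair p P e)
    (hle : PairLE p (Q, f) (P, e)) {g : G} (hg : PairLE p (conjS g Q, cj g f) (P, e))
    (hP : P ≤ Subgroup.centralizer (Q : Set G))
    (hPC : P ≤ Subgroup.centralizer ((conjS g Q : Subgroup G) : Set G)) :
    ∃ c ∈ Subgroup.centralizer ((conjS g Q : Subgroup G) : Set G), c * g ∈ stab P e := by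
  have hQ' := hg.isPair_left hmax.pair
  have hfo : OfBlock (cj g f) (conjS g Q) (cj g f) := by
    show br _ (cj g f) * cj g f = cj g f
    rw [br_eq_self hQ'.blk.supp, hQ'.blk.idem]
  have hin : IsMaxPairIn p (Subgroup.centralizer ((conjS g Q : Subgroup G) : Set G)) P e :=
    ⟨hmax.pair, hPC, centralizer_anti hg.le, fun R z _ hs => hmax.max R z hs⟩
  have hoP : OfBlock (cj g f) P e := (hg.ofBlock_iff_in hPC le_rfl hQ'.blk).mp hfo
  have hle' := hle.cj g
  have hgPC : conjS g P ≤ Subgroup.centralizer ((conjS g Q : Subgroup G) : Set G) := by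
    rw [← conjS_centralizer]
    exact conjS_le hP
  have hin' : IsMaxPairIn p (Subgroup.centralizer ((conjS g Q : Subgroup G) : Set G))
      (conjS g P) (cj g e) :=
    ⟨hmax.pair.cj g, hgPC, centralizer_anti hle'.le, fun R z _ hs => (hmax.cj g).max R z hs⟩
  obtain ⟨c, hc, hcP, hce⟩ := hin'.exists_conj hin hQ'.blk
    ((hle'.ofBlock_iff_in hgPC le_rfl hQ'.blk).mp hfo) hoP
  refine ⟨c, hc, mem_normalizer_of_conjS_eq ?_, ?_⟩
  · rw [conjS_mul]; exact hcP.symm
  · rw [cj_mul]; exact hce.symm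

end fusion

variable {G : Type u} [Group G] [Fintype G] {p : ℕ} [Fact p.Prime] {M : Ideal AlgInt}
  [M.IsMaximal] {B : Set (IrrCharacter G)} {P : Subgroup G} {e : (Res M)[G]}

/-- A block of `D C(D)` inducing the block gives a maximal pair. -/
theorem maxData_of_induced_sup (hpM : (p : AlgInt) ∈ M) (hPD : IsDefectGroup p M B P)
    {H : Subgroup G} (hH : H = P ⊔ Subgroup.centralizer (P : Set G))
    {b : Set (IrrCharacter H)} (hind : IsInducedBlock M H b B) :
    MaxData p B P (idemS M b) := by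
  classical
  haveI := charP_res (p := p) hpM
  have hb := isBlk_idemG hpM hind.2.1
  have hD := (isDefectGroup_iff_idemG hpM hind.2.1 P).mp hPD
  have hPH : P ≤ H := hH ▸ le_sup_left
  have hCH : Subgroup.centralizer (P : Set G) ≤ H := hH ▸ le_sup_right
  have hβ : IsBlk H (idemS M b) := isBlk_idemS hpM hind.1
  have hHN : H ≤ Subgroup.normalizer (P : Set G) :=
    hH ▸ sup_le Subgroup.le_normalizer (centralizer_le_normalizer P)
  -- the normal `p`-subgroup lies in a defect group of `b`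
  have hne : br P (idemS M b) ≠ 0 := br_blk_ne_zero hD.pgroup hPH hHN hβ
  obtain ⟨f, hf, hbf⟩ := exists_pair_of_br_ne_zero hβ hPH hD.pgroup hCH hne
  have hfix : Fixed H f := by
    intro x hx
    have hle : H ≤ stab P f := hH ▸ sup_le hf.le_stab hf.centralizer_le_stab
    exact (hle hx).2
  have hfH : IsBlk H f := isBlk_of_stable hf hPH hCH hHN hfix
  have heq : idemS M b = f := by
    by_contra h
    have h0 := congrArg (br P) (hβ.orth hfH h)
    rw [br_mul hD.pgroup (fun x hx => hβ.fixed x (hPH hx)) (fun x hx => hfix x (hPH hx)),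
      br_eq_self hf.blk.supp, map_zero, hbf] at h0
    exact hf.blk.ne_zero h0
  rw [heq]
  have hfo : OfBlock f P f := by
    show br P f * f = f
    rw [br_eq_self hf.blk.supp, hf.blk.idem]
  have hi := (isInducedBlock_iff hpM hind.1 hind.2.1).mp hind
  rw [heq] at hi
  have ho : OfBlock (idemG M B) P f :=
    (inducesIn_iff_ofBlock le_top hf hPH hCH hfH hfo hb).mp hi
  exact ⟨isMaxPair_of_isDef hb hD hf ho, hind.2.1, ho⟩

theorem le_centralizer_zpowers {v : G} (hc : ∀ w ∈ P, Commute v w) :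
    P ≤ Subgroup.centralizer ((Subgroup.zpowers v : Subgroup G) : Set G) :=
  fun w hw => mem_cz.mpr (hc w hw)

/-- The block below a maximal pair at a central element has full defect. -/
theorem blockDefect_locB_of_central (hpM : (p : AlgInt) ∈ M) (D : MaxData p B P e) {d : ℕ}
    (hd : Nat.card P = p ^ d) {v : G} (hv : v ∈ P) (hc : ∀ w ∈ P, Commute v w) [Fintype (cz v)] :
    blockDefect p (blkSet (M := M) v (locB p P e v)) = d := by
  classical
  haveI := charP_res (p := p) hpM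
  have hb := isBlk_idemG hpM D.blk
  have hle := locB_spec hpM D hv
  obtain ⟨hbs, hbe⟩ := blkSet_spec hpM (hle.isPair_left D.pmax.pair).blk
  have hPC : P ≤ cz v := le_centralizer_zpowers hc
  have hinf : P ⊓ Subgroup.centralizer ((Subgroup.zpowers v : Subgroup G) : Set G) = P :=
    inf_eq_left.mpr hPC
  have hfc : (pairFusion D.pmax.pair).IsFullyCentralized (Subgroup.zpowers v) := by
    refine ⟨Subgroup.zpowers_le.mpr hv, fun Q _ => Subgroup.card_le_of_le ?_⟩
    exact le_of_le_of_eq inf_le_left hinf.symm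
  have hdef := (isFullyCentralized_iff D.pmax hb D.ofB hle).mp hfc
  rw [hinf] at hdef
  have hDG : IsDefectGroup p M (blkSet (M := M) v (locB p P e v)) (P.subgroupOf (cz v)) := by
    rw [isDefectGroup_subgroupOf_iff hpM hPC hbs, hbe]
    exact hdef
  have h1 := card_defectGroup hpM hbs hDG
  rw [Nat.card_congr (Subgroup.subgroupOfEquivOfLe hPC).toEquiv, hd] at h1
  exact (Nat.pow_right_injective (Fact.out : p.Prime).two_le h1).symm

/-- A diagonal contribution is a nonnegative real number. -/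
theorem conP_self (χ : G → ℂ) (v : G) :
    0 ≤ (conP p P e χ χ v).re ∧ ((conP p P e χ χ v).re : ℂ) = conP p P e χ χ v := by
  letI := Fintype.ofFinite (cz v)
  rw [conP, m2_self, show (Nat.card (cz v) : ℂ) = ((Nat.card (cz v) : ℝ) : ℂ) from rfl,
    ← Complex.ofReal_inv, ← Complex.ofReal_mul, Complex.ofReal_re]
  exact ⟨mul_nonneg (by positivity) (Finset.sum_nonneg fun s _ => Complex.normSq_nonneg _), rfl⟩

theorem conP_pos (hpM : (p : AlgInt) ∈ M) (D : MaxData p B P e) {v : G} (hv : v ∈ P)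
    (hc : ∀ w ∈ P, Commute v w) {χ : IrrCharacter G} (hχ : χ ∈ B) :
    0 < (conP p P e (χ : G → ℂ) (χ : G → ℂ) v).re := by
  letI := Fintype.ofFinite (cz v)
  obtain ⟨s, hs, hsr, hne⟩ := exists_sec_ne_zero_of_central hpM D hv hc (locB_spec hpM D hv) hχ
  rw [conP, m2_self, show (Nat.card (cz v) : ℂ) = ((Nat.card (cz v) : ℝ) : ℂ) from rfl,
    ← Complex.ofReal_inv, ← Complex.ofReal_mul, Complex.ofReal_re]
  refine mul_pos (inv_pos.mpr (Nat.cast_pos.mpr Nat.card_pos)) ?_
  refine Finset.sum_pos' (fun s _ => Complex.normSq_nonneg _)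
    ⟨⟨s, hs⟩, mem_regs.mpr (by rwa [← Subgroup.orderOf_coe]), Complex.normSq_pos.mpr hne⟩

open scoped Classical in
/-- The contributions of the centre, by orbits, are at most one. -/
theorem sum_central_le_one (hpM : (p : AlgInt) ∈ M) (D : MaxData p B P e) (χ : IrrCharacter G) :
    ∑ v ∈ Finset.univ.filter (fun v : G => v ∈ P ∧ ∀ w ∈ P, Commute v w),
      (Nat.card (orbP P e v) : ℝ)⁻¹ * (conP p P e (χ : G → ℂ) (χ : G → ℂ) v).re ≤ 1 := by
  classical
  haveI := charP_res (p := p) hpM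
  set S := Finset.univ.filter (fun v : G => v ∈ P ∧ ∀ w ∈ P, Commute v w) with hS
  have hblk : ∀ v ∈ S, IsBlk (cz v) (locB p P e v) := fun v hv =>
    ((locB_spec hpM D (Finset.mem_filter.mp hv).2.1).isPair_left D.pmax.pair).blk
  let Ψ : G → (Res M)[G] → ℝ := fun u β => ∑ v ∈ S,
    if ∃ x : G, x * v * x⁻¹ = u ∧ cj x (locB p P e v) = β then (Nat.card (orbP P e v) : ℝ)⁻¹ else 0
  have hnn : ∀ u β, 0 ≤ Ψ u β := fun u β => Finset.sum_nonneg fun v _ => by
    split_ifs <;> positivity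
  have hle1 : ∀ u β, Ψ u β ≤ 1 := by
    intro u β
    simp only [Ψ]
    rw [← Finset.sum_filter]
    by_cases hV : (S.filter fun v => ∃ x : G, x * v * x⁻¹ = u ∧
        cj x (locB p P e v) = β).Nonempty
    · obtain ⟨v₀, hv₀⟩ := hV
      obtain ⟨hv₀S, y₀, h1₀, h2₀⟩ := Finset.mem_filter.mp hv₀
      obtain ⟨hv₀P, hv₀c⟩ := (Finset.mem_filter.mp hv₀S).2
      have key : ∀ v ∈ S.filter (fun v => ∃ x : G, x * v * x⁻¹ = u ∧
          cj x (locB p P e v) = β), v ∈ orbP P e v₀ := by
        intro v hv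
        obtain ⟨hvS, y, h1, h2⟩ := Finset.mem_filter.mp hv
        obtain ⟨hvP, hvc⟩ := (Finset.mem_filter.mp hvS).2
        have hgv : y₀⁻¹ * y * v * (y₀⁻¹ * y)⁻¹ = v₀ := by
          calc y₀⁻¹ * y * v * (y₀⁻¹ * y)⁻¹ = y₀⁻¹ * (y * v * y⁻¹) * y₀ := by group
            _ = y₀⁻¹ * (y₀ * v₀ * y₀⁻¹) * y₀ := by rw [h1, h1₀]
            _ = v₀ := by group
        have hg' : PairLE p (conjS (y₀⁻¹ * y) (Subgroup.zpowers v),
            cj (y₀⁻¹ * y) (locB p P e v)) (P, e) := by
          rw [conjS_zpowers, hgv, cj_mul, h2, ← h2₀, cj_inv_cj]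
          exact locB_spec hpM D hv₀P
        obtain ⟨c, hc, hcs⟩ := exists_stab_of_central D.pmax (locB_spec hpM D hvP) hg'
          (le_centralizer_zpowers hvc)
          (by rw [conjS_zpowers, hgv]; exact le_centralizer_zpowers hv₀c)
        rw [conjS_zpowers, hgv] at hc
        have hcv : v₀ * c = c * v₀ :=
          Subgroup.mem_centralizer_iff.mp hc v₀ (Subgroup.mem_zpowers v₀)
        have hmem : v₀ ∈ orbP P e v := ⟨_, hcs, by
          calc c * (y₀⁻¹ * y) * v * (c * (y₀⁻¹ * y))⁻¹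
              = c * (y₀⁻¹ * y * v * (y₀⁻¹ * y)⁻¹) * c⁻¹ := by group
            _ = v₀ := by rw [hgv, ← hcv, mul_inv_cancel_right]⟩
        rw [orbP_eq_of_mem hmem]
        exact ⟨1, one_mem _, by simp⟩
      rw [Finset.sum_congr rfl fun v hv => by rw [orbP_eq_of_mem (key v hv)]]
      rw [Finset.sum_const, nsmul_eq_mul]
      have hpos : 0 < Nat.card (orbP P e v₀) := by
        haveI : Nonempty (orbP P e v₀) := ⟨⟨v₀, 1, one_mem _, by simp⟩⟩
        exact Nat.card_pos
      rw [← div_eq_mul_inv, div_le_one (Nat.cast_pos.mpr hpos), Nat.cast_le,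
        Nat.card_eq_fintype_card, ← Set.toFinset_card]
      exact Finset.card_le_card fun v hv => Set.mem_toFinset.mpr (key v hv)
    · rw [Finset.not_nonempty_iff_eq_empty.mp hV, Finset.sum_empty]
      exact zero_le_one
  set U := Finset.univ.filter (fun u : G => ∃ k : ℕ, orderOf u = p ^ k) with hU
  have hm : ∀ u (β : (Res M)[G]), 0 ≤ (m2 p (χ : G → ℂ) (χ : G → ℂ) u β).re ∧
      m2 p (χ : G → ℂ) (χ : G → ℂ) u β =
        ((m2 p (χ : G → ℂ) (χ : G → ℂ) u β).re : ℂ) := fun u β => by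
    letI := Fintype.ofFinite (cz u)
    rw [m2_self, Complex.ofReal_re]
    exact ⟨Finset.sum_nonneg fun s _ => Complex.normSq_nonneg _, rfl⟩
  have h1 : (1 : ℂ) = (Nat.card G : ℂ)⁻¹ * ∑ u ∈ U, ∑ β ∈ blks (Res M) (cz u),
      m2 p (χ : G → ℂ) (χ : G → ℂ) u β := by
    have h := classInner_star (p := p) hpM χ χ (fun _ _ => 1) (fun _ _ => 1)
    rw [star_const_one hpM χ, Chars.classInner_irrCharacter, if_pos rfl] at h
    simpa using h
  have h2 : ∑ v ∈ S, (Nat.card (orbP P e v) : ℂ)⁻¹ * conP p P e (χ : G → ℂ) (χ : G → ℂ) v =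
      (Nat.card G : ℂ)⁻¹ * ∑ u ∈ U, ∑ β ∈ blks (Res M) (cz u),
        (Ψ u β : ℂ) * m2 p (χ : G → ℂ) (χ : G → ℂ) u β := by
    have hterm : ∀ v ∈ S, conP p P e (χ : G → ℂ) (χ : G → ℂ) v = (Nat.card G : ℂ)⁻¹ *
        ∑ u ∈ U, ∑ β ∈ blks (Res M) (cz u), conj (orbitInd v (locB p P e v) u β) *
          m2 p (χ : G → ℂ) (χ : G → ℂ) u β := fun v hv => by
      rw [conP, ← classInner_orbit hpM χ χ
        (orderOf_of_mem D.pmax.pair.pgroup (Finset.mem_filter.mp hv).2.1) (hblk v hv)]
      have h := classInner_star (p := p) hpM χ χ (fun _ _ => 1) (orbitInd v (locB p P e v))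
      rw [star_const_one hpM χ] at h
      simpa using h
    rw [Finset.sum_congr rfl fun v hv => by rw [hterm v hv]]
    simp only [Finset.mul_sum]
    rw [Finset.sum_comm]
    refine Finset.sum_congr rfl fun u _ => ?_
    rw [Finset.sum_comm]
    refine Finset.sum_congr rfl fun β _ => ?_
    simp only [Ψ, Complex.ofReal_sum, Finset.sum_mul, Finset.mul_sum]
    refine Finset.sum_congr rfl fun v _ => ?_
    unfold orbitInd
    split_ifs
    · push_cast; rw [map_one]; ring
    · simp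
  have h1' := congrArg Complex.re h1
  have h2' := congrArg Complex.re h2
  simp only [← Complex.ofReal_natCast, ← Complex.ofReal_inv, Complex.re_ofReal_mul,
    Complex.re_sum, Complex.one_re] at h1' h2'
  rw [h2', h1']
  refine mul_le_mul_of_nonneg_left (Finset.sum_le_sum fun u _ => Finset.sum_le_sum fun β _ => ?_)
    (by positivity)
  exact mul_le_of_le_one_left (hm u β).1 (hle1 u β)

/-- The scaled contributions are algebraic integers. -/
theorem isIntegral_pow_conP (hpM : (p : AlgInt) ∈ M) (D : MaxData p B P e) {d : ℕ}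
    (hd : Nat.card P = p ^ d) {v : G} (hv : v ∈ P) (hc : ∀ w ∈ P, Commute v w)
    {χ : IrrCharacter G} (hχ : χ ∈ B) :
    blockHeight p B (χ : G → ℂ) ≤ d ∧
    IsIntegral ℤ ((p : ℂ) ^ (d - blockHeight p B (χ : G → ℂ)) *
      conP p P e (χ : G → ℂ) (χ : G → ℂ) v) := by
  classical
  haveI := charP_res (p := p) hpM
  letI := Fintype.ofFinite (cz v)
  obtain ⟨k, hk⟩ := orderOf_of_mem D.pmax.pair.pgroup hv
  have hβ : IsBlk (cz v) (locB p P e v) :=
    ((locB_spec hpM D hv).isPair_left D.pmax.pair).blk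
  obtain ⟨hbs, hbe⟩ := blkSet_spec hpM hβ
  have hA := isIntegral_pow_defect_m2 hpM χ (show v ^ p ^ k = 1 from hk ▸ pow_orderOf_eq_one v) hbs
  rw [blockDefect_locB_of_central hpM D hd hv hc, hbe] at hA
  have hB' := isIntegral_ratio_m2 hpM χ ⟨k, hk⟩ hβ
  change IsIntegral ℤ ((p : ℂ) ^ d * conP p P e (χ : G → ℂ) (χ : G → ℂ) v) at hA
  change IsIntegral ℤ ((Nat.card G : ℂ) / (χ : G → ℂ) 1 *
    conP p P e (χ : G → ℂ) (χ : G → ℂ) v) at hB'
  generalize conP p P e (χ : G → ℂ) (χ : G → ℂ) v = m at hA hB'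
  have hdB : blockDefect p B = d := by
    have hDB : IsDefectGroup p M B P :=
      (isDefectGroup_iff_idemG hpM D.blk P).mpr (D.pmax.isDef (isBlk_idemG hpM D.blk) D.ofB)
    have h1 := card_defectGroup hpM D.blk hDB
    rw [hd] at h1
    exact (Nat.pow_right_injective (Fact.out : p.Prime).two_le h1).symm
  set h := blockHeight p B (χ : G → ℂ)
  set n := charDegree (χ : G → ℂ)
  set a := (Nat.card G).factorization p
  set w := n.factorization p
  obtain ⟨h1, hn0⟩ := charDegree_eq χ.2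
  have hwd : w + d = a + h := by
    have := degree_eq_height hpM D.blk hχ
    rwa [hdB] at this
  have hwa : w ≤ a := (Nat.factorization_le_iff_dvd hn0.ne' Nat.card_pos.ne').mpr
    (charDegree_dvd_card χ.2) p
  have hhd : h ≤ d := by omega
  refine ⟨hhd, ?_⟩
  set g := Nat.card G / p ^ a with hg
  have hn' : n / p ^ w ≠ 0 := (Nat.ordCompl_pos p hn0.ne').ne'
  have hcop : IsCoprime ((p ^ h : ℕ) : ℤ) (g : ℤ) := by
    rw [Nat.isCoprime_iff_coprime]
    exact (Nat.coprime_ordCompl (Fact.out : p.Prime) Nat.card_pos.ne').pow_left h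
  obtain ⟨x, y, hxy⟩ := hcop
  have hB2 : IsIntegral ℤ ((p : ℂ) ^ (d - h) * (g : ℂ) * m) := by
    have key : (p : ℂ) ^ (d - h) * (g : ℂ) * m =
        ((n / p ^ w : ℕ) : ℂ) * ((Nat.card G : ℂ) / (χ : G → ℂ) 1 * m) := by
      rw [h1, show (charDegree (χ : G → ℂ) : ℂ) = (n : ℂ) from rfl,
        show (Nat.card G : ℂ) = (p : ℂ) ^ a * (g : ℂ) by
          rw [hg, ← Nat.cast_pow, ← Nat.cast_mul, Nat.ordProj_mul_ordCompl_eq_self],
        show (n : ℂ) = (p : ℂ) ^ w * ((n / p ^ w : ℕ) : ℂ) by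
          rw [← Nat.cast_pow, ← Nat.cast_mul, Nat.ordProj_mul_ordCompl_eq_self],
        show a = w + (d - h) by omega, pow_add]
      have : (p : ℂ) ≠ 0 := Nat.cast_ne_zero.2 (Fact.out : p.Prime).ne_zero
      have : ((n / p ^ w : ℕ) : ℂ) ≠ 0 := Nat.cast_ne_zero.2 hn'
      field_simp
    rw [key]
    exact (isIntegral_natCast _).mul hB'
  have key : (p : ℂ) ^ (d - h) * m =
      (x : ℂ) * ((p : ℂ) ^ d * m) + (y : ℂ) * ((p : ℂ) ^ (d - h) * (g : ℂ) * m) := by
    have hxy' : (x : ℂ) * (p : ℂ) ^ h + (y : ℂ) * (g : ℂ) = 1 := by exact_mod_cast hxy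
    rw [← Nat.sub_add_cancel hhd, pow_add, Nat.add_sub_cancel]
    linear_combination -((p : ℂ) ^ (d - h) * m) * hxy'
  rw [key]
  exact ((isIntegral_intCast _).mul hA).add ((isIntegral_intCast _).mul hB2)

open scoped Classical in
/-- The centre of a defect group against heights and orbit lengths. -/
theorem card_center_mul_le (hpM : (p : AlgInt) ∈ M) (D : MaxData p B P e) {d : ℕ}
    (hd : Nat.card P = p ^ d) (hd0 : 0 < d) {N : ℕ}
    (hN : ∀ v ∈ P, (∀ w ∈ P, Commute v w) → Nat.card (orbP P e v) ≤ N)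
    {χ : IrrCharacter G} (hχ : χ ∈ B) :
    (Finset.univ.filter (fun v : G => v ∈ P ∧ ∀ w ∈ P, Commute v w)).card *
      p ^ blockHeight p B (χ : G → ℂ) ≤ p ^ d * N := by
  classical
  haveI := charP_res (p := p) hpM
  haveI := DegreeGraph.finiteDimensional_fieldG (G := G)
  set S := Finset.univ.filter (fun v : G => v ∈ P ∧ ∀ w ∈ P, Commute v w) with hS
  set h := blockHeight p B (χ : G → ℂ) with hh
  let r : S → ℝ := fun v => (p : ℝ) ^ (d - h) * (conP p P e (χ : G → ℂ) (χ : G → ℂ) v).re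
  have hmemS : ∀ v : S, (v : G) ∈ P ∧ ∀ w ∈ P, Commute (v : G) w := fun v =>
    (Finset.mem_filter.mp v.2).2
  have hre : ∀ v : S, ((r v : ℝ) : ℂ) =
      (p : ℂ) ^ (d - h) * conP p P e (χ : G → ℂ) (χ : G → ℂ) v := fun v => by
    simp only [r]
    rw [Complex.ofReal_mul, (conP_self _ _).2, Complex.ofReal_pow, Complex.ofReal_natCast]
  have hhd : h ≤ d := (isIntegral_pow_conP hpM D hd P.one_mem (fun w _ => Commute.one_left w) hχ).1
  have hpG : p ∣ Nat.card G :=
    ((dvd_pow_self p hd0.ne').trans (hd ▸ dvd_rfl)).trans (Subgroup.card_subgroup_dvd_card P)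
  have hmem2 : ∀ v : S, m2 p (χ : G → ℂ) (χ : G → ℂ) v (locB p P e v) ∈ DegreeGraph.fieldG G := by
    intro v
    letI := Fintype.ofFinite (cz (v : G))
    obtain ⟨k, hk⟩ := orderOf_of_mem D.pmax.pair.pgroup (hmemS v).1
    obtain ⟨hbs, hbe⟩ :=
      blkSet_spec hpM ((locB_spec hpM D (hmemS v).1).isPair_left D.pmax.pair).blk
    obtain ⟨j, hjG, hroot, hchar⟩ := exists_pow_embedding (DegreeGraph.fieldG G).val
    obtain ⟨hmem, -⟩ := exists_pow_m2 hpM χ hk hbs _ (hjG.coprime_dvd_right hpG) hjG hroot hchar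
    rwa [hbe] at hmem
  have hmemr : ∀ v : S, ((r v : ℝ) : ℂ) ∈ DegreeGraph.fieldG G := fun v => by
    rw [hre, conP]
    exact mul_mem (pow_mem (natCast_mem _ _) _) (mul_mem (inv_mem (natCast_mem _ _)) (hmem2 v))
  have hgal := DegreeGraph.card_le_sum_of_galois (Finset.univ : Finset S) (DegreeGraph.fieldG G) r
    (fun v _ => mul_pos (pow_pos (Nat.cast_pos.mpr (Fact.out : p.Prime).pos) _)
      (conP_pos hpM D (hmemS v).1 (hmemS v).2 hχ))
    (fun v _ => by
      rw [hre]; exact (isIntegral_pow_conP hpM D hd (hmemS v).1 (hmemS v).2 hχ).2)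
    hmemr ?_
  swap
  · intro σ
    obtain ⟨j, hjG, hroot, hchar⟩ := exists_pow_embedding σ
    have hjp : j.Coprime p := hjG.coprime_dvd_right hpG
    refine ⟨fun v => ⟨(v : G) ^ j, Finset.mem_filter.mpr ⟨Finset.mem_univ _,
      P.pow_mem (hmemS v).1 j, fun w hw => ((hmemS v).2 w hw).pow_left j⟩⟩, ?_, fun _ _ =>
      Finset.mem_univ _, fun v _ => ?_⟩
    · exact fun a _ b _ h => Subtype.ext
        (DegreeGraph.pow_coprime_injective hjG (congrArg Subtype.val h))
    letI := Fintype.ofFinite (cz (v : G))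
    obtain ⟨k, hk⟩ := orderOf_of_mem D.pmax.pair.pgroup (hmemS v).1
    have hv' : (v : G) ^ p ^ k = 1 := hk ▸ pow_orderOf_eq_one _
    obtain ⟨hbs, hbe⟩ :=
      blkSet_spec hpM ((locB_spec hpM D (hmemS v).1).isPair_left D.pmax.pair).blk
    obtain ⟨hmem, hσ⟩ := exists_pow_m2 hpM χ hk hbs σ hjp hjG hroot hchar
    have hloc : locB p P e ((v : G) ^ j) = locB p P e v := by
      refine (eq_locB hpM D (P.pow_mem (hmemS v).1 j) ?_).symm
      rw [cz_pow hv' hjp]
      exact locB_spec hpM D (hmemS v).1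
    have hcz : Nat.card (cz ((v : G) ^ j)) = Nat.card (cz (v : G)) := by
      rw [cz, cz, cz_pow hv' hjp]
    have e1 : (⟨((r v : ℝ) : ℂ), hmemr v⟩ : DegreeGraph.fieldG G) =
        (p : DegreeGraph.fieldG G) ^ (d - h) *
          ((Nat.card (cz (v : G)) : DegreeGraph.fieldG G)⁻¹ * ⟨_, hmem⟩) := by
      apply Subtype.ext
      simp only [hre, conP, hbe]
      simp
    rw [e1, map_mul, map_mul, map_pow, map_inv₀, map_natCast, map_natCast, hσ, hbe, hre, conP,
      hloc, hcz]
  have hw : ∀ v : S, (conP p P e (χ : G → ℂ) (χ : G → ℂ) v).re ≤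
      (N : ℝ) * ((Nat.card (orbP P e (v : G)) : ℝ)⁻¹ *
        (conP p P e (χ : G → ℂ) (χ : G → ℂ) v).re) := by
    intro v
    rw [← mul_assoc]
    refine le_mul_of_one_le_left (conP_self _ _).1 ?_
    haveI : Nonempty (orbP P e (v : G)) := ⟨⟨v, 1, one_mem _, by simp⟩⟩
    rw [← div_eq_mul_inv, one_le_div (Nat.cast_pos.mpr Nat.card_pos), Nat.cast_le]
    exact hN v (hmemS v).1 (hmemS v).2
  have hmain : (S.card : ℝ) ≤ (p : ℝ) ^ (d - h) * N := by
    rw [Finset.card_univ, Fintype.card_coe] at hgal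
    refine hgal.trans ?_
    simp only [r, ← Finset.mul_sum]
    refine mul_le_mul_of_nonneg_left ?_ (by positivity)
    refine (Finset.sum_le_sum fun v _ => hw v).trans ?_
    rw [← Finset.mul_sum, Finset.univ_eq_attach, Finset.sum_attach S (fun v =>
      (Nat.card (orbP P e v) : ℝ)⁻¹ * (conP p P e (χ : G → ℂ) (χ : G → ℂ) v).re)]
    exact mul_le_of_le_one_right (Nat.cast_nonneg N) (sum_central_le_one hpM D χ)
  have hmain' : S.card ≤ p ^ (d - h) * N := by exact_mod_cast hmain
  calc S.card * p ^ h ≤ p ^ (d - h) * N * p ^ h := Nat.mul_le_mul_right _ hmain'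
    _ = p ^ d * N := by rw [mul_right_comm, ← pow_add, Nat.sub_add_cancel hhd]

/-- An orbit of a central element is no longer than the index in the inertial group. -/
theorem card_orbP_le_relIndex {H T : Subgroup G} (hT : stab P e ≤ T) {v : G}
    (hH : ∀ x ∈ H, Commute x v) : Nat.card (orbP P e v) ≤ H.relIndex T := by
  classical
  let F : orbP P e v → T ⧸ H.subgroupOf T := fun w =>
    QuotientGroup.mk ⟨w.2.choose, hT w.2.choose_spec.1⟩
  refine Nat.card_le_card_of_injective F fun w w' h => ?_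
  have h' := QuotientGroup.eq.mp h
  rw [Subgroup.mem_subgroupOf] at h'
  have hc := hH _ h'
  apply Subtype.ext
  calc (w : G) = w.2.choose * v * w.2.choose⁻¹ := w.2.choose_spec.2.symm
    _ = w.2.choose * ((w.2.choose⁻¹ * w'.2.choose) * v * (w.2.choose⁻¹ * w'.2.choose)⁻¹) *
        w.2.choose⁻¹ := by
      rw [show (w.2.choose⁻¹ * w'.2.choose) * v = v * (w.2.choose⁻¹ * w'.2.choose) from hc.eq,
        mul_inv_cancel_right]
    _ = w'.2.choose * v * w'.2.choose⁻¹ := by group
    _ = (w' : G) := w'.2.choose_spec.2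

end Cfsg.Agent.BlockChar
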