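import Cfsg.Agent.BlockChar.RankTwoForm
import Cfsg.Agent.BlockChar.CentralQuot
import Cfsg.Agent.BlockChar.MajorHeight
import Cfsg.Agent.BlockChar.RankBounds
import Cfsg.Agent.BlockChar.NilpotentBlock

/-!
# The number of characters of a block against its defect

`k(B) ≤ p^d` for `d ≤ 2` and `k(B) ≤ p^{2d-2}` for `d ≥ 3`.
-/

set_option autoImplicit false
set_option linter.unusedSectionVars false
set_option linter.style.haveILetI false

namespace Cfsg.Agent.BlockChar

open MonoidAlgebra
open scoped MonoidAlgebra ComplexConjugate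
open Cfsg Cfsg.Agent Cfsg.Agent.Blocks

universe u

section roots

variable {p : ℕ}

theorem conj_mem_closure_roots {x : ℂ} (hx : x ∈ Subring.closure {z : ℂ | z ^ p = 1}) :
    conj x ∈ Subring.closure {z : ℂ | z ^ p = 1} := by
  have h : Subring.closure {z : ℂ | z ^ p = 1} ≤
      (Subring.closure {z : ℂ | z ^ p = 1}).comap (starRingEnd ℂ) :=
    Subring.closure_le.mpr fun z hz => Subring.subset_closure (show conj z ^ p = 1 by
      rw [← map_pow, show z ^ p = 1 from hz, map_one])
  exact h hx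

theorem isIntegral_of_mem_closure_roots (hp : 0 < p) {x : ℂ}
    (hx : x ∈ Subring.closure {z : ℂ | z ^ p = 1}) : IsIntegral ℤ x := by
  have h : Subring.closure {z : ℂ | z ^ p = 1} ≤ (integralClosure ℤ ℂ).toSubring :=
    Subring.closure_le.mpr fun z (hz : z ^ p = 1) =>
      IsIntegral.of_pow hp (by rw [hz]; exact isIntegral_one)
  exact h hx

variable {G : Type u} [Group G] [Fintype G]

theorem mem_fieldG_of_closure (hd : p ∣ Nat.card G) {x : ℂ}
    (hx : x ∈ Subring.closure {z : ℂ | z ^ p = 1}) : x ∈ DegreeGraph.fieldG G := by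
  have h : Subring.closure {z : ℂ | z ^ p = 1} ≤ (DegreeGraph.fieldG G).toSubalgebra.toSubring :=
    Subring.closure_le.mpr fun z (hz : z ^ p = 1) => root_mem_fieldG (by
      obtain ⟨c, hc⟩ := hd
      rw [hc, pow_mul, hz, one_pow])
  exact h hx

/-- Embeddings of the cyclotomic field commute with conjugation. -/
theorem map_conj_closure (hd : p ∣ Nat.card G) (hp : 0 < p)
    (σ : DegreeGraph.fieldG G →ₐ[ℚ] ℂ) {x : ℂ}
    (hx : x ∈ Subring.closure {z : ℂ | z ^ p = 1}) :
    σ ⟨conj x, mem_fieldG_of_closure hd (conj_mem_closure_roots hx)⟩ =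
      conj (σ ⟨x, mem_fieldG_of_closure hd hx⟩) := by
  induction hx using Subring.closure_induction with
  | mem z hz =>
    have hz' : z ^ p = 1 := hz
    set w : DegreeGraph.fieldG G := ⟨z, mem_fieldG_of_closure hd (Subring.subset_closure hz)⟩
    have hw : w ^ p = 1 := Subtype.ext hz'
    have hσ : σ w ^ p = 1 := by rw [← map_pow, hw, map_one]
    rw [← Complex.inv_eq_conj (Complex.norm_eq_one_of_pow_eq_one hσ hp.ne'), ← map_inv₀]
    congr 1
    exact Subtype.ext (Complex.inv_eq_conj (Complex.norm_eq_one_of_pow_eq_one hz' hp.ne')).symm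
  | zero =>
    simp only [map_zero]
    exact (map_zero σ).trans ((congrArg conj (map_zero σ)).trans (map_zero conj)).symm
  | one =>
    simp only [map_one]
    exact (map_one σ).trans ((congrArg conj (map_one σ)).trans (map_one conj)).symm
  | add a c ha hc iha ihc =>
    refine Eq.trans ?_ ((congrArg₂ (· + ·) iha ihc).trans ?_)
    · rw [← map_add]; congr 1; exact Subtype.ext (map_add conj a c)
    · rw [← map_add conj, ← map_add σ]; rfl
  | neg a ha iha =>
    refine Eq.trans ?_ ((congrArg Neg.neg iha).trans ?_)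
    · rw [← map_neg]; congr 1
    · rw [← map_neg conj, ← map_neg σ]; rfl
  | mul a c ha hc iha ihc =>
    refine Eq.trans ?_ ((congrArg₂ (· * ·) iha ihc).trans ?_)
    · rw [← map_mul]; congr 1; exact Subtype.ext (map_mul conj a c)
    · rw [← map_mul conj, ← map_mul σ]; rfl

end roots

variable {G : Type u} [Group G] [Fintype G] {p : ℕ} [Fact p.Prime] {M : Ideal AlgInt}
  [M.IsMaximal] {B : Set (IrrCharacter G)} {P : Subgroup G} {e : (Res M)[G]}

/-- A local block on which the inertial group acts trivially has rank one. -/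
theorem rank_one_of_free (hpM : (p : AlgInt) ∈ M) (D : MaxData p B P e)
    (hab : ∀ x ∈ P, ∀ y ∈ P, x * y = y * x) {v : G} (hv : v ∈ P)
    (hfree : stab P e ⊓ cz v ≤ Subgroup.centralizer (P : Set G)) [Fintype (cz v)] :
    blockRank p (blkSet (M := M) v (locB p P e v)) = 1 := by
  haveI := charP_res (p := p) hpM
  have hle := locB_spec hpM D hv
  obtain ⟨hbs, hbe⟩ := blkSet_spec hpM (hle.isPair_left D.pmax.pair).blk
  refine (blockRank_of_nilpotent hpM ?_).1
  rw [isNilpotentBlock_sub_iff hpM hbs, hbe]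
  exact (isNilBIn_iff_abelian D.pmax (isBlk_idemG hpM D.blk) D.ofB hab hle).mpr hfree

theorem card_pair_group (hpM : (p : AlgInt) ∈ M) (D : MaxData p B P e) :
    Nat.card P = p ^ blockDefect p B :=
  haveI := charP_res (p := p) hpM
  card_defectGroup hpM D.blk
    ((isDefectGroup_iff_idemG hpM D.blk P).mpr (D.pmax.isDef (isBlk_idemG hpM D.blk) D.ofB))

open scoped Classical in
/-- `k(B) ≤ p²` for a defect group of order `p²` with an element of order `p` fixed by a
nontrivial part of the inertial group. -/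
theorem card_le_sq_of_fixed (hpM : (p : AlgInt) ∈ M) (D : MaxData p B P e)
    (hab : ∀ x ∈ P, ∀ y ∈ P, x * y = y * x) (hcard : Nat.card P = p ^ 2) {u : G} (huP : u ∈ P)
    (hu : orderOf u = p)
    (hnf : ¬ stab P e ⊓ cz u ≤ Subgroup.centralizer (P : Set G)) :
    Nat.card B ≤ p ^ 2 := by
  haveI := charP_res (p := p) hpM
  have hp : p.Prime := Fact.out
  letI : ∀ v : G, Fintype (cz v) := fun v => Fintype.ofFinite _
  set T := stab P e ⊓ cz u with hT
  have hPH : P ≤ cz u := fun x hx => mem_cz.mpr (hab u huP x hx)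
  have hCH : Subgroup.centralizer (P : Set G) ≤ cz u := fun x hx =>
    mem_cz.mpr (Subgroup.mem_centralizer_iff.mp hx u huP)
  have hu1 : u ≠ 1 := fun h => hp.ne_one (by rw [← hu, h, orderOf_one])
  have hufix : ∀ t ∈ T, t * u * t⁻¹ = u := fun t ht => by
    rw [← (mem_cz.mp ht.2).eq, mul_inv_cancel_right]
  obtain ⟨φ, f, hf, hst, -, hφu⟩ := exists_stable_linear (T := T) (Z := (⊥ : Subgroup G))
    D.pmax.pair.pgroup hab (fun t ht => (Subgroup.mem_inf.mp ht).1.1)
    (relIndex_stab_prime_to hpM D.pmax hab inf_le_left)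
    (fun t _ z hz => by rw [Subgroup.mem_bot.mp hz]; group) huP hufix
    (fun h => hu1 (Subgroup.mem_bot.mp h))
  have hmem : ∀ t ∈ T, ∀ x : P, t * (x : G) * t⁻¹ ∈ P := fun t ht x =>
    (Subgroup.mem_normalizer_iff.mp (Subgroup.mem_inf.mp ht).1.1 x).mp x.2
  have hker : ∀ (t : G) (ht : t ∈ T) (x : P), φ ⟨_, hmem t ht x⟩ = φ x := fun t ht x => by
    refine Units.ext ?_
    rw [← hf, ← hf]
    exact hst t ht x x.2
  have hkne : φ.ker ≠ ⊥ := by
    intro hbot
    refine hnf fun t ht => Subgroup.mem_centralizer_iff.mpr fun x hx => ?_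
    have h := congrArg Subtype.val
      ((MonoidHom.ker_eq_bot_iff φ).mp hbot (hker t ht ⟨x, hx⟩))
    exact (mul_inv_eq_iff_eq_mul.mp h).symm
  have hkcard : Nat.card φ.ker = p := by
    obtain ⟨i, hi, hi'⟩ := (Nat.dvd_prime_pow hp).mp
      (hcard ▸ Subgroup.card_subgroup_dvd_card φ.ker)
    interval_cases i
    · exact absurd (Subgroup.card_eq_one.mp (by rw [hi', pow_zero])) hkne
    · rw [hi', pow_one]
    · refine absurd ?_ hφu
      exact MonoidHom.mem_ker.mp (by
        rw [Subgroup.eq_top_of_card_eq φ.ker (hi'.trans hcard.symm)]; exact Subgroup.mem_top _)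
  obtain ⟨⟨⟨w, hwP⟩, hwk⟩, hw⟩ := exists_prime_orderOf_dvd_card' (G := φ.ker) p (by rw [hkcard])
  rw [← Subgroup.orderOf_coe, ← Subgroup.orderOf_coe] at hw
  change orderOf w = p at hw
  have hkerW : ∀ x : P, φ x = 1 → (x : G) ∈ Subgroup.zpowers w := by
    intro x hx
    have heq : Subgroup.zpowers (⟨⟨w, hwP⟩, hwk⟩ : φ.ker) = ⊤ := Subgroup.eq_top_of_card_eq _ (by
      rw [Nat.card_zpowers, ← Subgroup.orderOf_coe, ← Subgroup.orderOf_coe, hkcard]; exact hw)
    obtain ⟨i, hi⟩ := (heq ▸ Subgroup.mem_top (⟨x, MonoidHom.mem_ker.mpr hx⟩ : φ.ker) :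
      (⟨x, MonoidHom.mem_ker.mpr hx⟩ : φ.ker) ∈ Subgroup.zpowers (⟨⟨w, hwP⟩, hwk⟩ : φ.ker))
    exact ⟨i, congrArg (fun y : φ.ker => ((y : P) : G)) hi⟩
  have hwu : w ∉ Subgroup.zpowers u := by
    intro h
    have hle : Subgroup.zpowers w ≤ Subgroup.zpowers u := Subgroup.zpowers_le.mpr h
    have heq := Subgroup.eq_of_le_of_card_ge hle (by rw [Nat.card_zpowers, Nat.card_zpowers, hu, hw])
    obtain ⟨i, hi⟩ := (heq ▸ Subgroup.mem_zpowers u : u ∈ Subgroup.zpowers w)
    refine hφu ?_
    rw [show (⟨u, huP⟩ : P) = (⟨w, hwP⟩ : P) ^ i from Subtype.ext (by simpa using hi.symm), map_zpow,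
      MonoidHom.mem_ker.mp hwk, one_zpow]
  obtain ⟨P', e', B', S, D', -⟩ := exists_subPair hpM D.pmax hPH hCH
  set β := locB p P e u with hβdef
  have hle := locB_spec hpM D huP
  have hβ : IsBlk (cz u) β := (hle.isPair_left D.pmax.pair).blk
  obtain ⟨hbs, hbe⟩ := blkSet_spec hpM hβ
  have hB' : blkSet (M := M) u β = B' := by
    refine eq_of_idemG_eq hpM hbs D'.blk ((existsUnique_ofBlock D'.pmax.pair).unique
      ⟨isBlk_idemG hpM hbs, ?_⟩ ⟨isBlk_idemG hpM D'.blk, D'.ofB⟩)
    show br P' (idemG M (blkSet (M := M) u β)) * e' = e'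
    refine emb_injective ?_
    rw [map_mul, emb_br, emb_idemG, S.map_eq, S.emb_eq, hbe]
    refine (hle.ofBlock_iff_in hPH le_rfl hβ).mp ?_
    show br _ β * β = β
    rw [br_eq_self hβ.supp, hβ.idem]
  subst hB'
  have hab' : ∀ x ∈ P', ∀ y ∈ P', x * y = y * x := fun x hx y hy =>
    Subtype.ext (hab _ (S.mem_iff.mp hx) _ (S.mem_iff.mp hy))
  obtain ⟨ι, hι, L, hLC, hform, hnum⟩ := exists_squares_rank_two hpM D' hab'
    (by rw [← hcard, ← S.map_eq, Subgroup.card_map_of_injective (Subgroup.subtype_injective _)])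
    (u := ⟨u, hPH huP⟩) (w := ⟨w, hPH hwP⟩) (S.mem_iff.mpr huP) (S.mem_iff.mpr hwP)
    (fun g => Subtype.ext (mem_cz.mp g.2).eq) (by rw [← Subgroup.orderOf_coe]; exact hu)
    (by rw [← Subgroup.orderOf_coe]; exact hw)
    (by
      rintro ⟨i, hi⟩
      exact hwu ⟨i, by simpa using congrArg Subtype.val hi⟩)
    (by
      intro t ht
      have htT : (t : G) ∈ T := ⟨S.mem_stab.mp ht, t.2⟩
      obtain ⟨i, hi⟩ := hkerW ⟨_, hmem t htT ⟨w, hwP⟩⟩
        (by rw [hker t htT ⟨w, hwP⟩]; exact hwk)
      exact ⟨i, Subtype.ext (by simpa using hi)⟩)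
  set b := blkSet (M := M) u β with hbdef
  set l := blockRank p b with hldef
  -- the coordinates of the parts
  choose n ζ hζ hn using fun χ : IrrCharacter G =>
    exists_sec_formula hpM χ (z := u) (k := 1) (by rw [pow_one, ← hu, pow_orderOf_eq_one]) hbs
  let z : IrrCharacter G → IrrCharacter (cz u) → ℂ := fun χ φ => (n χ φ : ℂ) * ζ χ φ
  have hzC : ∀ χ φ, z χ φ ∈ Subring.closure {x : ℂ | x ^ p = 1} := fun χ φ =>
    mul_mem (natCast_mem _ _) (Subring.subset_closure (by simpa using hζ χ φ))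
  have hdiag : ∀ χ : IrrCharacter G, conP p P e (χ : G → ℂ) (χ : G → ℂ) u =
      ∑ φ ∈ bf b, ∑ ψ ∈ bf b, z χ φ * conj (z χ ψ) *
        regInner p (φ : cz u → ℂ) (ψ : cz u → ℂ) := by
    intro χ
    have hsec : ∀ s : cz u, sec (χ : G → ℂ) u β (s : G) =
        ∑ φ ∈ bf b, z χ φ * (φ : cz u → ℂ) s := fun s => by
      have h := hn χ 1 (Nat.coprime_one_left p) s
      simp only [pow_one, hbe] at h
      exact h
    rw [conP, ← hβdef, m2]
    simp only [hsec, regInner, map_sum, map_mul, Finset.sum_mul_sum]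
    simp only [Finset.mul_sum]
    rw [Finset.sum_comm]
    refine Finset.sum_congr rfl fun φ _ => ?_
    rw [Finset.sum_comm]
    refine Finset.sum_congr rfl fun ψ _ => ?_
    exact Finset.sum_congr (by congr! 1) fun s _ => by ring
  let x : IrrCharacter G → ι → ℂ := fun χ i => ∑ φ ∈ bf b, L i φ * z χ φ
  have hxC : ∀ χ i, x χ i ∈ Subring.closure {x : ℂ | x ^ p = 1} := fun χ i =>
    sum_mem fun φ _ => mul_mem (hLC i φ) (hzC χ φ)
  have hxsum : ∀ χ : IrrCharacter G, ∑ i, x χ i * conj (x χ i) =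
      2 * (p : ℂ) ^ 2 * conP p P e (χ : G → ℂ) (χ : G → ℂ) u := fun χ => by
    rw [hdiag, hform]
  have hpG : p ∣ Nat.card G := hu ▸ orderOf_dvd_natCard u
  haveI := DegreeGraph.finiteDimensional_fieldG (G := G)
  let X : (_ : IrrCharacter G) × ι → DegreeGraph.fieldG G := fun q =>
    ⟨x q.1 q.2, mem_fieldG_of_closure hpG (hxC _ _)⟩
  set s := (bf B).sigma fun χ => Finset.univ.filter fun i => x χ i ≠ 0 with hs
  have hbound := card_le_of_embeddings s (DegreeGraph.fieldG G) X
    (fun q hq h => (Finset.mem_filter.mp (Finset.mem_sigma.mp hq).2).2 (congrArg Subtype.val h))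
    (fun q _ => isIntegral_of_mem_closure_roots hp.pos (hxC _ _))
    ((2 * p ^ 2 * l : ℕ) : ℝ) (fun σ => by
      apply Complex.ofReal_injective
      rw [Complex.ofReal_sum, hs, Finset.sum_sigma, Complex.ofReal_natCast]
      have h1 : ∀ χ i, ((‖σ (X ⟨χ, i⟩)‖ ^ 2 : ℝ) : ℂ) = σ (X ⟨χ, i⟩ *
          ⟨conj (x χ i), mem_fieldG_of_closure hpG (conj_mem_closure_roots (hxC χ i))⟩) :=
        fun χ i => by
          rw [map_mul, map_conj_closure hpG hp.pos σ (hxC χ i), Complex.ofReal_pow,
            ← Complex.mul_conj']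
      simp only [h1]
      rw [Finset.sum_congr rfl fun χ _ => Finset.sum_filter_of_ne (p := fun i => x χ i ≠ 0) (f := fun i => σ (X ⟨χ, i⟩ *
        ⟨conj (x χ i), mem_fieldG_of_closure hpG (conj_mem_closure_roots (hxC χ i))⟩))
        fun i _ hne h0 => hne (by
        rw [show X ⟨χ, i⟩ = 0 from Subtype.ext h0, zero_mul, map_zero])]
      simp only [← map_sum]
      rw [show (∑ χ ∈ bf B, ∑ i, X ⟨χ, i⟩ *
          ⟨conj (x χ i), mem_fieldG_of_closure hpG (conj_mem_closure_roots (hxC χ i))⟩) =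
          ((2 * p ^ 2 * l : ℕ) : DegreeGraph.fieldG G) from Subtype.ext (by
        simp only [X, AddSubmonoidClass.coe_finsetSum, MulMemClass.coe_mul, hxsum]
        rw [← Finset.mul_sum, sum_conP_diag hpM D huP, ← hbdef, ← hldef]
        push_cast
        rfl), map_natCast])
  have hlow : Nat.card B * (2 * l) ≤ s.card := by
    rw [hs, Finset.card_sigma, card_bf, ← smul_eq_mul, ← Finset.sum_const]
    refine Finset.sum_le_sum fun χ hχ => ?_
    refine (hnum (z χ) ?_).trans_eq (by rw [Nat.card_eq_fintype_card, Fintype.card_subtype])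
    rw [← hdiag]
    intro h0
    have := conP_pos hpM D huP (fun y hy => hab u huP y hy) (mem_bf.mp hχ)
    rw [h0] at this
    exact lt_irrefl _ this
  have hl : 1 ≤ l := blockRank_pos hpM hbs
  have h1 : Nat.card B * (2 * l) ≤ p ^ 2 * (2 * l) :=
    hlow.trans (le_of_le_of_eq (Nat.cast_le.mp hbound) (by ring))
  exact Nat.le_of_mul_le_mul_right h1 (by omega)

/-- The bound on the number of characters by the defect. -/
theorem card_le_pow_defect (hpM : (p : AlgInt) ∈ M) : ∀ (d : ℕ) (G : Type u) [Group G] [Fintype G]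
    (B : Set (IrrCharacter G)), IsPBlock M B → blockDefect p B = d →
      (d ≤ 2 → Nat.card B ≤ p ^ d) ∧ (3 ≤ d → Nat.card B ≤ p ^ (2 * d - 2)) := by
  classical
  haveI := charP_res (p := p) hpM
  have hp : p.Prime := Fact.out
  intro d
  induction d using Nat.strong_induction_on with
  | _ d ih =>
    intro G _ _ B hB hd
    letI : ∀ v : G, Fintype (cz v) := fun v => Fintype.ofFinite _
    obtain ⟨P, e, D⟩ := exists_maxData hpM hB
    have hcard : Nat.card P = p ^ d := hd ▸ card_pair_group hpM D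
    obtain ⟨hBF1, hBF2⟩ := brauer_feit hpM hB hd
    have hsq : ∀ u : G, u ∈ P → (∀ w ∈ P, Commute u w) →
        (∀ χ ∈ B, blockHeight p B (χ : G → ℂ) = 0) →
        Nat.card B ^ 2 ≤ p ^ (2 * d) * blockRank p (blkSet (M := M) u (locB p P e u)) := by
      intro u hu huc hh
      have hle := locB_spec hpM D hu
      refine card_sq_le_subsection hpM hh (cz_eq u) (orderOf_of_mem D.pmax.pair.pgroup hu) ?_
        (blockDefect_locB_of_central hpM D hcard hu huc)
      exact isInduced_blkSet hpM hB (orderOf_of_mem D.pmax.pair.pgroup hu)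
        (hle.isPair_left D.pmax.pair).blk ((hle.ofBlock_iff (isBlk_idemG hpM hB)).mpr D.ofB)
    refine ⟨fun hd2 => ?_, fun hd3 => ?_⟩
    · have hh : ∀ χ ∈ B, blockHeight p B (χ : G → ℂ) = 0 := fun χ hχ => by
        obtain ⟨h1, h2⟩ := hBF2 χ hχ
        rcases Nat.lt_or_ge d 2 with h | h
        · exact h1 (by omega)
        · have := h2 h; omega
      have hab : ∀ x ∈ P, ∀ y ∈ P, x * y = y * x := by
        intro x hx y hy
        refine congrArg Subtype.val (?_ : (⟨x, hx⟩ : P) * ⟨y, hy⟩ = ⟨y, hy⟩ * ⟨x, hx⟩)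
        interval_cases d
        · haveI : Subsingleton P := (Nat.card_eq_one_iff_unique.mp (by rw [hcard, pow_zero])).1
          exact Subsingleton.elim _ _
        · haveI : IsCyclic P := isCyclic_of_prime_card (p := p) (by rw [hcard, pow_one])
          exact IsCyclic.commGroup.mul_comm _ _
        · exact IsPGroup.commutative_of_card_eq_prime_sq hcard _ _
      obtain ⟨u, hu, huo⟩ : ∃ u ∈ P, (d = 0 ∧ u = 1) ∨ (0 < d ∧ orderOf u = p) := by
        rcases Nat.eq_zero_or_pos d with h | h
        · exact ⟨1, one_mem P, Or.inl ⟨h, rfl⟩⟩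
        · obtain ⟨⟨u, hu⟩, huo⟩ := exists_prime_orderOf_dvd_card' (G := P) p
            (by rw [hcard]; exact dvd_pow_self p h.ne')
          exact ⟨u, hu, Or.inr ⟨h, by rw [← huo, ← Subgroup.orderOf_coe]⟩⟩
      by_cases hfree : stab P e ⊓ cz u ≤ Subgroup.centralizer (P : Set G)
      · have h := hsq u hu (fun w hw => hab u hu w hw) hh
        rw [rank_one_of_free hpM D hab hu hfree, mul_one, mul_comm 2 d, pow_mul] at h
        exact (Nat.pow_le_pow_iff_left two_ne_zero).mp h
      · have hd2' : d = 2 := by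
          by_contra hne
          refine hfree fun t ht => Subgroup.mem_centralizer_iff.mpr fun x hx => ?_
          rcases huo with ⟨h0, rfl⟩ | ⟨h0, huo⟩
          · haveI : Subsingleton P :=
              (Nat.card_eq_one_iff_unique.mp (by rw [hcard, h0, pow_zero])).1
            rw [show x = 1 from congrArg Subtype.val
              (Subsingleton.elim (⟨x, hx⟩ : P) 1)]
            group
          · have hd1 : d = 1 := by omega
            have hPu : Subgroup.zpowers u = P := Subgroup.eq_of_le_of_card_ge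
              (Subgroup.zpowers_le.mpr hu) (by rw [Nat.card_zpowers, huo, hcard, hd1, pow_one])
            rw [← hPu] at hx
            obtain ⟨i, rfl⟩ := hx
            exact ((mem_cz.mp ht.2).zpow_left i).eq
        subst hd2'
        rcases huo with ⟨h0, -⟩ | ⟨-, huo⟩
        · omega
        · exact card_le_sq_of_fixed hpM D hab hcard hu huo hfree
    · by_cases hh : ∀ χ ∈ B, blockHeight p B (χ : G → ℂ) = 0
      swap
      · push Not at hh
        obtain ⟨χ, hχ, h0⟩ := hh
        have := hBF1 ⟨χ, hχ, Nat.pos_of_ne_zero h0⟩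
        omega
      haveI : Nontrivial P := by
        refine (Finite.one_lt_card_iff_nontrivial).mp ?_
        rw [hcard]; exact Nat.one_lt_pow (by omega) hp.one_lt
      have hPp : IsPGroup p P := D.pmax.pair.pgroup
      haveI := IsPGroup.center_nontrivial hPp
      obtain ⟨⟨⟨u, hu⟩, hucen⟩, huo⟩ := exists_prime_orderOf_dvd_card' (G := Subgroup.center P) p (by
        obtain ⟨n, hn⟩ := IsPGroup.iff_card.mp (hPp.to_subgroup (Subgroup.center P))
        rw [hn]
        refine dvd_pow_self p fun h0 => ?_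
        have := Finite.one_lt_card (α := Subgroup.center P)
        rw [hn, h0, pow_zero] at this
        omega)
      rw [← Subgroup.orderOf_coe, ← Subgroup.orderOf_coe] at huo
      change orderOf u = p at huo
      have huc : ∀ w ∈ P, Commute u w := fun w hw =>
        congrArg Subtype.val (Subgroup.mem_center_iff.mp hucen ⟨w, hw⟩).symm
      have h1 := hsq u hu huc hh
      set b := blkSet (M := M) u (locB p P e u) with hbdef
      have hbd : blockDefect p b = d := blockDefect_locB_of_central hpM D hcard hu huc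
      obtain ⟨hbs, -⟩ := blkSet_spec hpM ((locB_spec hpM D hu).isPair_left D.pmax.pair).blk
      set u' : cz u := ⟨u, self_mem_cz u⟩
      have hu'c : ∀ g : cz u, u' * g = g * u' := fun g => Subtype.ext (mem_cz.mp g.2).eq
      haveI : (Subgroup.zpowers u').Normal := ⟨fun m hm g => by
        obtain ⟨i, rfl⟩ := hm
        show g * u' ^ i * g⁻¹ ∈ _
        rw [← ((show Commute u' g from hu'c g).zpow_left i).eq, mul_inv_cancel_right]
        exact ⟨i, rfl⟩⟩
      letI : Fintype (cz u ⧸ Subgroup.zpowers u') := Fintype.ofFinite _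
      obtain ⟨Bb, hBb, hdb, hlk, -⟩ := exists_quot_block hpM hbs rfl hu'c
        (z := u') (r := 1) (by rw [pow_one, ← Subgroup.orderOf_coe]; exact huo)
      rw [← hbdef, hbd] at hdb
      obtain ⟨h2, h3⟩ := ih (blockDefect p Bb) (by omega) _ Bb hBb rfl
      have hk : Nat.card Bb ≤ p ^ (2 * d - 4) := by
        rcases Nat.lt_or_ge (blockDefect p Bb) 3 with h | h
        · refine (h2 (by omega)).trans (Nat.pow_le_pow_right hp.pos (by omega))
        · refine (h3 h).trans (Nat.pow_le_pow_right hp.pos (by omega))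
      have h4 : Nat.card B ^ 2 ≤ (p ^ (2 * d - 2)) ^ 2 := by
        refine h1.trans ?_
        refine (Nat.mul_le_mul_left _ (hlk.trans hk)).trans_eq ?_
        rw [← pow_add, ← pow_mul]
        congr 1
        omega
      exact (Nat.pow_le_pow_iff_left two_ne_zero).mp h4

end Cfsg.Agent.BlockChar
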