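import Cfsg.Agent.BlockChar.KleinFourShape
import Cfsg.Agent.Blocks.PairKernel

/-!
A perfect isometry between a block with Klein four defect group and its correspondent in the
normaliser.
-/

set_option autoImplicit false
set_option linter.unusedSectionVars false
set_option linter.style.haveILetI false
set_option maxHeartbeats 800000

namespace Cfsg.Agent.BlockChar

open MonoidAlgebra
open scoped MonoidAlgebra ComplexConjugate
open Cfsg Cfsg.Agent Cfsg.Agent.Blocks

universe u

variable {G : Type u} [Group G] [Fintype G] {M : Ideal AlgInt} [M.IsMaximal]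

theorem isometry_of_shapes {H : Type u} [Group H] [Fintype H] (hpM : ((2 : ℕ) : AlgInt) ∈ M)
    {B : Set (IrrCharacter G)} {c : Set (IrrCharacter H)} {e : ℕ}
    (hB : HasFourShape M B e) (hc : HasFourShape M c e) :
    ∃ (I : IrrCharacter H → IrrCharacter G) (ε : IrrCharacter H → ℤ),
      IsPerfectIsometry 2 M c B I ε := by
  classical
  haveI : Fact (Nat.Prime 2) := ⟨Nat.prime_two⟩
  obtain ⟨hBk, s, hs1, hpar, hperp, hsing⟩ := hB
  obtain ⟨hck, s', hs1', hpar', hperp', hsing'⟩ := hc
  have hB4 : (bf B).card = 4 := by rw [← card_bf]; exact hBk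
  have hc4 : (bf c).card = 4 := by rw [← card_bf]; exact hck
  let σ : bf c ≃ bf B := Finset.equivOfCardEq (hc4.trans hB4.symm)
  obtain ⟨χ₀, hχ₀⟩ := Finset.card_pos.mp (show 0 < (bf B).card by omega)
  let I : IrrCharacter H → IrrCharacter G := fun η =>
    if h : η ∈ bf c then (σ ⟨η, h⟩ : IrrCharacter G) else χ₀
  have hImem : ∀ η ∈ bf c, I η ∈ bf B := fun η hη => by
    simp only [I, dif_pos hη]; exact (σ ⟨η, hη⟩).2
  have hIinj : ∀ η ∈ bf c, ∀ η' ∈ bf c, I η = I η' → η = η' := fun η hη η' hη' h => by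
    simp only [I, dif_pos hη, dif_pos hη'] at h
    exact congrArg Subtype.val (σ.injective (Subtype.ext h))
  have hIsurj : ∀ χ ∈ bf B, ∃ η ∈ bf c, I η = χ := fun χ hχ => by
    refine ⟨(σ.symm ⟨χ, hχ⟩ : IrrCharacter H), (σ.symm ⟨χ, hχ⟩).2, ?_⟩
    simp only [I, dif_pos (σ.symm ⟨χ, hχ⟩).2, Subtype.coe_eta, Equiv.apply_symm_apply]
  have hreidx : ∀ F : IrrCharacter G → ℂ, ∑ η ∈ bf c, F (I η) = ∑ χ ∈ bf B, F χ := fun F =>
    Finset.sum_bij (fun η _ => I η) hImem (fun η hη η' hη' h => hIinj η hη η' hη' h)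
      (fun χ hχ => by obtain ⟨η, h1, h2⟩ := hIsurj χ hχ; exact ⟨η, h1, h2⟩) (fun _ _ => rfl)
  have hreidxZ : ∀ F : IrrCharacter G → ℤ, ∑ η ∈ bf c, F (I η) = ∑ χ ∈ bf B, F χ := fun F =>
    Finset.sum_bij (fun η _ => I η) hImem (fun η hη η' hη' h => hIinj η hη η' hη' h)
      (fun χ hχ => by obtain ⟨η, h1, h2⟩ := hIsurj χ hχ; exact ⟨η, h1, h2⟩) (fun _ _ => rfl)
  let ε : IrrCharacter H → ℤ := fun η => s' η * s (I η)
  set μ : G → H → ℂ := fun x y =>
    ∑ η ∈ bf c, (ε η : ℂ) * (I η : G → ℂ) x * (η : H → ℂ) y with hμ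
  have hker : ∀ x y, signedBijectionKernel c I ε x y = μ x y := fun x y => by
    rw [signedBijectionKernel, finsum_mem_bf]
  have hsC : ∀ χ ∈ bf B, (s χ : ℂ) * (s χ : ℂ) = 1 := fun χ hχ => by
    exact_mod_cast hs1 χ (mem_bf.mp hχ)
  have hs'C : ∀ η ∈ bf c, (s' η : ℂ) * (s' η : ℂ) = 1 := fun η hη => by
    exact_mod_cast hs1' η (mem_bf.mp hη)
  have hmixed : ∀ x y, ¬ (IsPRegular 2 x ↔ IsPRegular 2 y) → μ x y = 0 := by
    intro x y hxy
    by_cases hx : IsPRegular 2 x ↔ e = 1
    · obtain ⟨α, hα⟩ := hpar x hx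
      have hy : ¬ (IsPRegular 2 y ↔ e = 1) := fun h => hxy (hx.trans h.symm)
      have h0 := hperp' y hy
      calc μ x y = ∑ η ∈ bf c, α * ((s' η : ℂ) * (η : H → ℂ) y) := by
            refine Finset.sum_congr rfl fun η hη => ?_
            rw [hα _ (mem_bf.mp (hImem η hη))]
            simp only [ε, Int.cast_mul]
            linear_combination (α * (s' η : ℂ) * (η : H → ℂ) y) * hsC _ (hImem η hη)
        _ = 0 := by rw [← Finset.mul_sum, h0, mul_zero]
    · have hy : IsPRegular 2 y ↔ e = 1 := by
        by_contra hy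
        exact hxy (by tauto)
      obtain ⟨α, hα⟩ := hpar' y hy
      calc μ x y = ∑ η ∈ bf c, (fun χ : IrrCharacter G => α * ((s χ : ℂ) * (χ : G → ℂ) x)) (I η) := by
            refine Finset.sum_congr rfl fun η hη => ?_
            rw [hα _ (mem_bf.mp hη)]
            simp only [ε, Int.cast_mul]
            linear_combination (α * (s (I η) : ℂ) * (I η : G → ℂ) x) * hs'C η hη
        _ = 0 := (hreidx (fun χ : IrrCharacter G => α * ((s χ : ℂ) * (χ : G → ℂ) x))).trans
            (by rw [← Finset.mul_sum, hperp x hx, mul_zero])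
  have hR : ∀ η y, MemLocalRing M ((ε η : ℂ) * (η : H → ℂ) y) := fun η y =>
    memR_mul (memR_intCast _) (irr_memR η y)
  refine ⟨I, ε, ⟨fun η hη => mem_bf.mp (hImem η (mem_bf.mpr hη)),
    fun η hη η' hη' h => hIinj η (mem_bf.mpr hη) η' (mem_bf.mpr hη') h,
    fun χ hχ => by
      obtain ⟨η, h1, h2⟩ := hIsurj χ (mem_bf.mpr hχ); exact ⟨η, mem_bf.mp h1, h2⟩⟩,
    fun η hη => ?_, ?_⟩
  · exact mul_self_eq_one_iff.mp (show ε η * ε η = 1 by
      simp only [ε]
      rw [mul_mul_mul_comm, hs1' η hη, hs1 _ (mem_bf.mp (hImem η (mem_bf.mpr hη))), one_mul])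
  intro x y
  rw [hker]
  by_cases hxy : IsPRegular 2 x ↔ IsPRegular 2 y
  swap
  · rw [hmixed x y hxy, zero_div, zero_div]
    exact ⟨memR_zero, memR_zero, Or.inr rfl⟩
  refine ⟨?_, ?_, Or.inl hxy⟩
  · by_cases hx : IsPRegular 2 x
    · -- regular
      let d : IrrCharacter G → ℂ := fun χ =>
        ∑ η ∈ (bf c).filter (fun η => I η = χ), (ε η : ℂ) * (η : H → ℂ) y
      have hd : ∀ z, ∑ χ : IrrCharacter G, d χ * (χ : G → ℂ) z = μ z y := fun z => by
        simp only [d, Finset.sum_mul]
        rw [hμ]
        simp only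
        rw [← Finset.sum_fiberwise_of_maps_to (g := I) (fun η _ => Finset.mem_univ (I η))]
        refine Finset.sum_congr rfl fun χ _ => Finset.sum_congr rfl fun η hη => ?_
        rw [(Finset.mem_filter.mp hη).2]
        ring
      have h := local_div_of_vanish hpM d (fun χ => memR_sum _ _ fun η _ => hR η y)
        (fun z hz => by
          rw [hd]
          exact hmixed z y fun h => (h.mpr (hxy.mp hx)) hz) (t := x) hx
      rwa [hd] at h
    · -- singular
      have hxs : 2 ∣ orderOf x := not_not.mp hx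
      have hys : 2 ∣ orderOf y := not_not.mp fun h => hx (hxy.mpr h)
      obtain ⟨T, a, g, ha, hsa, hg, hxv⟩ := hsing x hxs
      obtain ⟨T', b, h, hb, hsb, hh, hyv⟩ := hsing' y hys
      have hdiv : ∀ i ∈ T, ∀ j ∈ T', (4 : ℤ) ∣ ∑ η ∈ bf c, ε η * a i (I η) * b j η := by
        intro i hi j hj
        have h4 := four_dvd_sum_mul (bf c) hc4 (fun η => s (I η) * a i (I η))
          (fun η => s' η * b j η)
          (fun η hη => by rw [mul_mul_mul_comm, hs1 _ (mem_bf.mp (hImem η hη)),
            ha i hi _ (mem_bf.mp (hImem η hη)), one_mul])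
          (fun η hη => by rw [mul_mul_mul_comm, hs1' η (mem_bf.mp hη),
            hb j hj η (mem_bf.mp hη), one_mul])
          (by rw [hreidxZ (fun χ => s χ * a i χ)]; exact hsa i hi) (hsb j hj)
        convert h4 using 1
        exact Finset.sum_congr rfl fun η _ => by simp only [ε]; ring
      choose! q hq using hdiv
      have hμv : μ x y = ∑ i ∈ T, ∑ j ∈ T', (q i j : ℂ) * (4 * g i) * h j := by
        calc μ x y = ∑ η ∈ bf c, ∑ i ∈ T, ∑ j ∈ T',
              ((ε η * a i (I η) * b j η : ℤ) : ℂ) * (g i * h j) := by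
              refine Finset.sum_congr rfl fun η hη => ?_
              rw [hxv _ (mem_bf.mp (hImem η hη)), hyv _ (mem_bf.mp hη), mul_assoc,
                Finset.sum_mul_sum, Finset.mul_sum]
              refine Finset.sum_congr rfl fun i _ => ?_
              rw [Finset.mul_sum]
              exact Finset.sum_congr rfl fun j _ => by push_cast; ring
          _ = _ := by
              rw [Finset.sum_comm]
              refine Finset.sum_congr rfl fun i hi => ?_
              rw [Finset.sum_comm]
              refine Finset.sum_congr rfl fun j hj => ?_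
              rw [← Finset.sum_mul, ← Int.cast_sum, hq i hi j hj]
              push_cast
              ring
      rw [hμv, Finset.sum_div]
      refine memR_sum _ _ fun i hi => ?_
      rw [Finset.sum_div]
      refine memR_sum _ _ fun j hj => ?_
      rw [show (q i j : ℂ) * (4 * g i) * h j /
          (Nat.card (Subgroup.centralizer ({x} : Set G)) : ℂ) = (q i j : ℂ) *
          (4 * g i / (Nat.card (Subgroup.centralizer ({x} : Set G)) : ℂ)) * h j by ring]
      exact memR_mul (memR_mul (memR_intCast _) (hg i hi).2) (hh j hj).1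
  · by_cases hy : IsPRegular 2 y
    · let d : IrrCharacter H → ℂ := fun η =>
        if η ∈ bf c then (ε η : ℂ) * (I η : G → ℂ) x else 0
      have hd : ∀ z, ∑ η : IrrCharacter H, d η * (η : H → ℂ) z = μ x z := fun z => by
        rw [← Finset.sum_subset (Finset.subset_univ (bf c))
          fun η _ hη => by simp only [d, if_neg hη, zero_mul]]
        exact Finset.sum_congr rfl fun η hη => by simp only [d, if_pos hη]
      have h := local_div_of_vanish hpM d
        (fun η => by
          simp only [d]
          split_ifs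
          exacts [memR_mul (memR_intCast _) (irr_memR _ x), memR_zero])
        (fun z hz => by
          rw [hd]
          exact hmixed x z fun h => (h.mp (hxy.mpr hy)) hz) (t := y) hy
      rwa [hd] at h
    · have hys : 2 ∣ orderOf y := not_not.mp hy
      have hxs : 2 ∣ orderOf x := not_not.mp fun h => hy (hxy.mp h)
      obtain ⟨T, a, g, ha, hsa, hg, hxv⟩ := hsing x hxs
      obtain ⟨T', b, h, hb, hsb, hh, hyv⟩ := hsing' y hys
      have hdiv : ∀ i ∈ T, ∀ j ∈ T', (4 : ℤ) ∣ ∑ η ∈ bf c, ε η * a i (I η) * b j η := by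
        intro i hi j hj
        have h4 := four_dvd_sum_mul (bf c) hc4 (fun η => s (I η) * a i (I η))
          (fun η => s' η * b j η)
          (fun η hη => by rw [mul_mul_mul_comm, hs1 _ (mem_bf.mp (hImem η hη)),
            ha i hi _ (mem_bf.mp (hImem η hη)), one_mul])
          (fun η hη => by rw [mul_mul_mul_comm, hs1' η (mem_bf.mp hη),
            hb j hj η (mem_bf.mp hη), one_mul])
          (by rw [hreidxZ (fun χ => s χ * a i χ)]; exact hsa i hi) (hsb j hj)
        convert h4 using 1
        exact Finset.sum_congr rfl fun η _ => by simp only [ε]; ring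
      choose! q hq using hdiv
      have hμv : μ x y = ∑ i ∈ T, ∑ j ∈ T', (q i j : ℂ) * g i * (4 * h j) := by
        calc μ x y = ∑ η ∈ bf c, ∑ i ∈ T, ∑ j ∈ T',
              ((ε η * a i (I η) * b j η : ℤ) : ℂ) * (g i * h j) := by
              refine Finset.sum_congr rfl fun η hη => ?_
              rw [hxv _ (mem_bf.mp (hImem η hη)), hyv _ (mem_bf.mp hη), mul_assoc,
                Finset.sum_mul_sum, Finset.mul_sum]
              refine Finset.sum_congr rfl fun i _ => ?_
              rw [Finset.mul_sum]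
              exact Finset.sum_congr rfl fun j _ => by push_cast; ring
          _ = _ := by
              rw [Finset.sum_comm]
              refine Finset.sum_congr rfl fun i hi => ?_
              rw [Finset.sum_comm]
              refine Finset.sum_congr rfl fun j hj => ?_
              rw [← Finset.sum_mul, ← Int.cast_sum, hq i hi j hj]
              push_cast
              ring
      rw [hμv, Finset.sum_div]
      refine memR_sum _ _ fun i hi => ?_
      rw [Finset.sum_div]
      refine memR_sum _ _ fun j hj => ?_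
      rw [show (q i j : ℂ) * g i * (4 * h j) /
          (Nat.card (Subgroup.centralizer ({y} : Set H)) : ℂ) = (q i j : ℂ) * g i *
          (4 * h j / (Nat.card (Subgroup.centralizer ({y} : Set H)) : ℂ)) by ring]
      exact memR_mul (memR_mul (memR_intCast _) (hg i hi).1) (hh j hj).2

/-- The block below a pair of the normaliser. -/
theorem exists_local_blocks (hpM : ((2 : ℕ) : AlgInt) ∈ M) {B : Set (IrrCharacter G)}
    (hB : IsPBlock M B) {P : Subgroup G} (hPD : IsDefectGroup 2 M B P)
    (hPC : P ≤ Subgroup.centralizer (P : Set G))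
    {c : Set (IrrCharacter (Subgroup.normalizer (P : Set G)))}
    (hcD : IsDefectGroup 2 M c (P.subgroupOf (Subgroup.normalizer (P : Set G))))
    (hc : IsInducedBlock M (Subgroup.normalizer (P : Set G)) c B) :
    ∃ (d : Set (IrrCharacter (Subgroup.centralizer (P : Set G))))
      (d' : Set (IrrCharacter (Subgroup.centralizer
        ((P.subgroupOf (Subgroup.normalizer (P : Set G)) :
          Subgroup (Subgroup.normalizer (P : Set G))) : Set (Subgroup.normalizer (P : Set G)))))),
      IsInducedBlock M (Subgroup.centralizer (P : Set G)) d B ∧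
      IsInducedBlock M _ d' c ∧
      ∀ n : Subgroup.normalizer (P : Set G),
        StabilizesBlock _ d' n ↔ StabilizesBlock (Subgroup.centralizer (P : Set G)) d (n : G) := by
  classical
  haveI : Fact (Nat.Prime 2) := ⟨Nat.prime_two⟩
  haveI := charP_res (p := 2) hpM
  obtain ⟨eP, hmax, hob, hoc⟩ := PairKernel.exists_maxPair_normalizer hpM hB hPD hc hcD
  obtain ⟨d, hd, rfl⟩ := exists_idemS_eq hpM hmax.pair.blk
  have hde : OfBlock (idemS M d) P (idemS M d) := by
    show br P (idemS M d) * idemS M d = idemS M d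
    rw [br_eq_self hmax.pair.blk.supp, hmax.pair.blk.idem]
  have hdB : IsInducedBlock M (Subgroup.centralizer (P : Set G)) d B :=
    (isInducedBlock_iff hpM hd hB).mpr ((inducesIn_iff_ofBlock le_top hmax.pair hPC le_rfl
      hmax.pair.blk hde (isBlk_idemG hpM hB)).mpr hob)
  set N := Subgroup.normalizer (P : Set G) with hN
  set C' := Subgroup.centralizer ((P.subgroupOf N : Subgroup N) : Set N) with hC'
  have hPN : P ≤ N := Subgroup.le_normalizer
  have hmem : ∀ n : N, n ∈ C' ↔ (n : G) ∈ Subgroup.centralizer (P : Set G) := by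
    intro n
    simp only [hC', Subgroup.mem_centralizer_iff]
    constructor
    · intro h x hx
      exact congrArg Subtype.val (h ⟨x, hPN hx⟩ (Subgroup.mem_subgroupOf.mpr hx))
    · intro h x hx
      exact Subtype.ext (h x (Subgroup.mem_subgroupOf.mp hx))
  have hCN : Subgroup.centralizer (P : Set G) ≤ N := centralizer_le_normalizer P
  let φ : Subgroup.centralizer (P : Set G) ≃* C' :=
    { toFun := fun z => ⟨⟨z, hCN z.2⟩, (hmem _).mpr z.2⟩
      invFun := fun z => ⟨((z : N) : G), (hmem _).mp z.2⟩
      left_inv := fun z => rfl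
      right_inv := fun z => rfl
      map_mul' := fun z w => rfl }
  refine ⟨d, mapSet φ d, hdB, ?_, ?_⟩
  · haveI : Fintype C' := Fintype.ofFinite _
    have hd' : IsPBlock M (mapSet φ d) := isPBlock_mapSet φ hd
    have hidem : idem M (N.subtype.comp C'.subtype) (mapSet φ d) = idemS M d :=
      idem_mapSet (Subgroup.subtype_injective _) φ (MonoidHom.ext fun _ => rfl) d
    have h := induced_iff_inducesIn (ι := N.subtype) (ι' := N.subtype.comp C'.subtype) hpM
      N.subtype_injective (N.subtype_injective.comp C'.subtype_injective) C'.subtype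
      (fun _ => rfl) hd' hc.1
    have hrange : (N.subtype.comp C'.subtype).range = Subgroup.centralizer (P : Set G) := by
      ext z
      constructor
      · rintro ⟨w, rfl⟩; exact (hmem _).mp w.2
      · exact fun hz => ⟨φ ⟨z, hz⟩, rfl⟩
    rw [hidem, hrange, Subgroup.range_subtype] at h
    have h' := h.mpr ((inducesIn_iff_ofBlock hCN hmax.pair hPC le_rfl hmax.pair.blk hde
      (isBlk_idemS hpM hc.1)).mpr hoc)
    refine ⟨hd', hc.1, fun ξ hξ χ hχ g => ?_⟩
    rw [inducedCentralChar_eq, ← omega_clsFun (Chars.isClassFunction_irr χ)]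
    exact h' ξ hξ χ hχ g
  · intro n
    have hn : (n : G) ∈ Subgroup.normalizer ((Subgroup.centralizer (P : Set G) : Subgroup G) : Set G) :=
      normalizer_le_normalizer_centralizer P n.2
    have hn' : n ∈ Subgroup.normalizer ((C' : Subgroup N) : Set N) := by
      rw [Subgroup.mem_normalizer_iff]
      intro z
      rw [hmem, hmem]
      exact Subgroup.mem_normalizer_iff.mp hn z
    constructor
    · rintro ⟨-, h⟩
      refine ⟨hn, fun χ hχ => ?_⟩
      obtain ⟨χ', hχ', hconj⟩ := h ((irrEquiv φ).symm χ) (by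
        show irrEquiv φ _ ∈ d
        rwa [Equiv.apply_symm_apply])
      refine ⟨irrEquiv φ χ', hχ', fun k k' hk => ?_⟩
      rw [irrEquiv_apply]
      have h1 := hconj (φ k) (φ k') (Subtype.ext hk)
      rw [h1, ← irrEquiv_apply, Equiv.apply_symm_apply]
    · rintro ⟨-, h⟩
      refine ⟨hn', fun χ hχ => ?_⟩
      obtain ⟨χ', hχ', hconj⟩ := h (irrEquiv φ χ) hχ
      refine ⟨(irrEquiv φ).symm χ', by
        show irrEquiv φ _ ∈ d
        rwa [Equiv.apply_symm_apply], fun k k' hk => ?_⟩
      obtain ⟨k, rfl⟩ := φ.surjective k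
      obtain ⟨k', rfl⟩ := φ.surjective k'
      have h1 := hconj k k' (congrArg Subtype.val hk)
      rw [← irrEquiv_apply, Equiv.apply_symm_apply, h1, irrEquiv_apply]

/-- The perfect isometry. -/
theorem klein_four_isometry (hM : IsPModular 2 M) {B : Set (IrrCharacter G)}
    (hB : IsPBlock M B) {P : Subgroup G} (hPD : IsDefectGroup 2 M B P) (hV : IsKleinFour P)
    {c : Set (IrrCharacter (Subgroup.normalizer (P : Set G)))}
    (hcD : IsDefectGroup 2 M c (P.subgroupOf (Subgroup.normalizer (P : Set G))))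
    (hc : IsInducedBlock M (Subgroup.normalizer (P : Set G)) c B) :
    ∃ (I : IrrCharacter (Subgroup.normalizer (P : Set G)) → IrrCharacter G)
      (ε : IrrCharacter (Subgroup.normalizer (P : Set G)) → ℤ),
      IsPerfectIsometry 2 M c B I ε := by
  classical
  haveI : Fact (Nat.Prime 2) := ⟨Nat.prime_two⟩
  have hpM := hM.2.2
  have hsq : ∀ x ∈ P, x * x = 1 := fun x hx => by
    have h := Monoid.pow_exponent_eq_one (⟨x, hx⟩ : P)
    rw [hV.exponent_two, pow_two] at h
    exact congrArg Subtype.val h
  have hPC : P ≤ Subgroup.centralizer (P : Set G) := fun x hx =>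
    Subgroup.mem_centralizer_iff.mpr fun y hy => by
      have h1 := hsq _ (P.mul_mem hx hy)
      calc y * x = (x * x) * y * x * (y * y) := by rw [hsq x hx, hsq y hy]; group
        _ = x * (x * y * (x * y)) * y := by group
        _ = x * y := by rw [h1]; group
  obtain ⟨d, d', hd, hd', hiff⟩ := exists_local_blocks hpM hB hPD hPC hcD hc
  set T := stab P (idemS M d) with hTdef
  have hT : ∀ g : G, g ∈ T ↔ (g ∈ (Subgroup.normalizer (P : Set G)) ∧
      StabilizesBlock (Subgroup.centralizer (P : Set G)) d g) := fun g => by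
    rw [hTdef, mem_stab, stabilizesBlock_iff hpM hd.1]
    exact ⟨fun h => ⟨h.1, normalizer_le_normalizer_centralizer P h.1, h.2⟩,
      fun h => ⟨h.1, h.2.2⟩⟩
  have hTN : T ≤ (Subgroup.normalizer (P : Set G)) := fun g hg => ((hT g).mp hg).1
  have hPN : P ≤ (Subgroup.normalizer (P : Set G)) := Subgroup.le_normalizer
  haveI : (P.subgroupOf (Subgroup.normalizer (P : Set G))).Normal := Subgroup.normal_in_normalizer
  have hV' : IsKleinFour (P.subgroupOf (Subgroup.normalizer (P : Set G))) := by
    refine ⟨?_, ?_⟩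
    · rw [Nat.card_congr (Subgroup.subgroupOfEquivOfLe hPN).toEquiv, hV.card_four]
    · rw [Monoid.exponent_eq_of_mulEquiv (Subgroup.subgroupOfEquivOfLe hPN), hV.exponent_two]
  haveI : Fintype (Subgroup.normalizer (P : Set G)) := Fintype.ofFinite _
  have hT' : ∀ g : (Subgroup.normalizer (P : Set G)), g ∈ T.subgroupOf (Subgroup.normalizer (P : Set G)) ↔
      (g ∈ Subgroup.normalizer ((P.subgroupOf (Subgroup.normalizer (P : Set G)) : Subgroup (Subgroup.normalizer (P : Set G))) : Set (Subgroup.normalizer (P : Set G))) ∧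
        StabilizesBlock _ d' g) := fun g => by
    rw [Subgroup.mem_subgroupOf, hT, hiff g]
    exact ⟨fun h => ⟨Subgroup.le_normalizer_of_normal (Subgroup.mem_top g), h.2⟩,
      fun h => ⟨g.2, h.2⟩⟩
  have hCeq : Subgroup.centralizer ((P.subgroupOf (Subgroup.normalizer (P : Set G)) : Subgroup (Subgroup.normalizer (P : Set G))) : Set (Subgroup.normalizer (P : Set G))) =
      (Subgroup.centralizer (P : Set G)).subgroupOf (Subgroup.normalizer (P : Set G)) := by
    ext n
    simp only [Subgroup.mem_subgroupOf, Subgroup.mem_centralizer_iff]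
    exact ⟨fun h x hx => congrArg Subtype.val (h ⟨x, hPN hx⟩ (Subgroup.mem_subgroupOf.mpr hx)),
      fun h x hx => Subtype.ext (h x (Subgroup.mem_subgroupOf.mp hx))⟩
  obtain ⟨-, h1⟩ := hasFourShape hM hB hPD hV hd hT
  obtain ⟨-, h2⟩ := hasFourShape hM hc.1 hcD hV' hd' hT'
  rw [hCeq, Subgroup.relIndex_subgroupOf hTN] at h2
  exact isometry_of_shapes hpM h1 h2

end Cfsg.Agent.BlockChar
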