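import Cfsg.Agent.BlockChar.AbelianContrib
import Cfsg.Agent.BlockChar.SubAlg

/-!
# Ranks of the blocks of the subgroups around an abelian defect group
-/

set_option autoImplicit false
set_option linter.unusedSectionVars false
set_option linter.style.haveILetI false

namespace Cfsg.Agent.BlockChar

open MonoidAlgebra
open scoped MonoidAlgebra
open Cfsg Cfsg.Agent Cfsg.Agent.Blocks

universe u

variable {G : Type u} [Group G] [Fintype G] {p : ℕ} [Fact p.Prime] {M : Ideal AlgInt}
  [M.IsMaximal] {P : Subgroup G} {e : (Res M)[G]}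

/-- Transport of the regular rank along an isomorphism. -/
theorem blockRank_mapSet {H H' : Type u} [Group H] [Group H'] (φ : H ≃* H') (q : ℕ)
    (c : Set (IrrCharacter H)) : blockRank q (mapSet φ c) = blockRank q c := by
  unfold blockRank
  set L : (H → ℂ) ≃ₗ[ℂ] (H' → ℂ) := LinearEquiv.funCongrLeft ℂ ℂ φ.symm.toEquiv with hL
  have himg : (fun χ : IrrCharacter H' => pRegularPart q (χ : H' → ℂ)) '' mapSet φ c =
      L '' ((fun χ : IrrCharacter H => pRegularPart q (χ : H → ℂ)) '' c) := by
    ext f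
    have key : ∀ χ : IrrCharacter H', L (pRegularPart q (irrEquiv φ χ : H → ℂ)) =
        pRegularPart q (χ : H' → ℂ) := by
      intro χ
      funext x
      simp [hL, LinearEquiv.funCongrLeft, LinearMap.funLeft, pRegularPart, IsPRegular,
        irrEquiv_apply, MulEquiv.orderOf_eq]
      by_cases h : q ∣ orderOf x <;> simp [h]
    simp only [Set.mem_image, mapSet, Set.mem_setOf_eq]
    constructor
    · rintro ⟨χ, hχ, rfl⟩
      exact ⟨_, ⟨irrEquiv φ χ, hχ, rfl⟩, key χ⟩
    · rintro ⟨_, ⟨χ, hχ, rfl⟩, rfl⟩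
      refine ⟨(irrEquiv φ).symm χ, by rwa [Equiv.apply_symm_apply], ?_⟩
      rw [← key, Equiv.apply_symm_apply]
  rw [himg]
  have h2 : Submodule.map (L : (H → ℂ) →ₗ[ℂ] (H' → ℂ))
      (Submodule.span ℂ ((fun χ : IrrCharacter H => pRegularPart q (χ : H → ℂ)) '' c)) =
      Submodule.span ℂ (L '' ((fun χ : IrrCharacter H => pRegularPart q (χ : H → ℂ)) '' c)) := by
    rw [Submodule.map_span]; rfl
  rw [← h2]
  exact LinearEquiv.finrank_map_eq L _

open scoped Classical in
/-- The rank of the block of `H` with the pair `(P, e)`. -/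
noncomputable def rk (p : ℕ) (P : Subgroup G) (e : (Res M)[G]) (H : Subgroup G) : ℕ :=
  if h : ∃ c : Set (IrrCharacter H), IsPBlock M c ∧ OfBlock (idemS M c) P e then
    blockRank p h.choose else 0

theorem rk_eq (hpM : (p : AlgInt) ∈ M) (hP : IsPair p P e) {H : Subgroup G} (hPH : P ≤ H)
    (hC : Subgroup.centralizer (P : Set G) ≤ H) {c : Set (IrrCharacter H)} (hc : IsPBlock M c)
    (ho : OfBlock (idemS M c) P e) : rk p P e H = blockRank p c := by
  classical
  haveI := charP_res (p := p) hpM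
  have h : ∃ c : Set (IrrCharacter H), IsPBlock M c ∧ OfBlock (idemS M c) P e := ⟨c, hc, ho⟩
  rw [rk, dif_pos h]
  obtain ⟨hc', ho'⟩ := h.choose_spec
  rw [(idemS_inj hpM hc' hc).mp ((existsUnique_ofBlock_in hP hPH hC).unique
    ⟨isBlk_idemS hpM hc', ho'⟩ ⟨isBlk_idemS hpM hc, ho⟩)]

theorem exists_rk (hpM : (p : AlgInt) ∈ M) (hP : IsPair p P e) {H : Subgroup G} (hPH : P ≤ H)
    (hC : Subgroup.centralizer (P : Set G) ≤ H) :
    ∃ c : Set (IrrCharacter H), IsPBlock M c ∧ OfBlock (idemS M c) P e ∧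
      rk p P e H = blockRank p c := by
  haveI := charP_res (p := p) hpM
  obtain ⟨b, ⟨hb, hbo⟩, -⟩ := existsUnique_ofBlock_in hP hPH hC
  obtain ⟨c, hc, rfl⟩ := exists_idemS_eq hpM hb
  exact ⟨c, hc, hbo, rk_eq hpM hP hPH hC hc hbo⟩

theorem rk_cz (hpM : (p : AlgInt) ∈ M) {B : Set (IrrCharacter G)} (D : MaxData p B P e)
    (hab : ∀ x ∈ P, ∀ y ∈ P, x * y = y * x) {v : G} (hv : v ∈ P) [Fintype (cz v)] :
    blockRank p (blkSet (M := M) v (locB p P e v)) = rk p P e (cz v) := by
  haveI := charP_res (p := p) hpM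
  have hle := locB_spec hpM D hv
  have hβ : IsBlk (cz v) (locB p P e v) := (hle.isPair_left D.pmax.pair).blk
  obtain ⟨hbs, hbe⟩ := blkSet_spec hpM hβ
  have hPC : P ≤ cz v := fun w hw => mem_cz.mpr (hab v hv w hw)
  have hCC : Subgroup.centralizer (P : Set G) ≤ cz v := fun w hw =>
    mem_cz.mpr (Subgroup.mem_centralizer_iff.mp hw v hv)
  refine (rk_eq hpM D.pmax.pair hPC hCC hbs ?_).symm
  rw [hbe]
  refine (PairLE.ofBlock_iff_in hle hPC le_rfl hβ).mp ?_
  show br (Subgroup.zpowers v) (locB p P e v) * locB p P e v = locB p P e v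
  rw [br_eq_self hβ.supp, hβ.idem]

theorem rk_top (hpM : (p : AlgInt) ∈ M) {B : Set (IrrCharacter G)} (D : MaxData p B P e) :
    rk p P e (⊤ : Subgroup G) = blockRank p B := by
  haveI := charP_res (p := p) hpM
  letI := Fintype.ofFinite (⊤ : Subgroup G)
  let φ : G ≃* (⊤ : Subgroup G) := Subgroup.topEquiv.symm
  have hidem : idemS M (mapSet φ B) = idemG M B :=
    idem_mapSet Function.injective_id φ (MonoidHom.ext fun _ => rfl) B
  rw [rk_eq hpM D.pmax.pair le_top le_top (isPBlock_mapSet φ D.blk) (by rw [hidem]; exact D.ofB),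
    blockRank_mapSet]

theorem emb_idem {H : Subgroup G} [Fintype H] {K : Type u} [Group K] [Fintype K] {ι : K →* H}
    (hι : Function.Injective ι) (c : Set (IrrCharacter K)) :
    emb (Res M) H (idem M ι c) = idem M (H.subtype.comp ι) c := by
  have hι' : Function.Injective (H.subtype.comp ι) := H.subtype_injective.comp hι
  ext g
  by_cases hg : g ∈ (H.subtype.comp ι).range
  · obtain ⟨x, rfl⟩ := hg
    rw [idem, idem, coeff_red hι', MonoidHom.comp_apply]
    show (emb (Res M) H _).coeff ((ι x : H) : G) = _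
    rw [coeff_emb, coeff_red hι]
  · rw [idem, idem, coeff_red_of_notMem _ hg]
    by_cases hgH : g ∈ H
    · rw [show g = ((⟨g, hgH⟩ : H) : G) from rfl, coeff_emb]
      refine coeff_red_of_notMem _ fun ⟨x, hx⟩ => hg ⟨x, ?_⟩
      rw [MonoidHom.comp_apply, hx]; rfl
    · rw [supportedIn_emb _ g hgH]

/-- The pair seen inside a subgroup containing its centralizer. -/
structure SubPair (p : ℕ) (P : Subgroup G) (e : (Res M)[G]) (H : Subgroup G) [Fintype H]
    (P' : Subgroup H) (e' : (Res M)[H]) : Prop where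
  map_eq : P'.map H.subtype = P
  emb_eq : emb (Res M) H e' = e

theorem exists_subPair (hpM : (p : AlgInt) ∈ M) (hmax : IsMaxPair p P e) {H : Subgroup G}
    [Fintype H] (hPH : P ≤ H) (hC : Subgroup.centralizer (P : Set G) ≤ H) :
    ∃ (P' : Subgroup H) (e' : (Res M)[H]) (B' : Set (IrrCharacter H)),
      SubPair p P e H P' e' ∧ MaxData p B' P' e' ∧ blockRank p B' = rk p P e H := by
  classical
  haveI := charP_res (p := p) hpM
  obtain ⟨c, hc, hco, hrk⟩ := exists_rk hpM hmax.pair hPH hC
  obtain ⟨e', he'⟩ := exists_emb_eq (k := Res M) (hmax.pair.blk.supp.mono hC)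
  set P' := P.subgroupOf H with hP'
  have hmap : P'.map H.subtype = P := by
    rw [hP', Subgroup.subgroupOf_map_subtype, inf_eq_left.mpr hPH]
  have hcen : (Subgroup.centralizer (P' : Set H)).map H.subtype =
      Subgroup.centralizer (P : Set G) := by
    rw [map_centralizer, hmap, inf_eq_right.mpr hC]
  have hpair : IsPair p P' e' := by
    refine ⟨hmax.pair.pgroup.comap_of_injective H.subtype H.subtype_injective, ?_⟩
    rw [← isBlk_emb_iff, hcen, he']
    exact hmax.pair.blk
  refine ⟨P', e', c, ⟨hmap, he'⟩, ⟨⟨hpair, fun R g hs => ?_⟩, hc, ?_⟩, hrk.symm⟩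
  · have hstep : NStep p (P, e) (R.map H.subtype, emb (Res M) H g) := by
      refine ⟨hmax.pair, ⟨hs.right.pgroup.map _, ?_⟩, ?_, ?_, ?_, ?_⟩
      · have h1 : Subgroup.centralizer ((R.map H.subtype : Subgroup G) : Set G) ≤ H :=
          (centralizer_anti (hmap ▸ Subgroup.map_mono hs.le)).trans hC
        have h2 := (isBlk_emb_iff _ g).mpr hs.right.blk
        rwa [map_centralizer, inf_eq_right.mpr h1] at h2
      · exact hmap ▸ Subgroup.map_mono hs.le
      · rintro _ ⟨r, hr, rfl⟩
        rw [← hmap]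
        exact (mem_normalizer_map_iff P' r).mpr (hs.norm hr)
      · rintro _ ⟨r, hr, rfl⟩
        show cj ((r : H) : G) e = e
        rw [← he', ← emb_cj, hs.stable r hr]
      · show br (R.map H.subtype) e * emb (Res M) H g = emb (Res M) H g
        rw [← he', ← emb_br, ← map_mul]
        exact congrArg _ hs.occ
    have h := hmax.max _ _ hstep
    exact Subgroup.map_injective H.subtype_injective (h.trans hmap.symm)
  · show br P' (idemG M c) * e' = e'
    refine emb_injective ?_
    rw [map_mul, emb_br, emb_idemG, hmap, he']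
    exact hco

variable {H : Subgroup G} [Fintype H] {P' : Subgroup H} {e' : (Res M)[H]}

theorem SubPair.mem_iff (S : SubPair p P e H P' e') {v : H} : v ∈ P' ↔ (v : G) ∈ P := by
  rw [← S.map_eq]
  exact (Subgroup.mem_map_iff_mem H.subtype_injective).symm

theorem SubPair.mem_stab (S : SubPair p P e H P' e') {t : H} :
    t ∈ stab P' e' ↔ (t : G) ∈ stab P e := by
  rw [BlockChar.mem_stab, BlockChar.mem_stab, ← S.map_eq, mem_normalizer_map_iff, ← S.emb_eq, ← emb_cj]
  exact and_congr_right fun _ => ⟨fun h => congrArg _ h, fun h => emb_injective h⟩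

theorem SubPair.rk_map (hpM : (p : AlgInt) ∈ M) (S : SubPair p P e H P' e')
    (hP : IsPair p P' e') (hPG : IsPair p P e) (hC : Subgroup.centralizer (P : Set G) ≤ H)
    {K : Subgroup H} (hPK : P' ≤ K) (hCK : Subgroup.centralizer (P' : Set H) ≤ K) :
    rk p P' e' K = rk p P e (K.map H.subtype) := by
  classical
  haveI := charP_res (p := p) hpM
  obtain ⟨c, hc, hco, hrk⟩ := exists_rk hpM hP hPK hCK
  let φ : K ≃* K.map H.subtype := K.equivMapOfInjective H.subtype H.subtype_injective
  have hidem : idemS M (mapSet φ c) = emb (Res M) H (idemS M c) := by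
    rw [emb_idem (ι := K.subtype) K.subtype_injective]
    refine idem_mapSet (ι := H.subtype.comp K.subtype) ?_ φ ?_ c
    · exact H.subtype_injective.comp K.subtype_injective
    · exact MonoidHom.ext fun x => rfl
  rw [hrk, ← blockRank_mapSet φ p c]
  refine (rk_eq hpM hPG ?_ ?_ (isPBlock_mapSet φ hc) ?_).symm
  · rw [← S.map_eq]; exact Subgroup.map_mono hPK
  · rw [← inf_eq_right.mpr hC, ← S.map_eq, ← map_centralizer]
    exact Subgroup.map_mono hCK
  · show br P (idemS M (mapSet φ c)) * e = e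
    rw [hidem, ← S.map_eq, ← S.emb_eq, ← emb_br, ← map_mul]
    exact congrArg _ hco

end Cfsg.Agent.BlockChar
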