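import Cfsg.Agent.BlockChar.AbelianCount
import Cfsg.Agent.BlockChar.CycloEmb
import Cfsg.Agent.DegreeGraph.GaloisMean

/-!
# Contributions at central elements of a defect group: integrality and mean
-/

set_option autoImplicit false
set_option linter.unusedSectionVars false
set_option linter.style.haveILetI false

namespace Cfsg.Agent.BlockChar

open MonoidAlgebra
open scoped MonoidAlgebra ComplexConjugate
open Cfsg Cfsg.Agent Cfsg.Agent.Blocks

universe u

variable {G : Type u} [Group G] [Fintype G] {p : ℕ} [Fact p.Prime] {M : Ideal AlgInt}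
  [M.IsMaximal]

/-- Sections in terms of any block of a subgroup equal to the centralizer. -/
theorem sec_eq_secPart' (hpM : (p : AlgInt) ∈ M) (χ : IrrCharacter G) {u : G} {H : Subgroup G}
    [Fintype H] (hH : H = cz u) {b : Set (IrrCharacter H)} (hb : IsPBlock M b) (s : H) :
    sec (χ : G → ℂ) u (idemS M b) (s : G) = secPart u b χ s := by
  classical
  subst hH
  have hβ : IsBlk (cz u) (idemS M b) := isBlk_idemS hpM hb
  obtain ⟨hbs, hbe⟩ := blkSet_spec hpM hβ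
  rw [sec_eq_secPart hpM χ hβ, (idemS_inj hpM hbs hb).mp hbe]

theorem cz_pow {z : G} {k j : ℕ} (hz : z ^ p ^ k = 1) (hj : j.Coprime p) :
    Subgroup.zpowers (z ^ j) = Subgroup.zpowers z := by
  refine le_antisymm (Subgroup.zpowers_le.mpr (Subgroup.pow_mem _ (Subgroup.mem_zpowers z) j)) ?_
  have hcop : j.Coprime (orderOf z) :=
    Nat.Coprime.coprime_dvd_right (orderOf_dvd_of_pow_eq_one hz) (hj.pow_right k)
  obtain ⟨m, hm⟩ := exists_pow_eq_self_of_coprime hcop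
  exact Subgroup.zpowers_le.mpr ⟨(m : ℤ), (zpow_natCast _ m).trans hm⟩

/-- The parts at all generators of the subgroup of a `p`-element. -/
theorem exists_sec_formula (hpM : (p : AlgInt) ∈ M) (χ : IrrCharacter G) {z : G} {k : ℕ}
    (hz : z ^ p ^ k = 1) [Fintype (cz z)] {b : Set (IrrCharacter (cz z))} (hb : IsPBlock M b) :
    ∃ (n : IrrCharacter (cz z) → ℕ) (ζ : IrrCharacter (cz z) → ℂ),
      (∀ φ, ζ φ ^ p ^ k = 1) ∧ ∀ j : ℕ, j.Coprime p → ∀ s : cz z,
        sec (χ : G → ℂ) (z ^ j) (idemS M b) (s : G) =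
          ∑ φ ∈ bf b, (n φ : ℂ) * ζ φ ^ j * (φ : cz z → ℂ) s := by
  classical
  have hzH : z ∈ cz z := self_mem_cz z
  have hc : ∀ c : cz z, (⟨z, hzH⟩ : cz z) * c = c * ⟨z, hzH⟩ := fun c =>
    Subtype.ext (mem_cz.mp c.2).eq
  choose ζ hζk hζ using fun φ : IrrCharacter (cz z) =>
    exists_central_scalar hpM (z := (⟨z, hzH⟩ : cz z)) (k := k) (Subtype.ext hz) hc φ
  choose n hn using fun φ : IrrCharacter (cz z) =>
    Chars.exists_classInner_eq_nat (Chars.isCharacter_restrict (Chars.irr_isCharacter χ) (cz z))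
      (Chars.irr_isCharacter φ)
  refine ⟨n, ζ, hζk, fun j hj s => ?_⟩
  have hp0 : p ^ k ≠ 0 := pow_ne_zero _ (Fact.out : p.Prime).ne_zero
  have hζ0 : ∀ φ, ζ φ ≠ 0 := fun φ h => by simpa [h, zero_pow hp0] using hζk φ
  have hζj : ∀ φ : IrrCharacter (cz z), ∀ i : ℕ, ∀ c : cz z,
      (φ : cz z → ℂ) ((⟨z, hzH⟩ : cz z) ^ i * c) = ζ φ ^ i * (φ : cz z → ℂ) c := by
    intro φ i
    induction i with
    | zero => intro c; simp
    | succ i ih =>
      intro c
      rw [pow_succ, mul_assoc, ih, hζ φ, pow_succ]; ring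
  rw [sec_eq_secPart' hpM χ (by rw [cz, cz, cz_pow hz hj]) hb, secPart, blockPart, finsum_mem_bf]
  refine Finset.sum_congr rfl fun φ _ => ?_
  congr 1
  have key : classInner (fun c : cz z => (χ : G → ℂ) (z ^ j * (c : G))) (φ : cz z → ℂ) =
      (n φ : ℂ) * ζ φ ^ j := by
    rw [← hn φ, Chars.classInner_def, Chars.classInner_def, mul_assoc, Finset.sum_mul]
    congr 1
    refine Fintype.sum_equiv (Equiv.mulLeft ((⟨z, hzH⟩ : cz z) ^ j)) _ _ fun c => ?_
    show (χ : G → ℂ) (z ^ j * (c : G)) * conj ((φ : cz z → ℂ) c) =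
      (χ : G → ℂ) (((⟨z, hzH⟩ : cz z) ^ j * c : cz z) : G) *
        conj ((φ : cz z → ℂ) ((⟨z, hzH⟩ : cz z) ^ j * c)) * ζ φ ^ j
    rw [hζj φ j, map_mul, map_pow,
      ← Complex.inv_eq_conj (Complex.norm_eq_one_of_pow_eq_one (hζk φ) hp0), Subgroup.coe_mul,
      SubmonoidClass.coe_pow, inv_pow]
    field_simp [pow_ne_zero j (hζ0 φ)]
  refine Eq.trans ?_ key
  exact congrArg (fun i => @classInner _ _ i _ _) (Subsingleton.elim _ _)

theorem isIntegral_sec (hpM : (p : AlgInt) ∈ M) (χ : IrrCharacter G) {u : G}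
    (hu : ∃ k : ℕ, orderOf u = p ^ k) {β : (Res M)[G]} (hβ : IsBlk (cz u) β) {s : G}
    (hs : s ∈ cz u) : IsIntegral ℤ (sec (χ : G → ℂ) u β s) := by
  classical
  obtain ⟨k, hk⟩ := hu
  letI := Fintype.ofFinite (cz u)
  obtain ⟨hbs, hbe⟩ := blkSet_spec hpM hβ
  obtain ⟨n, ζ, hζ, h⟩ := exists_sec_formula hpM χ (z := u) (k := k)
    (by rw [← hk]; exact pow_orderOf_eq_one u) hbs
  have h1 := h 1 (Nat.coprime_one_left p) ⟨s, hs⟩
  rw [pow_one, hbe] at h1
  rw [h1]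
  refine IsIntegral.sum _ fun φ _ => ((isIntegral_natCast _).mul ?_).mul
    (DegreeGraph.isIntegral_value (Chars.irr_isCharacter φ) _)
  exact (IsIntegral.of_pow (pow_pos (Fact.out : p.Prime).pos k)
    (by rw [hζ φ]; exact isIntegral_one)).pow 1

/-- The integrality of `|G| / χ(1)` times a contribution. -/
theorem isIntegral_ratio_m2 (hpM : (p : AlgInt) ∈ M) (χ : IrrCharacter G) {v : G}
    (hvp : ∃ k : ℕ, orderOf v = p ^ k) {β : (Res M)[G]} (hβ : IsBlk (cz v) β) :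
    IsIntegral ℤ ((Nat.card G : ℂ) / (χ : G → ℂ) 1 *
      ((Nat.card (cz v) : ℂ)⁻¹ * m2 p (χ : G → ℂ) (χ : G → ℂ) v β)) := by
  classical
  set F : G → ℂ := fun g => conj (star p (χ : G → ℂ) (orbitInd v β) g) with hF
  have hFc : IsClassFunction G F := fun a c => by
    simp only [hF, isClassFunction_star hpM χ (phiConj_orbitInd v β) a c]
  have hFi : ∀ g, IsIntegral ℤ (F g) := fun g => by
    refine IsIntegral.map (starRingEnd ℂ).toIntAlgHom ?_
    refine IsIntegral.sum _ fun γ hγ => ?_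
    obtain ⟨y, hy, hc, -, -⟩ := isPPart_ppart (p := p) g
    refine IsIntegral.mul ?_ ?_
    · unfold orbitInd; split_ifs
      · exact isIntegral_one
      · exact isIntegral_zero
    · have h := isIntegral_sec hpM χ (exists_orderOf_ppart g) (mem_blks.mp hγ) (mem_cz.mpr hc)
      rwa [sec, hy] at h
  have homega : omega (χ : G → ℂ) F = (Nat.card G : ℂ) / (χ : G → ℂ) 1 *
      ((Nat.card (cz v) : ℂ)⁻¹ * m2 p (χ : G → ℂ) (χ : G → ℂ) v β) := by
    rw [← classInner_orbit hpM χ χ hvp hβ, Chars.classInner_def, omega, div_mul_eq_mul_div,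
      ← mul_assoc, mul_inv_cancel₀ Chars.card_ne_zero, one_mul]
    congr 1
    exact Finset.sum_congr rfl fun g _ => mul_comm _ _
  rw [← homega, omega_eq_sum_clsFun (Chars.isClassFunction_irr χ) hFc]
  exact IsIntegral.sum _ fun C _ => (hFi _).mul (Chars.centralChar_isIntegral_irr χ.2 _)

/-- Defect times contribution is an algebraic integer. -/
theorem isIntegral_pow_defect_m2 (hpM : (p : AlgInt) ∈ M) (χ : IrrCharacter G) {v : G} {k : ℕ}
    (hv : v ^ p ^ k = 1) [Fintype (cz v)] {b : Set (IrrCharacter (cz v))} (hb : IsPBlock M b) :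
    IsIntegral ℤ ((p : ℂ) ^ blockDefect p b *
      ((Nat.card (cz v) : ℂ)⁻¹ * m2 p (χ : G → ℂ) (χ : G → ℂ) v (idemS M b))) := by
  classical
  obtain ⟨n, ζ, hζ, h⟩ := exists_sec_formula hpM χ hv hb
  obtain ⟨A, hA, -, -, -⟩ := exists_contribution hpM hb
  have hp0 : p ^ k ≠ 0 := pow_ne_zero _ (Fact.out : p.Prime).ne_zero
  have hsec : ∀ s : cz v, sec (χ : G → ℂ) v (idemS M b) (s : G) =
      ∑ φ ∈ bf b, (n φ : ℂ) * ζ φ * (φ : cz v → ℂ) s := fun s => by
    simpa using h 1 (Nat.coprime_one_left p) s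
  have hval : (p : ℂ) ^ blockDefect p b *
      ((Nat.card (cz v) : ℂ)⁻¹ * m2 p (χ : G → ℂ) (χ : G → ℂ) v (idemS M b)) =
      ∑ φ ∈ bf b, ∑ φ' ∈ bf b, (n φ : ℂ) * n φ' * A φ φ' * (ζ φ * (ζ φ')⁻¹) := by
    have hm : m2 p (χ : G → ℂ) (χ : G → ℂ) v (idemS M b) = ∑ s ∈ regs p (cz v),
        sec (χ : G → ℂ) v (idemS M b) (s : G) *
          conj (sec (χ : G → ℂ) v (idemS M b) (s : G)) := by
      rw [m2]
      exact Finset.sum_congr (by congr! 1) fun _ _ => rfl
    rw [hm]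
    simp only [hsec]
    simp only [map_sum, map_mul, map_natCast,
      ← fun φ => Complex.inv_eq_conj (Complex.norm_eq_one_of_pow_eq_one (hζ φ) hp0)]
    simp only [Finset.mul_sum, Finset.sum_mul]
    rw [Finset.sum_comm_cycle]
    refine Finset.sum_congr rfl fun φ hφ => ?_
    rw [Finset.sum_comm]
    refine Finset.sum_congr rfl fun φ' _ => ?_
    rw [hA φ (mem_bf.1 hφ), regInner]
    simp only [Finset.mul_sum, Finset.sum_mul]
    exact Finset.sum_congr rfl fun s _ => by ring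
  rw [hval]
  have hint : ∀ φ, IsIntegral ℤ (ζ φ) := fun φ =>
    IsIntegral.of_pow (Nat.pos_of_ne_zero hp0) (by rw [hζ]; exact isIntegral_one)
  have hint' : ∀ φ, IsIntegral ℤ (ζ φ)⁻¹ := fun φ =>
    IsIntegral.of_pow (Nat.pos_of_ne_zero hp0) (by rw [inv_pow, hζ, inv_one]; exact isIntegral_one)
  refine IsIntegral.sum _ fun φ _ => IsIntegral.sum _ fun φ' _ => ?_
  exact ((IsIntegral.mul (isIntegral_natCast _) (isIntegral_natCast _)).mul
    (isIntegral_intCast _)).mul ((hint φ).mul (hint' φ'))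

/-- The diagonal norm form is the sum of the squares. -/
theorem m2_self (χ : G → ℂ) (v : G) (β : (Res M)[G]) [Fintype (cz v)] :
    m2 p χ χ v β = ((∑ s ∈ regs p (cz v), Complex.normSq (sec χ v β (s : G)) : ℝ) : ℂ) := by
  rw [m2, Complex.ofReal_sum]
  refine Finset.sum_congr (by congr! 1) fun s _ => ?_
  rw [Complex.mul_conj]

/-- Galois action on the contributions along a cyclic subgroup. -/
theorem exists_pow_m2 (hpM : (p : AlgInt) ∈ M) (χ : IrrCharacter G) {v : G} {k : ℕ}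
    (hv : orderOf v = p ^ k) [Fintype (cz v)] {b : Set (IrrCharacter (cz v))} (hb : IsPBlock M b)
    (σ : DegreeGraph.fieldG G →ₐ[ℚ] ℂ) {j : ℕ} (hjp : j.Coprime p) (hjG : j.Coprime (Nat.card G))
    (hroot : ∀ (ζ : ℂ) (h : ζ ^ Nat.card G = 1), σ ⟨ζ, root_mem_fieldG h⟩ = ζ ^ j)
    (hchar : ∀ (H : Subgroup G) (φ : H → ℂ) (hφ : IsCharacter H φ) (s : H),
        σ ⟨φ s, value_mem_sub hφ s⟩ = φ (s ^ j)) :
    ∃ hmem : m2 p (χ : G → ℂ) (χ : G → ℂ) v (idemS M b) ∈ DegreeGraph.fieldG G,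
      σ ⟨_, hmem⟩ = m2 p (χ : G → ℂ) (χ : G → ℂ) (v ^ j) (idemS M b) := by
  classical
  have hv' : v ^ p ^ k = 1 := hv ▸ pow_orderOf_eq_one v
  obtain ⟨n, ζ, hζ, h⟩ := exists_sec_formula hpM χ hv' hb
  have hp0 : p ^ k ≠ 0 := pow_ne_zero _ (Fact.out : p.Prime).ne_zero
  have hζG : ∀ φ, ζ φ ^ Nat.card G = 1 := fun φ => by
    obtain ⟨m, hm⟩ := orderOf_dvd_natCard v
    rw [hm, hv, pow_mul, hζ φ, one_pow]
  set β := idemS M b with hβ
  let z : IrrCharacter (cz v) → DegreeGraph.fieldG G := fun φ =>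
    ⟨ζ φ, root_mem_fieldG (hζG φ)⟩
  let val : IrrCharacter (cz v) → cz v → DegreeGraph.fieldG G := fun φ s =>
    ⟨(φ : cz v → ℂ) s, value_mem_sub (Chars.irr_isCharacter φ) s⟩
  let X : cz v → DegreeGraph.fieldG G := fun s =>
    ∑ φ ∈ bf b, (n φ : DegreeGraph.fieldG G) * z φ * val φ s
  let Y : cz v → DegreeGraph.fieldG G := fun s =>
    ∑ φ ∈ bf b, (n φ : DegreeGraph.fieldG G) * (z φ)⁻¹ * val φ s⁻¹
  have hsec : ∀ i : ℕ, i.Coprime p → ∀ s : cz v,
      sec (χ : G → ℂ) (v ^ i) β (s : G) = ∑ φ ∈ bf b, (n φ : ℂ) * ζ φ ^ i * (φ : cz v → ℂ) s ∧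
      conj (sec (χ : G → ℂ) (v ^ i) β (s : G)) =
        ∑ φ ∈ bf b, (n φ : ℂ) * (ζ φ ^ i)⁻¹ * (φ : cz v → ℂ) s⁻¹ := by
    intro i hi s
    refine ⟨h i hi s, ?_⟩
    rw [h i hi s, map_sum]
    refine Finset.sum_congr rfl fun φ _ => ?_
    rw [map_mul, map_mul, map_natCast, map_pow,
      ← Complex.inv_eq_conj (Complex.norm_eq_one_of_pow_eq_one (hζ φ) hp0), inv_pow,
      ← Chars.char_inv_eq_conj (Chars.irr_isCharacter φ)]
  have hval : ((∑ s ∈ regs p (cz v), X s * Y s : DegreeGraph.fieldG G) : ℂ) =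
      m2 p (χ : G → ℂ) (χ : G → ℂ) v β := by
    rw [m2, AddSubmonoidClass.coe_finsetSum]
    refine Finset.sum_congr (by congr! 1) fun s _ => ?_
    obtain ⟨h1, h2⟩ := hsec 1 (Nat.coprime_one_left p) s
    rw [pow_one] at h1 h2
    rw [h2, h1, MulMemClass.coe_mul]
    simp [X, Y, z, val]
  have hmem : m2 p (χ : G → ℂ) (χ : G → ℂ) v β ∈ DegreeGraph.fieldG G := by
    rw [← hval]; exact SetLike.coe_mem _
  refine ⟨hmem, ?_⟩
  rw [show (⟨_, hmem⟩ : DegreeGraph.fieldG G) =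
    ∑ s ∈ regs p (cz v), X s * Y s from Subtype.ext hval.symm, map_sum, m2_eq_filter]
  refine Finset.sum_nbij (fun s : cz v => (s : G) ^ j) ?_ ?_ ?_ ?_
  · intro s hs
    refine Finset.mem_filter.mpr ⟨Finset.mem_univ _, ?_, fun hd => mem_regs.mp hs ?_⟩
    · rw [cz, cz_pow hv' hjp]; exact (cz v).pow_mem s.2 j
    · rw [← Subgroup.orderOf_coe]
      exact hd.trans (orderOf_pow_dvd j)
  · exact fun a _ b _ h => Subtype.ext (DegreeGraph.pow_coprime_injective hjG h)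
  · intro g hg
    obtain ⟨-, h1, h2⟩ := Finset.mem_filter.mp (Finset.mem_coe.mp hg)
    obtain ⟨m, hm⟩ := exists_pow_eq_self_of_coprime
      (x := g) (hjG.coprime_dvd_right (orderOf_dvd_natCard g))
    have hg' : g ∈ cz v := by rwa [cz, cz_pow hv' hjp] at h1
    refine ⟨⟨g ^ m, (cz v).pow_mem hg' m⟩, Finset.mem_coe.mpr (mem_regs.mpr fun hd => h2 ?_), ?_⟩
    · rw [← Subgroup.orderOf_coe] at hd
      exact hd.trans (orderOf_pow_dvd m)
    · show (g ^ m) ^ j = g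
      rw [← pow_mul, mul_comm, pow_mul, hm]
  · intro s _
    obtain ⟨h1, h2⟩ := hsec j hjp (s ^ j)
    rw [SubmonoidClass.coe_pow] at h1 h2
    rw [map_mul, h2, h1]
    simp only [X, Y, map_sum, map_mul, map_natCast, map_inv₀, z, val, hroot _ (hζG _),
      hchar _ _ (Chars.irr_isCharacter _), inv_pow]

end Cfsg.Agent.BlockChar
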