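import Cfsg.Agent.BlockChar.StarTrace
import Cfsg.Agent.Chars.TwoDegreesPrime

/-!
# Watanabe: an element of an abelian defect group fixed by the inertial group
-/

set_option autoImplicit false
set_option linter.unusedSectionVars false
set_option linter.style.haveILetI false

namespace Cfsg.Agent.BlockChar

open MonoidAlgebra
open scoped MonoidAlgebra ComplexConjugate
open Cfsg Cfsg.Agent Cfsg.Agent.Blocks

universe u

variable {G : Type u} [Group G] [Fintype G] {p : ℕ} [Fact p.Prime] {M : Ideal AlgInt}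
  [M.IsMaximal]

open scoped Classical in
/-- A linear character of `P` stable under a group acting as a `p'`-group, trivial on fixed
points `Z`, nontrivial at a fixed point outside `Z`. -/
theorem exists_stable_linear {P T : Subgroup G} (hP : IsPGroup p P)
    (hab : ∀ x ∈ P, ∀ y ∈ P, x * y = y * x) (hTN : T ≤ Subgroup.normalizer (P : Set G))
    (hidx : ¬ p ∣ (Subgroup.centralizer (P : Set G)).relIndex T) {Z : Subgroup G}
    (hZfix : ∀ t ∈ T, ∀ z ∈ Z, t * z * t⁻¹ = z) {u : G} (hu : u ∈ P)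
    (hufix : ∀ t ∈ T, t * u * t⁻¹ = u) (huZ : u ∉ Z) :
    ∃ (φ : P →* ℂˣ) (f : G → ℂ), (∀ v : P, f v = (φ v : ℂ)) ∧
      (∀ t ∈ T, ∀ v ∈ P, f (t * v * t⁻¹) = f v) ∧ (∀ z ∈ Z, z ∈ P → f z = 1) ∧
      φ ⟨u, hu⟩ ≠ 1 := by
  letI : CommGroup P := { mul_comm := fun a b => Subtype.ext (hab a a.2 b b.2) }
  obtain ⟨ψ, hψZ, hψu⟩ : ∃ ψ : P →* ℂˣ, (∀ s ∈ Z.subgroupOf P, ψ s = 1) ∧ ψ ⟨u, hu⟩ ≠ 1 := by
    by_contra h
    push Not at h
    exact huZ (Chars.TwoDeg.mem_of_forall_hom (Z.subgroupOf P) (x := (⟨u, hu⟩ : P)) h)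
  set N := (Subgroup.centralizer (P : Set G)).subgroupOf T with hN
  let act : T → P →* P := fun t =>
    { toFun := fun v => ⟨(t : G) * v * (t : G)⁻¹, (Subgroup.mem_normalizer_iff.mp (hTN t.2) v).mp v.2⟩
      map_one' := Subtype.ext (by simp)
      map_mul' := fun a b => Subtype.ext (by simp [mul_assoc]) }
  let q : T ⧸ N → (P →* ℂˣ) := Quotient.lift (fun t : T => ψ.comp (act t⁻¹)) (fun a b hab' => by
    have hab'' : a⁻¹ * b ∈ N := QuotientGroup.leftRel_apply.mp hab'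
    rw [hN, Subgroup.mem_subgroupOf] at hab''
    refine MonoidHom.ext fun v => congrArg ψ (Subtype.ext ?_)
    show ((a⁻¹ : T) : G) * v * ((a⁻¹ : T) : G)⁻¹ = ((b⁻¹ : T) : G) * v * ((b⁻¹ : T) : G)⁻¹
    have hv' : (b : G)⁻¹ * v * b ∈ P :=
      (Subgroup.mem_normalizer_iff''.mp (hTN b.2) _).mp v.2
    have h := Subgroup.mem_centralizer_iff.mp hab'' _ hv'
    push_cast at h ⊢
    calc (a : G)⁻¹ * v * ((a : G)⁻¹)⁻¹
        = ((a : G)⁻¹ * b) * ((b : G)⁻¹ * v * b) * ((a : G)⁻¹ * b)⁻¹ := by group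
      _ = _ := by rw [← h]; group)
  set φ : P →* ℂˣ := ∏ x : T ⧸ N, q x with hφ
  set f : G → ℂ := fun g => if hg : g ∈ P then (φ ⟨g, hg⟩ : ℂ) else 0 with hf
  have hq : ∀ (t : T) (v : P), q (QuotientGroup.mk t) v = ψ (act t⁻¹ v) := fun _ _ => rfl
  refine ⟨φ, f, fun v => by simp [hf], ?_, ?_, ?_⟩
  · intro t ht v hv
    have hv' := (Subgroup.mem_normalizer_iff.mp (hTN ht) v).mp hv
    simp only [hf, dif_pos hv, dif_pos hv']
    congr 1
    rw [hφ, MonoidHom.finset_prod_apply, MonoidHom.finset_prod_apply]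
    refine Fintype.prod_equiv (MulAction.toPerm (⟨t, ht⟩ : T)⁻¹) _ _ fun x => ?_
    induction x using QuotientGroup.induction_on with | H s =>
    show q (QuotientGroup.mk s) _ = q (QuotientGroup.mk ((⟨t, ht⟩ : T)⁻¹ * s)) _
    rw [hq, hq]
    refine congrArg ψ (Subtype.ext ?_)
    show ((s⁻¹ : T) : G) * (t * v * t⁻¹) * ((s⁻¹ : T) : G)⁻¹ =
      (((⟨t, ht⟩ : T)⁻¹ * s)⁻¹ : T) * v * ((((⟨t, ht⟩ : T)⁻¹ * s)⁻¹ : T) : G)⁻¹
    push_cast
    group
  · intro z hz hzP
    simp only [hf, dif_pos hzP]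
    rw [hφ, MonoidHom.finset_prod_apply, Units.val_eq_one]
    refine Finset.prod_eq_one fun x _ => ?_
    induction x using QuotientGroup.induction_on with | H s =>
    rw [hq]
    refine hψZ _ ?_
    rw [Subgroup.mem_subgroupOf]
    show ((s⁻¹ : T) : G) * z * ((s⁻¹ : T) : G)⁻¹ ∈ Z
    rw [hZfix _ (s⁻¹).2 z hz]
    exact hz
  · intro h1
    rw [hφ, MonoidHom.finset_prod_apply, Finset.prod_eq_pow_card (b := ψ ⟨u, hu⟩) fun x _ => by
      induction x using QuotientGroup.induction_on with | H s =>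
      rw [hq]
      exact congrArg ψ (Subtype.ext (hufix _ (s⁻¹).2)),
      Finset.card_univ, ← Nat.card_eq_fintype_card] at h1
    obtain ⟨m, hm⟩ := orderOf_of_mem hP hu
    have hpow : ψ ⟨u, hu⟩ ^ p ^ m = 1 := by
      rw [← map_pow, show (⟨u, hu⟩ : P) ^ p ^ m = 1 from
        Subtype.ext (by simp [← hm, pow_orderOf_eq_one]), map_one]
    have hcop : (Nat.card (T ⧸ N)).Coprime (p ^ m) :=
      Nat.Coprime.pow_right m ((Fact.out : p.Prime).coprime_iff_not_dvd.mpr hidx).symm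
    apply hψu
    have h := pow_gcd_eq_one.mpr ⟨h1, hpow⟩
    rwa [hcop.gcd_eq_one, pow_one] at h

variable {P : Subgroup G} {e : (Res M)[G]}

/-- The inertial index of an abelian maximal pair is prime to `p`. -/
theorem relIndex_stab_prime_to (hpM : (p : AlgInt) ∈ M) (hmax : IsMaxPair p P e)
    (hab : ∀ x ∈ P, ∀ y ∈ P, x * y = y * x) {T : Subgroup G} (hT : T ≤ stab P e) :
    ¬ p ∣ (Subgroup.centralizer (P : Set G)).relIndex T := by
  haveI := charP_res (p := p) hpM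
  have hPC : P ≤ Subgroup.centralizer (P : Set G) := fun x hx =>
    Subgroup.mem_centralizer_iff.mpr fun y hy => hab y hy x hx
  set N := (Subgroup.centralizer (P : Set G)).subgroupOf T with hN
  haveI : N.Normal := Subgroup.normal_subgroupOf_of_le_normalizer
    (fun t ht => normalizer_le_normalizer_centralizer P (hT ht).1)
  intro hd
  rw [Subgroup.relIndex, ← hN, Subgroup.index_eq_card] at hd
  obtain ⟨x, hx⟩ := exists_prime_orderOf_dvd_card' p hd
  obtain ⟨t, rfl⟩ := QuotientGroup.mk'_surjective N x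
  -- the p-part of `t` still maps onto `x`
  obtain ⟨y, hy, hcomm, ⟨k, hk⟩, hyr⟩ := isPPart_ppart (p := p) (t : G)
  have hpt : ppart p (t : G) ∈ Subgroup.centralizer (P : Set G) := by
    have hmem : ppart p (t : G) ∈ Subgroup.zpowers (t : G) := Subgroup.pow_mem _ (Subgroup.mem_zpowers _) (ppExp p G)
    have := mem_sup_of_isPElement hmax (hT ((Subgroup.zpowers_le.mpr t.2) hmem)) (n := k)
      (by rw [← hk]; exact pow_orderOf_eq_one _)
    rwa [sup_eq_right.mpr hPC] at this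
  set m := orderOf y with hm
  have h1 : (QuotientGroup.mk' N t) ^ m = 1 := by
    rw [← map_pow, QuotientGroup.mk'_apply, QuotientGroup.eq_one_iff, hN, Subgroup.mem_subgroupOf]
    push_cast
    rw [← hy, hcomm.mul_pow, hm, pow_orderOf_eq_one, mul_one]
    exact Subgroup.pow_mem _ hpt _
  exact hyr ((hx ▸ orderOf_dvd_of_pow_eq_one h1) : p ∣ m)

/-- The ranks around a fixed element of an abelian defect group. -/
theorem rk_inf_cz (hpM : (p : AlgInt) ∈ M) (hmax : IsMaxPair p P e)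
    (hab : ∀ x ∈ P, ∀ y ∈ P, x * y = y * x) {u : G} (hu : u ∈ P)
    (hufix : ∀ t ∈ stab P e, t * u * t⁻¹ = u) (H : Subgroup G) (hPH : P ≤ H)
    (hC : Subgroup.centralizer (P : Set G) ≤ H) :
    rk p P e H = rk p P e (H ⊓ cz u) := by
  classical
  induction H using WellFoundedLT.induction with
  | ind H ih =>
  haveI := charP_res (p := p) hpM
  by_cases huH : H ≤ cz u
  · rw [inf_eq_left.mpr huH]
  set Z : Subgroup G := P ⊓ Subgroup.centralizer (H : Set G) with hZ
  set T := stab P e ⊓ H with hT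
  have hZfix : ∀ t ∈ T, ∀ z ∈ Z, t * z * t⁻¹ = z := fun t ht z hz => by
    rw [Subgroup.mem_centralizer_iff.mp hz.2 t ht.2, mul_inv_cancel_right]
  have huZ : u ∉ Z := fun h => huH fun x hx => mem_cz.mpr
    (Subgroup.mem_centralizer_iff.mp h.2 x hx).symm
  obtain ⟨φ, f, hf, hst, hfZ, hne'⟩ := exists_stable_linear (T := T) hmax.pair.pgroup hab
    (fun t ht => (Subgroup.mem_inf.mp ht).1.1) (relIndex_stab_prime_to hpM hmax hab inf_le_left) hZfix hu
    (fun t ht => hufix t ht.1) huZ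
  have hne : ∃ v, φ v ≠ 1 := ⟨_, hne'⟩
  have hTcz : stab P e ≤ cz u := fun t ht => mem_cz.mpr
    (show Commute u t from (mul_inv_eq_iff_eq_mul.mp (hufix t ht)).symm)
  have hH' : stab P e ⊓ (H ⊓ cz u) = T := by
    rw [← inf_assoc, inf_eq_left]
    exact inf_le_left.trans hTcz
  have hCu : Subgroup.centralizer (P : Set G) ≤ cz u := fun w hw =>
    mem_cz.mpr (Subgroup.mem_centralizer_iff.mp hw u hu)
  have h1 := trace_eq_zero_in hpM hmax hab hPH hC φ f hf hst hne
  have h2 := trace_eq_zero_in hpM hmax hab (le_inf hPH fun w hw => mem_cz.mpr (hab u hu w hw))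
    (le_inf hC hCu) φ f hf (by rw [hH']; exact hst) hne
  rw [hH'] at h2
  have h3 := sub_eq_zero.mpr (h1.trans h2.symm)
  rw [← Finset.sum_sub_distrib] at h3
  have hterm : ∀ v ∈ Finset.univ.filter (fun v : G => v ∈ P),
      (Nat.card {w : G | ∃ t ∈ T, t * v * t⁻¹ = w} : ℂ)⁻¹ * f v *
          (rk p P e (H ⊓ cz v) : ℂ) -
        (Nat.card {w : G | ∃ t ∈ T, t * v * t⁻¹ = w} : ℂ)⁻¹ * f v *
          (rk p P e (H ⊓ cz u ⊓ cz v) : ℂ) =
      if v ∈ Z then ((rk p P e H : ℂ) - rk p P e (H ⊓ cz u)) else 0 := by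
    intro v hv
    have hvP := (Finset.mem_filter.mp hv).2
    by_cases hvH : H ≤ cz v
    · have hvZ : v ∈ Z := ⟨hvP, Subgroup.mem_centralizer_iff.mpr fun x hx =>
        (mem_cz.mp (hvH hx)).eq.symm⟩
      have hone : {w : G | ∃ t ∈ T, t * v * t⁻¹ = w} = {v} := by
        ext w
        constructor
        · rintro ⟨t, ht, rfl⟩; exact hZfix t ht v hvZ
        · rintro rfl; exact ⟨1, one_mem _, by simp⟩
      rw [if_pos hvZ, inf_eq_left.mpr hvH, inf_eq_left.mpr (inf_le_left.trans hvH), hone,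
        Nat.card_coe_set_eq, Set.ncard_singleton, hfZ v hvZ hvP]
      simp
    · have hvZ : v ∉ Z := fun h => hvH fun x hx => mem_cz.mpr
        (Subgroup.mem_centralizer_iff.mp h.2 x hx).symm
      rw [if_neg hvZ, ih (H ⊓ cz v) (lt_of_le_of_ne inf_le_left fun h => hvH (inf_eq_left.mp h))
        (le_inf hPH fun w hw => mem_cz.mpr (hab v hvP w hw))
        (le_inf hC fun w hw => mem_cz.mpr (Subgroup.mem_centralizer_iff.mp hw v hvP)),
        inf_right_comm, sub_self]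
  rw [Finset.sum_congr rfl hterm, ← Finset.sum_filter, Finset.sum_const, nsmul_eq_mul,
    mul_eq_zero] at h3
  rcases h3 with h3 | h3
  · exfalso
    rw [Nat.cast_eq_zero, Finset.card_eq_zero, Finset.filter_eq_empty_iff] at h3
    exact h3 (Finset.mem_filter.mpr ⟨Finset.mem_univ 1, one_mem P⟩) (one_mem Z)
  · exact_mod_cast sub_eq_zero.mp h3

open scoped Classical in
/-- Brauer's count inside a subgroup containing the centralizer of the defect group. -/
theorem card_eq_sum_rk_in (hpM : (p : AlgInt) ∈ M) (hmax : IsMaxPair p P e)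
    (hab : ∀ x ∈ P, ∀ y ∈ P, x * y = y * x) {H : Subgroup G} (hPH : P ≤ H)
    (hC : Subgroup.centralizer (P : Set G) ≤ H) {c : Set (IrrCharacter H)} (hc : IsPBlock M c)
    (hco : OfBlock (idemS M c) P e) :
    (Nat.card c : ℂ) = ∑ v ∈ Finset.univ.filter (· ∈ P),
      (Nat.card {w : G | ∃ t ∈ stab P e ⊓ H, t * v * t⁻¹ = w} : ℂ)⁻¹ *
        (rk p P e (H ⊓ cz v) : ℂ) := by
  haveI := charP_res (p := p) hpM
  letI := Fintype.ofFinite H
  obtain ⟨P', e', B', S, D', -⟩ := exists_subPair hpM hmax hPH hC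
  letI : ∀ v : H, Fintype (cz v) := fun v => Fintype.ofFinite _
  have hB' : c = B' := by
    refine eq_of_idemG_eq hpM hc D'.blk ((existsUnique_ofBlock D'.pmax.pair).unique
      ⟨isBlk_idemG hpM hc, ?_⟩ ⟨isBlk_idemG hpM D'.blk, D'.ofB⟩)
    show br P' (idemG M c) * e' = e'
    refine emb_injective ?_
    rw [map_mul, emb_br, emb_idemG, S.map_eq, S.emb_eq]
    exact hco
  subst hB'
  have hab' : ∀ x ∈ P', ∀ y ∈ P', x * y = y * x := fun x hx y hy =>
    Subtype.ext (hab _ (S.mem_iff.mp hx) _ (S.mem_iff.mp hy))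
  rw [card_eq_sum_rank hpM D' hab']
  refine Finset.sum_nbij' (fun v => (v : G)) (fun g => if hg : g ∈ H then ⟨g, hg⟩ else 1)
    ?_ ?_ ?_ ?_ ?_
  · exact fun v hv => Finset.mem_filter.mpr ⟨Finset.mem_univ _,
      S.mem_iff.mp (Finset.mem_filter.mp hv).2⟩
  · intro g hg
    have hgP := (Finset.mem_filter.mp hg).2
    rw [dif_pos (hPH hgP)]
    exact Finset.mem_filter.mpr ⟨Finset.mem_univ _, S.mem_iff.mpr hgP⟩
  · intro v _; simp [v.2]
  · intro g hg; simp [hPH (Finset.mem_filter.mp hg).2]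
  intro v hv
  have hvP' := (Finset.mem_filter.mp hv).2
  have horb : Nat.card (orbP P' e' v) =
      Nat.card {w : G | ∃ t ∈ stab P e ⊓ H, t * (v : G) * t⁻¹ = w} := by
    refine Nat.card_congr (Equiv.ofBijective (fun w => ⟨((w.1 : H) : G), ?_⟩) ⟨?_, ?_⟩)
    · obtain ⟨t, ht, hw⟩ := w.2
      exact ⟨t, ⟨S.mem_stab.mp ht, t.2⟩, congrArg Subtype.val hw⟩
    · exact fun a c hac => Subtype.ext (Subtype.ext (congrArg Subtype.val hac :))
    · rintro ⟨w, t, ht, rfl⟩
      exact ⟨⟨⟨t, ht.2⟩ * v * ⟨t, ht.2⟩⁻¹, ⟨t, ht.2⟩, S.mem_stab.mpr ht.1, rfl⟩, rfl⟩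
  have hcz : (cz v).map H.subtype = H ⊓ cz (v : G) := by
    ext g
    simp only [Subgroup.mem_map, Subgroup.mem_inf, mem_cz, Subgroup.coe_subtype]
    constructor
    · rintro ⟨x, hx, rfl⟩
      exact ⟨x.2, congrArg Subtype.val hx.eq⟩
    · rintro ⟨hg, hc⟩
      exact ⟨⟨g, hg⟩, Subtype.ext hc.eq, rfl⟩
  rw [horb, rk_cz hpM D' hab' hvP', S.rk_map hpM D'.pmax.pair hmax.pair hC
    (fun w hw => mem_cz.mpr (hab' v hvP' w hw))
    (fun w hw => mem_cz.mpr (Subgroup.mem_centralizer_iff.mp hw v hvP')), hcz]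

end Cfsg.Agent.BlockChar
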