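import Cfsg.Agent.BlockChar.CycModel
import Cfsg.Agent.BlockChar.AbelianContrib
import Cfsg.Agent.BlockChar.MajorCentral
import Cfsg.Agent.BlockChar.Watanabe
import Cfsg.Agent.Chars2.GaloisPerm

/-!
# The regular form of a block whose defect group has order `p²` and meets the centre

The contributions at the complement give a projection with a cyclic symmetry, so the regular
form is a sum of squares of linear forms over the `p`-th roots of unity.
-/

set_option autoImplicit false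
set_option linter.unusedSectionVars false
set_option linter.style.haveILetI false

namespace Cfsg.Agent.BlockChar

open MonoidAlgebra
open scoped MonoidAlgebra ComplexConjugate
open Cfsg Cfsg.Agent Cfsg.Agent.Blocks

universe u

variable {G : Type u} [Group G] [Fintype G] {p : ℕ} [Fact p.Prime] {M : Ideal AlgInt}
  [M.IsMaximal] {B : Set (IrrCharacter G)} {P : Subgroup G} {e : (Res M)[G]}

/-- An exponent generating the units modulo `p`, fixing the regular elements. -/
theorem exists_gen_exp (p : ℕ) [Fact p.Prime] (G : Type u) [Group G] [Fintype G] :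
    ∃ K : ℕ, K.Coprime (Nat.card G) ∧ K.Coprime p ∧ (∀ c : G, ¬ p ∣ orderOf c → c ^ K = c) ∧
      (p = 2 → K = 1) ∧ ∀ j : ℕ, ¬ p ∣ j → ∃ n : ℕ, j ≡ K ^ n [MOD p] := by
  have hp : p.Prime := Fact.out
  by_cases h2 : p = 2
  · refine ⟨1, Nat.coprime_one_left _, Nat.coprime_one_left _, fun c _ => pow_one c,
      fun _ => rfl, fun j hj => ⟨0, ?_⟩⟩
    subst h2
    show j % 2 = 1 ^ 0 % 2
    rw [pow_zero]; omega
  set N := Nat.card G
  set a := N.factorization p
  set m := N / p ^ a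
  have hm : ¬ p ∣ m := Nat.not_dvd_ordCompl hp Nat.card_pos.ne'
  obtain ⟨g, hg⟩ := IsCyclic.exists_generator (α := (ZMod p)ˣ)
  have hgp : ((g : ZMod p).val).Coprime p := ZMod.val_coe_unit_coprime g
  obtain ⟨K, hK1, hK2⟩ := Nat.chineseRemainder
    ((hp.coprime_iff_not_dvd.mpr hm).pow_left (a + 1)) (g : ZMod p).val 1
  have hKp : K ≡ (g : ZMod p).val [MOD p] := hK1.of_dvd (dvd_pow_self p (Nat.succ_ne_zero a))
  have hKcop : K.Coprime p := by
    show Nat.gcd K p = 1
    rw [hKp.gcd_eq]; exact hgp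
  have hKm : K.Coprime m := by
    show Nat.gcd K m = 1
    rw [hK2.gcd_eq, Nat.gcd_one_left]
  have hN : p ^ a * m = N := Nat.ordProj_mul_ordCompl_eq_self N p
  refine ⟨K, hN ▸ (hKcop.pow_right a).mul_right hKm, hKcop, fun c hc => ?_,
    fun h => absurd h h2, fun j hj => ?_⟩
  · have hcm : orderOf c ∣ m :=
      ((hp.coprime_iff_not_dvd.mpr hc).symm.pow_right a).dvd_of_dvd_mul_left
        (hN ▸ orderOf_dvd_natCard c)
    conv_rhs => rw [← pow_one c]
    exact pow_eq_pow_iff_modEq.mpr (hK2.of_dvd hcm)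
  · have hj' : j.Coprime p := (hp.coprime_iff_not_dvd.mpr hj).symm
    obtain ⟨n, hn⟩ := mem_powers_iff_mem_zpowers.mpr (hg (ZMod.unitOfCoprime j hj'))
    refine ⟨n, (ZMod.natCast_eq_natCast_iff j (K ^ n) p).mp ?_⟩
    have hKg : (K : ZMod p) = (g : ZMod p) := by
      rw [(ZMod.natCast_eq_natCast_iff _ _ _).mpr hKp, ZMod.natCast_val, ZMod.cast_id]
    rw [Nat.cast_pow, hKg, ← Units.val_pow_eq_pow_val, show g ^ n = _ from hn]
    exact (ZMod.coe_unitOfCoprime j hj').symm

/-- A field automorphism raising the roots of unity to a power acts by that power. -/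
theorem map_value_pow {σ : ℂ ≃+* ℂ} {K : ℕ} (hσ : ∀ z : ℂ, z ^ Nat.card G = 1 → σ z = z ^ K)
    (χ : IrrCharacter G) (g : G) : σ ((χ : G → ℂ) g) = (χ : G → ℂ) (g ^ K) := by
  obtain ⟨n, ρ, hρ⟩ := Chars.irr_isCharacter χ
  obtain ⟨z, hz, hc, -, -⟩ := Chars.exists_eigenvalues ρ g
  have h1 := hc 1
  rw [pow_one] at h1
  rw [← hρ, h1, hc K, map_sum]
  refine Finset.sum_congr rfl fun i _ => ?_
  rw [pow_one]
  refine hσ _ ?_
  obtain ⟨c, hc'⟩ := orderOf_dvd_natCard g
  rw [hc', pow_mul, hz, one_pow]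

/-- The blocks below `(P, e)` at elements with the same centralizer. -/
theorem locB_eq_of_cz (hpM : (p : AlgInt) ∈ M) (D : MaxData p B P e) {v v' : G} (hv : v ∈ P)
    (hv' : v' ∈ P) (h : cz v = cz v') : locB p P e v = locB p P e v' := by
  haveI := charP_res (p := p) hpM
  set R := Subgroup.zpowers v ⊔ Subgroup.zpowers v'
  obtain ⟨g, hg, hgle⟩ := pairLE_exists D.pmax.pair R
    (sup_le (Subgroup.zpowers_le.mpr hv) (Subgroup.zpowers_le.mpr hv'))
  have key : ∀ x ∈ P, cz x = cz v → Subgroup.zpowers x ≤ R → locB p P e x = g := by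
    intro x hx hxv hxR
    have hle := pairLE_restrict D.pmax.pair (locB_spec hpM D hx) hgle hxR
    have hb : IsBlk (cz x) (locB p P e x) :=
      ((locB_spec hpM D hx).isPair_left D.pmax.pair).blk
    have hC : Subgroup.centralizer (R : Set G) = cz x := by
      refine le_antisymm (centralizer_anti hxR) fun y hy => ?_
      refine Subgroup.le_centralizer_iff.mp (sup_le ?_ ?_ : R ≤ Subgroup.centralizer (cz x : Set G)) hy
      · rw [hxv]; exact Subgroup.zpowers_le.mpr (Subgroup.mem_centralizer_iff.mpr fun c hc =>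
          (mem_cz.mp hc).eq.symm)
      · rw [hxv, h]; exact Subgroup.zpowers_le.mpr (Subgroup.mem_centralizer_iff.mpr fun c hc =>
          (mem_cz.mp hc).eq.symm)
    have hgb : IsBlk (cz x) g := hC ▸ hg.blk
    by_contra hne
    have hself : OfBlock (locB p P e x) (Subgroup.zpowers x) (locB p P e x) := by
      show br _ _ * _ = _
      rw [br_eq_self hb.supp, hb.idem]
    have hRC : R ≤ cz x := sup_le
      (Subgroup.zpowers_le.mpr (hxv ▸ self_mem_cz v))
      (Subgroup.zpowers_le.mpr (hxv ▸ h ▸ self_mem_cz v'))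
    have ho := (hle.ofBlock_iff_in hRC le_rfl hb).mp hself
    unfold OfBlock at ho
    rw [br_eq_self (by rw [hC]; exact hb.supp)] at ho
    exact hgb.ne_zero (ho.symm.trans (hb.orth hgb hne))
  rw [key v hv rfl le_sup_left, key v' hv' h.symm le_sup_right]

/-- Contributions are constant along the orbits of the stabilizer. -/
theorem conP_orb (hpM : (p : AlgInt) ∈ M) (D : MaxData p B P e) (χ ψ : IrrCharacter G) {v w : G}
    (hv : v ∈ P) (hw : w ∈ orbP P e v) :
    conP p P e (χ : G → ℂ) (ψ : G → ℂ) w = conP p P e (χ : G → ℂ) (ψ : G → ℂ) v := by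
  haveI := charP_res (p := p) hpM
  obtain ⟨t, ht, rfl⟩ := hw
  have hle := locB_spec hpM D hv
  have h1 : PairLE p (Subgroup.zpowers (t * v * t⁻¹), cj t (locB p P e v)) (P, e) := by
    have h := hle.cj t
    rwa [conjS_zpowers, conjS_eq_self_of_mem_normalizer ht.1, ht.2] at h
  rw [conP, conP, ← eq_locB hpM D ((Subgroup.mem_normalizer_iff.mp ht.1 v).mp hv) h1,
    m2_cj hpM χ ψ t (hle.isPair_left D.pmax.pair).blk, ← conjS_cz]
  congr 3
  exact Subgroup.card_map_of_injective (MulAut.conj t).injective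

/-- Contributions at a power prime to `p` that fixes the regular elements. -/
theorem conP_pow (hpM : (p : AlgInt) ∈ M) (D : MaxData p B P e) {v : G} (hv : v ∈ P) {K : ℕ}
    (hKp : K.Coprime p) (hK : ∀ c : G, ¬ p ∣ orderOf c → c ^ K = c)
    {χ ψ χ' ψ' : IrrCharacter G} (hχ : ∀ g, (χ' : G → ℂ) g = (χ : G → ℂ) (g ^ K))
    (hψ : ∀ g, (ψ' : G → ℂ) g = (ψ : G → ℂ) (g ^ K)) :
    conP p P e (χ : G → ℂ) (ψ : G → ℂ) (v ^ K) =
      conP p P e (χ' : G → ℂ) (ψ' : G → ℂ) v := by
  classical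
  haveI := charP_res (p := p) hpM
  obtain ⟨k, hk⟩ := orderOf_of_mem D.pmax.pair.pgroup hv
  have hvk : v ^ p ^ k = 1 := hk ▸ pow_orderOf_eq_one v
  have hcz : cz (v ^ K) = cz v := by rw [cz, cz, cz_pow hvk hKp]
  have hloc := locB_eq_of_cz hpM D (P.pow_mem hv K) hv hcz
  letI := Fintype.ofFinite (cz v)
  have hβ : IsBlk (cz v) (locB p P e v) := ((locB_spec hpM D hv).isPair_left D.pmax.pair).blk
  obtain ⟨hbs, hbe⟩ := blkSet_spec hpM hβ
  set b := blkSet (M := M) v (locB p P e v)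
  have hsec : ∀ (η η' : IrrCharacter G), (∀ g, (η' : G → ℂ) g = (η : G → ℂ) (g ^ K)) →
      ∀ g, g ∈ cz v → ¬ p ∣ orderOf g →
        sec (η : G → ℂ) (v ^ K) (locB p P e v) g = sec (η' : G → ℂ) v (locB p P e v) g := by
    intro η η' hη g hg hgr
    rw [← hbe, show g = ((⟨g, hg⟩ : cz v) : G) from rfl,
      sec_eq_secPart' hpM η hcz.symm hbs, sec_eq_secPart' hpM η' rfl hbs,
      secPart_eq_kerB (u := v ^ K) (hcz.symm.trans (cz_eq _)), secPart_eq_kerB (cz_eq v)]
    congr 1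
    refine Finset.sum_congr rfl fun c _ => ?_
    by_cases hc : p ∣ orderOf c
    · rw [kerB_eq_zero_of_dvd hpM hbs (by rwa [← Subgroup.orderOf_coe]) hc, mul_zero, mul_zero]
    · congr 1
      rw [hη, (mem_cz.mp c.2).mul_pow, hK (c : G) (by rwa [Subgroup.orderOf_coe])]
  rw [conP, conP, hloc, m2_eq_filter, m2_eq_filter, hcz]
  congr 1
  refine Finset.sum_congr (by congr) fun g hg => ?_
  obtain ⟨-, h1, h2⟩ := Finset.mem_filter.mp hg
  rw [hsec χ χ' hχ g h1 h2, hsec ψ ψ' hψ g h1 h2]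

/-- A character of a block times a linear character of the defect group, stable under the
inertial group. -/
theorem exists_translate (hpM : (p : AlgInt) ∈ M) (D : MaxData p B P e)
    (hab : ∀ x ∈ P, ∀ y ∈ P, x * y = y * x) (φ : P →* ℂˣ) {f : G → ℂ}
    (hf : ∀ v : P, f v = (φ v : ℂ))
    (hst : ∀ t ∈ stab P e, ∀ v ∈ P, f (t * v * t⁻¹) = f v) :
    IsStable p P e f ∧ ∀ χ ∈ B, ∃ ψ ∈ B, (ψ : G → ℂ) = starP p P e (χ : G → ℂ) f := by
  haveI := charP_res (p := p) hpM
  have hP : IsPGroup p P := D.pmax.pair.pgroup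
  have hstable : IsStable p P e f := by
    intro v hv g hg
    obtain ⟨β, hβ, hβ'⟩ := hg
    obtain ⟨c, hc, hcg⟩ := exists_stab_of_abelian D.pmax hab hβ hβ'
    rw [conjS_zpowers] at hc
    have h := hst _ hcg v hv
    have hcomm : c * (g * v * g⁻¹) = g * v * g⁻¹ * c :=
      (Subgroup.mem_centralizer_iff.mp hc _ (Subgroup.mem_zpowers _)).symm
    rwa [show c * g * v * (c * g)⁻¹ = c * (g * v * g⁻¹) * c⁻¹ by group, hcomm,
      mul_inv_cancel_right] at h
  have hgen : IsGeneralizedCharacter P (fun v : P => f v) := by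
    simp only [hf]
    exact Chars.isGen_of_isCharacter (Chars.isCharacter_hom φ)
  have hnorm : ∀ v ∈ P, f v * conj (f v) = 1 := fun v hv => by
    rw [hf ⟨v, hv⟩]
    obtain ⟨n, hn⟩ := orderOf_of_mem hP hv
    have hpow : ((φ ⟨v, hv⟩ : ℂˣ) : ℂ) ^ p ^ n = 1 := by
      rw [← Units.val_pow_eq_pow_val, ← map_pow, show (⟨v, hv⟩ : P) ^ p ^ n = 1 from
        Subtype.ext (by simp [← hn, pow_orderOf_eq_one]), map_one, Units.val_one]
    rw [← Complex.inv_eq_conj (Complex.norm_eq_one_of_pow_eq_one hpow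
      (pow_ne_zero _ (Fact.out : p.Prime).ne_zero)), mul_inv_cancel₀ (Units.ne_zero _)]
  refine ⟨hstable, fun χ hχ => ?_⟩
  have hone : classInner (starP p P e (χ : G → ℂ) f) (starP p P e (χ : G → ℂ) f) = 1 := by
    rw [classInner_starP_mul hpM χ f, starP_congr (g := fun _ => 1) hnorm,
      starP_one hpM D hχ, Chars.classInner_irrCharacter, if_pos rfl]
  have hf1 : f 1 = ((1 : ℕ) : ℂ) := by
    rw [show (1 : G) = ((1 : P) : G) from rfl, hf, map_one]; simp
  obtain ⟨ψ, hψ, hψeq, -, -⟩ :=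
    isIrrCharacter_starP hpM D (isGen_starP hpM D χ hstable hgen) hone hf1 hχ
  exact ⟨ψ, hψ, hψeq⟩

/-- The parts of a translate below `(P, e)`. -/
theorem sec_translate (hpM : (p : AlgInt) ∈ M) (D : MaxData p B P e) {f : G → ℂ}
    (hst : IsStable p P e f) {χ ψ : IrrCharacter G}
    (hψ : (ψ : G → ℂ) = starP p P e (χ : G → ℂ) f) {v : G} (hv : v ∈ P) {s : G} (hs : s ∈ cz v)
    (hsr : ¬ p ∣ orderOf s) :
    sec (ψ : G → ℂ) v (locB p P e v) s = f v * sec (χ : G → ℂ) v (locB p P e v) s := by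
  have hle := locB_spec hpM D hv
  rw [sec_of_star hpM χ ψ hψ (orderOf_of_mem D.pmax.pair.pgroup hv)
    (hle.isPair_left D.pmax.pair).blk hs hsr]
  congr 1
  refine (phiOf_eq hst (x := 1) ?_).trans (by simp)
  unfold Below
  rw [one_mul, inv_one, mul_one, cj_one]
  exact hle

/-- The value of a translate at a central element of `P`. -/
theorem starP_apply_central (hpM : (p : AlgInt) ∈ M) (D : MaxData p B P e) {f : G → ℂ}
    {χ : IrrCharacter G} (hχ : χ ∈ B) {u : G} (hu : u ∈ P) (huc : ∀ g, u * g = g * u) :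
    starP p P e (χ : G → ℂ) f u = f u * (χ : G → ℂ) u := by
  haveI := charP_res (p := p) hpM
  have hup : ∃ k : ℕ, orderOf u = p ^ k := orderOf_of_mem D.pmax.pair.pgroup hu
  have h1r : ¬ p ∣ orderOf (1 : G) := by
    rw [orderOf_one]; exact (Fact.out : p.Prime).not_dvd_one
  have h1 := star_apply (p := p) (χ : G → ℂ) (phiOf p P e f) hup (one_mem (cz u)) h1r
  have h2 := sum_sec hpM (χ : G → ℂ) u 1
  rw [mul_one] at h1 h2
  rw [starP, h1, ← h2, Finset.mul_sum]
  refine Finset.sum_congr rfl fun β hβ => ?_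
  by_cases h : ∃ x : G, Below p P e x u β
  · rw [phiOf, dif_pos h, ← huc h.choose, mul_inv_cancel_right]
  · rw [sec_eq_zero hpM D.blk hχ hup (mem_blks.mp hβ)
      (fun ho => h ((below_iff_ofBlock hpM D hup (mem_blks.mp hβ)).mpr ho)) (one_mem _) h1r]
    simp

/-- The contribution at a central element is the regular inner product. -/
theorem conP_central (hpM : (p : AlgInt) ∈ M) (D : MaxData p B P e) {χ ψ : IrrCharacter G}
    (hχ : χ ∈ B) (hψ : ψ ∈ B) {u : G} (hu : u ∈ P) (huc : ∀ g, u * g = g * u)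
    (hχu : ∀ g, (χ : G → ℂ) (u * g) = (χ : G → ℂ) g)
    (hψu : ∀ g, (ψ : G → ℂ) (u * g) = (ψ : G → ℂ) g) :
    conP p P e (χ : G → ℂ) (ψ : G → ℂ) u = regInner p (χ : G → ℂ) (ψ : G → ℂ) := by
  classical
  haveI := charP_res (p := p) hpM
  have hup : ∃ k : ℕ, orderOf u = p ^ k := orderOf_of_mem D.pmax.pair.pgroup hu
  have hcz : cz u = ⊤ := top_le_iff.mp fun g _ => mem_cz.mpr (huc g)
  have hsec : ∀ η : IrrCharacter G, η ∈ B → (∀ g, (η : G → ℂ) (u * g) = (η : G → ℂ) g) →
      ∀ g, ¬ p ∣ orderOf g → sec (η : G → ℂ) u (locB p P e u) g = (η : G → ℂ) g := by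
    intro η hη hηu g hg
    have hgc : g ∈ cz u := hcz ▸ Subgroup.mem_top g
    have hle := locB_spec hpM D hu
    have h := sum_sec hpM (η : G → ℂ) u g
    rw [hηu, Finset.sum_eq_single (locB p P e u)] at h
    · exact h
    · intro β hβ hne
      refine sec_eq_zero hpM D.blk hη hup (mem_blks.mp hβ) (fun ho => hne ?_) hgc hg
      obtain ⟨x, hx⟩ := (below_iff_ofBlock hpM D hup (mem_blks.mp hβ)).mpr ho
      unfold Below at hx
      rw [← huc x, mul_inv_cancel_right] at hx
      rw [← eq_locB hpM D hu hx, (mem_blks.mp hβ).fixed x (hcz ▸ Subgroup.mem_top x)]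
    · exact fun h' => absurd (mem_blks.mpr (hle.isPair_left D.pmax.pair).blk) h'
  rw [conP, m2_eq_filter, regInner, hcz, Subgroup.card_top]
  congr 1
  refine Finset.sum_congr ?_ fun g hg => ?_
  · ext g; simp [mem_regs]
  · have hg' := mem_regs.mp hg
    rw [hsec χ hχ hχu g hg', hsec ψ hψ hψu g hg']

open scoped Classical in
theorem sum_filter_orbP {α : G → ℂ} {v : G} (hv : v ∈ P) (hα : ∀ w ∈ orbP P e v, α w = α v) :
    ∑ w ∈ Finset.univ.filter (· ∈ orbP P e v), (Nat.card (orbP P e w) : ℂ)⁻¹ * α w = α v := by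
  rw [Finset.sum_congr rfl fun w hw => by
    rw [orbP_eq_of_mem (Finset.mem_filter.mp hw).2, hα w (Finset.mem_filter.mp hw).2],
    ← Finset.sum_mul, sum_orbP, one_mul]

open scoped Classical in
/-- The regular form of the block is a sum of squares over the `p`-th roots of unity. -/
theorem exists_squares_rank_two (hpM : (p : AlgInt) ∈ M) (D : MaxData p B P e)
    (hab : ∀ x ∈ P, ∀ y ∈ P, x * y = y * x) (hcard : Nat.card P = p ^ 2) {u w : G} (huP : u ∈ P)
    (hwP : w ∈ P) (huc : ∀ g, u * g = g * u) (hu : orderOf u = p) (hw : orderOf w = p)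
    (hwu : w ∉ Subgroup.zpowers u)
    (hW : ∀ t ∈ stab P e, t * w * t⁻¹ ∈ Subgroup.zpowers w) :
    ∃ (ι : Type u) (_ : Fintype ι) (L : ι → IrrCharacter G → ℂ),
      (∀ i φ, L i φ ∈ Subring.closure {z : ℂ | z ^ p = 1}) ∧
      (∀ z : IrrCharacter G → ℂ, 2 * (p : ℂ) ^ 2 * ∑ φ ∈ bf B, ∑ ψ ∈ bf B,
          z φ * conj (z ψ) * regInner p (φ : G → ℂ) (ψ : G → ℂ) =
        ∑ i, (∑ φ ∈ bf B, L i φ * z φ) * conj (∑ φ ∈ bf B, L i φ * z φ)) ∧
      ∀ z : IrrCharacter G → ℂ, (∑ φ ∈ bf B, ∑ ψ ∈ bf B,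
          z φ * conj (z ψ) * regInner p (φ : G → ℂ) (ψ : G → ℂ)) ≠ 0 →
        2 * blockRank p B ≤ Nat.card {i // ∑ φ ∈ bf B, L i φ * z φ ≠ 0} := by
  haveI := charP_res (p := p) hpM
  have hp : p.Prime := Fact.out
  have hp0 : (p : ℂ) ≠ 0 := Nat.cast_ne_zero.mpr hp.ne_zero
  have hup : u ^ p = 1 := hu ▸ pow_orderOf_eq_one u
  have hwp : w ^ p = 1 := hw ▸ pow_orderOf_eq_one w
  set W := Subgroup.zpowers w with hWdef
  have hWP : W ≤ P := Subgroup.zpowers_le.mpr hwP
  have huW : u ∉ W := by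
    intro h
    obtain ⟨n, hn⟩ := (mem_zpowers_iff_mem_range_orderOf).mp h |> Finset.mem_image.mp
    rw [hw, Finset.mem_range] at hn
    have hn0 : n ≠ 0 := by
      rintro rfl
      rw [pow_zero] at hn
      exact hp.ne_one (by rw [← hu, ← hn.2, orderOf_one])
    obtain ⟨m, hm⟩ := exists_pow_eq_self_of_coprime (x := w) (n := n) (by
      rw [hw]; exact (Nat.coprime_of_lt_prime hn0 hn.1 hp).symm)
    exact hwu ⟨(m : ℤ), by show u ^ (m : ℤ) = w; rw [zpow_natCast, ← hn.2, hm]⟩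
  -- the points of `P`
  set Wset := Finset.univ.filter (fun x : G => x ∈ W) with hWset
  have hWcard : Wset.card = p := by
    rw [← hw, ← Nat.card_zpowers, Nat.card_eq_fintype_card, Fintype.card_subtype]
  have hinjP : Set.InjOn (fun ix : Fin p × G => u ^ (ix.1 : ℕ) * ix.2)
      (((Finset.univ : Finset (Fin p)) ×ˢ Wset : Finset (Fin p × G)) : Set (Fin p × G)) := by
    rintro ⟨i, x⟩ hx ⟨j, y⟩ hy h
    simp only [Finset.coe_product, Set.mem_prod, Finset.mem_coe, hWset, Finset.mem_filter] at hx hy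
    obtain ⟨-, -, hxW⟩ := hx
    obtain ⟨-, -, hyW⟩ := hy
    have hz : (u ^ (j : ℕ))⁻¹ * u ^ (i : ℕ) ∈ W := by
      have : (u ^ (j : ℕ))⁻¹ * u ^ (i : ℕ) = y * x⁻¹ := by
        rw [eq_mul_inv_iff_mul_eq, mul_assoc, inv_mul_eq_iff_eq_mul]; exact h
      rw [this]; exact W.mul_mem hyW (W.inv_mem hxW)
    have hij : i = j := by
      by_contra hne
      obtain ⟨d, hd0, hdp, hd⟩ : ∃ d : ℕ, d ≠ 0 ∧ d < p ∧
          (u ^ d ∈ W) := by
        rcases lt_or_gt_of_ne (fun h' => hne (Fin.ext h') : (i : ℕ) ≠ j) with hlt | hlt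
        · refine ⟨j - i, by omega, by omega, ?_⟩
          rw [show u ^ ((j : ℕ) - i) = ((u ^ (j : ℕ))⁻¹ * u ^ (i : ℕ))⁻¹ by
            rw [mul_inv_rev, inv_inv, eq_inv_mul_iff_mul_eq, ← pow_add, Nat.add_sub_cancel' hlt.le]]
          exact W.inv_mem hz
        · refine ⟨i - j, by omega, by omega, ?_⟩
          rwa [show u ^ ((i : ℕ) - j) = (u ^ (j : ℕ))⁻¹ * u ^ (i : ℕ) by
            rw [eq_inv_mul_iff_mul_eq, ← pow_add, Nat.add_sub_cancel' hlt.le]]
      obtain ⟨m, hm⟩ := exists_pow_eq_self_of_coprime (x := u) (n := d)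
        (by rw [hu]; exact (Nat.coprime_of_lt_prime hd0 hdp hp).symm)
      exact huW (hm ▸ W.pow_mem hd m)
    subst hij
    exact Prod.ext rfl (mul_left_cancel h)
  have himg : ((Finset.univ : Finset (Fin p)) ×ˢ Wset).image
      (fun ix => u ^ (ix.1 : ℕ) * ix.2) = Finset.univ.filter (· ∈ P) := by
    refine Finset.eq_of_subset_of_card_le ?_ ?_
    · intro v hv
      obtain ⟨⟨i, x⟩, hx, rfl⟩ := Finset.mem_image.mp hv
      exact Finset.mem_filter.mpr ⟨Finset.mem_univ _, P.mul_mem (P.pow_mem huP _)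
        (hWP (Finset.mem_filter.mp (Finset.mem_product.mp hx).2).2)⟩
    · rw [Finset.card_image_of_injOn hinjP, Finset.card_product, Finset.card_univ,
        Fintype.card_fin, hWcard, ← sq, ← hcard, Nat.card_eq_fintype_card,
        Fintype.card_subtype]
  have hPexp : ∀ v : P, v ^ p = 1 := by
    rintro ⟨v, hv⟩
    have hv' : v ∈ Finset.univ.filter (· ∈ P) := Finset.mem_filter.mpr ⟨Finset.mem_univ _, hv⟩
    rw [← himg] at hv'
    obtain ⟨⟨i, x⟩, hx, rfl⟩ := Finset.mem_image.mp hv'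
    obtain ⟨n, rfl⟩ := (Finset.mem_filter.mp (Finset.mem_product.mp hx).2).2
    refine Subtype.ext ?_
    show (u ^ (i : ℕ) * w ^ n) ^ p = 1
    rw [Commute.mul_pow (huc _ |> fun h => (show Commute u (w ^ n) from h).pow_left _), ← pow_mul,
      mul_comm, pow_mul, hup, one_pow, one_mul, ← zpow_natCast, ← zpow_mul, mul_comm, zpow_mul,
      zpow_natCast, hwp, one_zpow]
  -- the linear character
  letI : CommGroup P := { mul_comm := fun a c => Subtype.ext (hab a a.2 c c.2) }
  obtain ⟨lam, hlamW, hlamu⟩ : ∃ ψ : P →* ℂˣ, (∀ s ∈ W.subgroupOf P, ψ s = 1) ∧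
      ψ ⟨u, huP⟩ ≠ 1 := by
    by_contra h
    push Not at h
    exact huW (Chars.TwoDeg.mem_of_forall_hom (W.subgroupOf P) (x := (⟨u, huP⟩ : P)) h)
  set ω : ℂ := ((lam ⟨u, huP⟩ : ℂˣ) : ℂ) with hωdef
  have hω : IsPrimitiveRoot ω p := by
    refine IsPrimitiveRoot.iff_orderOf.mpr (orderOf_eq_prime ?_ ?_)
    · rw [hωdef, ← Units.val_pow_eq_pow_val, ← map_pow, hPexp, map_one, Units.val_one]
    · rw [hωdef, ne_eq, Units.val_eq_one]; exact hlamu
  set f : ℕ → G → ℂ := fun j g => if hg : g ∈ P then ((lam ^ j) ⟨g, hg⟩ : ℂ) else 0 with hf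
  have hfval : ∀ (j : ℕ) (v : P), f j v = ((lam ^ j) v : ℂ) := fun j v => by simp [hf]
  have hfW : ∀ j, ∀ x ∈ W, f j x = 1 := fun j x hx => by
    rw [show x = ((⟨x, hWP hx⟩ : P) : G) from rfl, hfval, MonoidHom.pow_apply,
      hlamW _ (Subgroup.mem_subgroupOf.mpr hx), one_pow, Units.val_one]
  have hfu : ∀ j, f j u = ω ^ j := fun j => by
    rw [show u = ((⟨u, huP⟩ : P) : G) from rfl, hfval, MonoidHom.pow_apply,
      Units.val_pow_eq_pow_val]
  have hfst : ∀ j, ∀ t ∈ stab P e, ∀ v ∈ P, f j (t * v * t⁻¹) = f j v := by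
    intro j t ht v hv
    have hv' : v ∈ Finset.univ.filter (· ∈ P) := Finset.mem_filter.mpr ⟨Finset.mem_univ _, hv⟩
    rw [← himg] at hv'
    obtain ⟨⟨i, x⟩, hx, rfl⟩ := Finset.mem_image.mp hv'
    have hxW := (Finset.mem_filter.mp (Finset.mem_product.mp hx).2).2
    have hx' : t * x * t⁻¹ ∈ W := by
      obtain ⟨n, rfl⟩ := hxW
      simp only [← conj_zpow]
      exact W.zpow_mem (hW t ht) n
    have hut : t * u ^ (i : ℕ) = u ^ (i : ℕ) * t :=
      ((show Commute u t from huc t).pow_left _).eq.symm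
    rw [show t * (u ^ (i : ℕ) * x) * t⁻¹ = u ^ (i : ℕ) * (t * x * t⁻¹) by
      rw [← mul_assoc, hut]; group,
      show u ^ (i : ℕ) * (t * x * t⁻¹) =
        (((⟨u, huP⟩ : P) ^ (i : ℕ) * ⟨_, hWP hx'⟩ : P) : G) from rfl,
      show u ^ (i : ℕ) * x = (((⟨u, huP⟩ : P) ^ (i : ℕ) * ⟨_, hWP hxW⟩ : P) : G) from rfl,
      hfval, hfval]
    simp only [MonoidHom.pow_apply, map_mul, hlamW ⟨_, hWP hx'⟩ (Subgroup.mem_subgroupOf.mpr hx'),
      hlamW ⟨x, hWP hxW⟩ (Subgroup.mem_subgroupOf.mpr hxW)]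
  have hstable : ∀ j, IsStable p P e (f j) := fun j =>
    (exists_translate hpM D hab (lam ^ j) (hfval j) (hfst j)).1
  choose T hTB hT using fun (j : ℕ) (χ : IrrCharacter G) (hχ : χ ∈ B) =>
    (exists_translate hpM D hab (lam ^ j) (hfval j) (hfst j)).2 χ hχ
  have hTcomp : ∀ i j χ (hχ : χ ∈ B), T i (T j χ hχ) (hTB j χ hχ) = T (j + i) χ hχ := by
    intro i j χ hχ
    apply Subtype.ext
    rw [hT, starP_starP hpM (hT j χ hχ), hT]
    refine starP_congr (fun v hv => ?_) _
    rw [Pi.mul_apply, show v = ((⟨v, hv⟩ : P) : G) from rfl, hfval, hfval, hfval]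
    simp [MonoidHom.pow_apply, pow_add]
  have hTzero : ∀ j χ (hχ : χ ∈ B), p ∣ j → T j χ hχ = χ := by
    intro j χ hχ hj
    apply Subtype.ext
    rw [hT]
    conv_rhs => rw [← starP_one hpM D hχ]
    refine starP_congr (fun v hv => ?_) _
    obtain ⟨c, rfl⟩ := hj
    rw [show v = ((⟨v, hv⟩ : P) : G) from rfl, hfval, MonoidHom.pow_apply, pow_mul, ← map_pow,
      hPexp, map_one, one_pow, Units.val_one]
  -- the central character at `u`
  choose c hcpow hc using fun φ : IrrCharacter G =>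
    exists_central_scalar hpM (z := u) (k := 1) (by rw [pow_one, hup]) huc φ
  have hφu : ∀ φ : IrrCharacter G, (φ : G → ℂ) u = c φ * (φ : G → ℂ) 1 := fun φ => by
    rw [← hc φ 1, mul_one]
  have hcT : ∀ j χ (hχ : χ ∈ B), c (T j χ hχ) = ω ^ j * c χ := by
    intro j χ hχ
    have h1 := hφu (T j χ hχ)
    rw [hT, starP_apply_central hpM D hχ huP huc, starP_regular hpM D hχ _ (by
      rw [orderOf_one]; exact hp.not_dvd_one), hfu, hφu,
      hfW j 1 (one_mem W), one_mul, ← mul_assoc] at h1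
    exact (mul_right_cancel₀ (Chars.irr_apply_one_ne_zero χ.2) h1).symm
  -- the characters trivial at `u`
  let X := {φ : IrrCharacter G // φ ∈ B ∧ c φ = 1}
  let Tb : Fin p × X → IrrCharacter G := fun x => T x.1 x.2.1 x.2.2.1
  have hTb : ∀ x, Tb x ∈ bf B := fun x => mem_bf.mpr (hTB _ _ _)
  have hsumB : ∀ F : IrrCharacter G → ℂ,
      ∑ φ ∈ bf B, F φ = ∑ j : Fin p, ∑ χ : X, F (Tb (j, χ)) := by
    intro F
    rw [← Fintype.sum_prod_type']
    refine (Finset.sum_nbij Tb (fun x _ => hTb x) ?_ ?_ fun _ _ => rfl).symm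
    · rintro ⟨i, χ⟩ - ⟨j, ψ⟩ - h
      have h1 := congrArg c h
      simp only [Tb, hcT, χ.2.2, ψ.2.2, mul_one] at h1
      have hij : i = j := Fin.ext (hω.pow_inj i.2 j.2 h1)
      subst hij
      refine Prod.ext rfl (Subtype.ext ?_)
      have h2 : T (p - i) (Tb (i, χ)) (hTB _ _ _) = T (p - i) (Tb (i, ψ)) (hTB _ _ _) := by
        simp only [h]
      simp only [Tb, hTcomp] at h2
      rwa [hTzero _ _ _ (by rw [Nat.add_sub_cancel' i.2.le]),
        hTzero _ _ _ (by rw [Nat.add_sub_cancel' i.2.le])] at h2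
    · intro φ hφ
      have hφB := mem_bf.mp hφ
      have hcp : c φ ^ p = 1 := by simpa using hcpow φ
      obtain ⟨j, hj, hjφ⟩ := hω.eq_pow_of_pow_eq_one hcp
      refine ⟨(⟨j, hj⟩, ⟨T (p - j) φ hφB, hTB _ _ _, ?_⟩), Finset.mem_univ _, ?_⟩
      · rw [hcT, ← hjφ, ← pow_add, Nat.sub_add_cancel hj.le, hω.pow_eq_one]
      · show T j (T (p - j) φ hφB) _ = φ
        rw [hTcomp, hTzero _ _ _ (by rw [Nat.sub_add_cancel hj.le])]
  have hreg : ∀ j χ (hχ : χ ∈ B), ∀ s ∈ regs p G,
      (T j χ hχ : G → ℂ) s = (χ : G → ℂ) s := fun j χ hχ s hs => by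
    rw [hT, starP_regular hpM D hχ _ (mem_regs.mp hs), hfW j 1 (one_mem W), one_mul]
  have hregT : ∀ (i j : Fin p) (χ ψ : X), regInner p (Tb (i, χ) : G → ℂ) (Tb (j, ψ) : G → ℂ) =
      regInner p (χ.1 : G → ℂ) (ψ.1 : G → ℂ) := by
    intro i j χ ψ
    simp only [regInner, Tb]
    exact congrArg _ (Finset.sum_congr rfl fun s hs => by rw [hreg _ _ _ s hs, hreg _ _ _ s hs])
  have hconT : ∀ (i : Fin p) (χ : X) (ψ : IrrCharacter G), ∀ v ∈ W,
      conP p P e (Tb (i, χ) : G → ℂ) (ψ : G → ℂ) v = conP p P e (χ.1 : G → ℂ) (ψ : G → ℂ) v := by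
    intro i χ ψ v hv
    rw [conP, conP, m2_eq_filter, m2_eq_filter]
    refine congrArg _ (Finset.sum_congr rfl fun g hg => ?_)
    obtain ⟨-, h1, h2⟩ := Finset.mem_filter.mp hg
    rw [sec_translate hpM D (hstable i) (hT _ _ χ.2.1) (hWP hv) h1 h2, hfW _ v hv, one_mul]
  -- the Galois symmetry
  obtain ⟨K, hKG, hKp, hKreg, hK2, hKgen⟩ := exists_gen_exp p G
  obtain ⟨σ, hσ⟩ := OddChar.exists_aut_pow Nat.card_pos.ne' hKG
  have hKr : ∀ r : ℕ, ∀ g : G, ¬ p ∣ orderOf g → g ^ K ^ r = g := by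
    intro r g hg
    induction r with
    | zero => simp
    | succ r ih => rw [pow_succ, pow_mul, ih, hKreg g hg]
  have hup' : ∀ φ : IrrCharacter G, c φ = 1 → ∀ (n : ℕ) (g : G),
      (φ : G → ℂ) (u ^ n * g) = (φ : G → ℂ) g := by
    intro φ hφ n
    induction n with
    | zero => intro g; simp
    | succ n ih => intro g; rw [pow_succ', mul_assoc, hc, hφ, one_mul, ih]
  have hgal : ∀ φ : IrrCharacter G, φ ∈ B ∧ c φ = 1 →
      Chars2.Cyc.gal σ φ ∈ B ∧ c (Chars2.Cyc.gal σ φ) = 1 := by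
    intro φ hφ
    have hval : ∀ g, (Chars2.Cyc.gal σ φ : G → ℂ) g = (φ : G → ℂ) (g ^ K) := fun g =>
      (Chars2.Cyc.gal_apply σ φ g).trans (map_value_pow hσ φ g)
    refine ⟨?_, ?_⟩
    · refine mem_of_sameBlock D.blk hφ.1 ?_
      by_contra hns
      have h0 := regInner_eq_zero (p := p) hpM hns
      have h1 : regInner p (φ : G → ℂ) (φ : G → ℂ) = 0 := by
        rw [← h0, regInner, regInner]
        exact congrArg _ (Finset.sum_congr rfl fun s hs => by
          rw [hval, hKreg s (mem_regs.mp hs)])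
      rw [regInner, mul_eq_zero] at h1
      have h2 := h1.resolve_left (inv_ne_zero Chars.card_ne_zero)
      have h3 : (∑ s ∈ regs p G, Complex.normSq ((φ : G → ℂ) s) : ℝ) = 0 := by
        apply Complex.ofReal_injective
        rw [Complex.ofReal_sum, Complex.ofReal_zero, ← h2]
        exact Finset.sum_congr rfl fun s _ => (Complex.mul_conj _).symm
      exact Chars.irr_apply_one_ne_zero φ.2 (Complex.normSq_eq_zero.1
        ((Finset.sum_eq_zero_iff_of_nonneg fun s _ => Complex.normSq_nonneg _).1 h3 1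
          (mem_regs.mpr (by rw [orderOf_one]; exact hp.not_dvd_one))))
    · have h := hφu (Chars2.Cyc.gal σ φ)
      rw [hval, hval, one_pow, ← mul_one (u ^ K), hup' φ hφ.2] at h
      exact (mul_left_eq_self₀.mp h.symm).resolve_right (Chars.irr_apply_one_ne_zero φ.2)
  let F : X → X := fun χ => ⟨Chars2.Cyc.gal σ χ.1, hgal χ.1 χ.2⟩
  have hFval : ∀ (r : ℕ) (χ : X) (g : G),
      ((F^[r] χ).1 : G → ℂ) g = (χ.1 : G → ℂ) (g ^ K ^ r) := by
    intro r
    induction r with
    | zero => intro χ g; simp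
    | succ r ih =>
      intro χ g
      rw [Function.iterate_succ_apply, ih]
      show (Chars2.Cyc.gal σ χ.1 : G → ℂ) _ = _
      rw [Chars2.Cyc.gal_apply, map_value_pow hσ, ← pow_mul, pow_succ]
  -- the orbit of `w`
  have hKr' : ∀ r : ℕ, (K ^ r).Coprime p := fun r => hKp.pow_left r
  set v : ℕ → G := fun r => w ^ K ^ r with hv
  have hvW : ∀ r, v r ∈ W := fun r => W.pow_mem (Subgroup.mem_zpowers w) _
  have hperiod : ∃ t, 0 < t ∧ v t ∈ orbP P e w := by
    refine ⟨p - 1, by have := hp.two_le; omega, 1, one_mem _, ?_⟩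
    rw [one_mul, inv_one, mul_one, hv]
    simp only
    conv_lhs => rw [← pow_one w]
    refine (pow_eq_pow_iff_modEq.mpr ?_).symm
    rw [hw]
    have := Nat.ModEq.pow_totient hKp
    rwa [Nat.totient_prime hp] at this
  set t := Nat.find hperiod with htdef
  obtain ⟨ht0, htw⟩ := Nat.find_spec hperiod
  have htp : t < p := by
    refine lt_of_le_of_lt (Nat.find_min' hperiod ⟨by have := hp.two_le; omega, ?_⟩)
      (show p - 1 < p by have := hp.pos; omega)
    refine ⟨1, one_mem _, ?_⟩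
    rw [one_mul, inv_one, mul_one, hv]
    simp only
    conv_lhs => rw [← pow_one w]
    refine (pow_eq_pow_iff_modEq.mpr ?_).symm
    rw [hw]
    have := Nat.ModEq.pow_totient hKp
    rwa [Nat.totient_prime hp] at this
  have hstep : ∀ n, orbP P e (v (n + t)) = orbP P e (v n) := by
    intro n
    refine orbP_eq_of_mem ?_
    obtain ⟨s, hs, hst⟩ := htw
    refine ⟨s, hs, ?_⟩
    show s * w ^ K ^ n * s⁻¹ = w ^ K ^ (n + t)
    rw [← conj_pow, hst, ← pow_mul, ← pow_add, add_comm n]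
  have hred : ∀ n, ∃ r < t, orbP P e (v n) = orbP P e (v r) := by
    intro n
    induction n using Nat.strong_induction_on with
    | _ n ih =>
      rcases lt_or_ge n t with h | h
      · exact ⟨n, h, rfl⟩
      · obtain ⟨r, hr, hr'⟩ := ih (n - t) (by omega)
        refine ⟨r, hr, ?_⟩
        rw [← hr', ← hstep (n - t), Nat.sub_add_cancel h]
  have hdisj : ∀ r, r < t → ∀ r', r' < t → v r' ∈ orbP P e (v r) → r = r' := by
    have key : ∀ r r', r < r' → r' < t → v r' ∉ orbP P e (v r) := by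
      rintro r r' hrr hr' ⟨s, hs, hst⟩
      refine Nat.find_min hperiod (show r' - r < t by omega) ⟨by omega, s, hs, ?_⟩
      have h1 : (s * w * s⁻¹) ^ K ^ r = (v (r' - r)) ^ K ^ r := by
        rw [conj_pow, show v (r' - r) = w ^ K ^ (r' - r) from rfl, ← pow_mul, ← pow_add,
          Nat.sub_add_cancel hrr.le]
        exact hst
      obtain ⟨m, hm⟩ := exists_pow_eq_self_of_coprime (x := w) (n := K ^ r)
        (hw.symm ▸ hKr' r)
      calc s * w * s⁻¹ = ((s * w * s⁻¹) ^ K ^ r) ^ m := by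
            rw [conj_pow, conj_pow, hm]
        _ = ((v (r' - r)) ^ K ^ r) ^ m := by rw [h1]
        _ = v (r' - r) := by
            show ((w ^ K ^ (r' - r)) ^ K ^ r) ^ m = w ^ K ^ (r' - r)
            rw [← pow_mul, ← pow_mul, mul_comm (K ^ (r' - r)), pow_mul, pow_mul w, hm]
    intro r hr r' hr' h
    rcases lt_trichotomy r r' with h' | h' | h'
    · exact absurd h (key r r' h' hr')
    · exact h'
    · exact absurd (orbP_eq_of_mem h ▸ ⟨1, one_mem _, by simp⟩) (key r' r h' hr)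
  set Wf := Finset.univ.filter (fun x : G => x ∈ W ∧ x ≠ 1) with hWf
  have hWfeq : Wf = (Finset.range t).biUnion
      (fun r => Finset.univ.filter (· ∈ orbP P e (v r))) := by
    ext x
    simp only [hWf, Finset.mem_filter, Finset.mem_univ, true_and, Finset.mem_biUnion,
      Finset.mem_range]
    constructor
    · rintro ⟨hxW, hx1⟩
      obtain ⟨n, hn, rfl⟩ := Finset.mem_image.mp (mem_zpowers_iff_mem_range_orderOf.mp hxW)
      rw [hw, Finset.mem_range] at hn
      have hn0 : ¬ p ∣ n := fun hd => hx1 (by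
        rw [Nat.eq_zero_of_dvd_of_lt hd hn, pow_zero])
      obtain ⟨l, hl⟩ := hKgen n hn0
      obtain ⟨r, hr, hrl⟩ := hred l
      refine ⟨r, hr, ?_⟩
      rw [← hrl, show w ^ n = v l from pow_eq_pow_iff_modEq.mpr (hw.symm ▸ hl)]
      exact ⟨1, one_mem _, by simp⟩
    · rintro ⟨r, -, s, hs, rfl⟩
      refine ⟨?_, fun h => ?_⟩
      · show s * w ^ K ^ r * s⁻¹ ∈ W
        rw [← conj_pow]; exact W.pow_mem (hW s hs) _
      · rw [conj_eq_one_iff] at h
        obtain ⟨m, hm⟩ := exists_pow_eq_self_of_coprime (x := w) (n := K ^ r)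
          (hw.symm ▸ hKr' r)
        rw [show w ^ K ^ r = 1 from h, one_pow] at hm
        exact hp.ne_one (by rw [← hw, ← hm, orderOf_one])
  -- the rank one form at `w`
  letI : ∀ x : G, Fintype (cz x) := fun x => Fintype.ofFinite _
  have hl1 : blockRank p (blkSet (M := M) w (locB p P e w)) = 1 := by
    have hle := locB_spec hpM D hwP
    obtain ⟨hbs, hbe⟩ := blkSet_spec hpM (hle.isPair_left D.pmax.pair).blk
    refine (blockRank_of_nilpotent hpM ?_).1
    rw [isNilpotentBlock_sub_iff hpM hbs, hbe]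
    refine (isNilBIn_iff_abelian D.pmax (isBlk_idemG hpM D.blk) D.ofB hab hle).mpr ?_
    rintro s ⟨hs, hsw⟩
    refine Subgroup.mem_centralizer_iff.mpr fun y hy => ?_
    have hy' : y ∈ Finset.univ.filter (· ∈ P) := Finset.mem_filter.mpr ⟨Finset.mem_univ _, hy⟩
    rw [← himg] at hy'
    obtain ⟨⟨i, x⟩, hx, rfl⟩ := Finset.mem_image.mp hy'
    obtain ⟨n, rfl⟩ := (Finset.mem_filter.mp (Finset.mem_product.mp hx).2).2
    exact (((show Commute u s from huc s).pow_left _).mul_left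
      ((mem_cz.mp hsw).zpow_left n)).eq
  obtain ⟨nw, ζ, hζ, hA⟩ := exists_conP_eq hpM D hab hwP hl1 (k := 1) (by rw [pow_one, hwp])
  set A : IrrCharacter G → ℂ := fun χ => ∑ φ, (nw χ φ : ℂ) * ζ φ with hAdef
  have hA0 : ∀ χ : X, A χ.1 ≠ 0 := fun χ => (hA χ.1 χ.2.1).1
  have hAcon : ∀ χ ψ : X, ((p : ℂ) ^ 2) * conP p P e (χ.1 : G → ℂ) (ψ.1 : G → ℂ) w =
      A χ.1 * conj (A ψ.1) := fun χ ψ => by
    rw [← (hA χ.1 χ.2.1).2 ψ.1 ψ.2.1, hcard, Nat.cast_pow]
  let a : X → ℂ := fun χ => A χ.1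
  have hAr : ∀ (r : ℕ) (χ ψ : X), ((p : ℂ) ^ 2) * conP p P e (χ.1 : G → ℂ) (ψ.1 : G → ℂ) (v r) =
      a (F^[r] χ) * conj (a (F^[r] ψ)) := fun r χ ψ => by
    rw [show v r = w ^ K ^ r from rfl,
      conP_pow hpM D hwP (hKr' r) (hKr r) (hFval r χ) (hFval r ψ), hAcon]
  -- the projection
  let R : X → X → ℂ := fun χ ψ => (p : ℂ) * regInner p (χ.1 : G → ℂ) (ψ.1 : G → ℂ)
  have heq : ∀ χ ψ : X, (p : ℂ) * R χ ψ = (if χ = ψ then (p : ℂ) else 0) -
      ∑ r ∈ Finset.range t, a (F^[r] χ) * conj (a (F^[r] ψ)) := by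
    intro χ ψ
    have hsum := sum_conP hpM D hab χ.1 ψ.2.1
    rw [← himg, Finset.sum_image hinjP, Finset.sum_product] at hsum
    have hinv : ∀ (i : ℕ), ∀ x ∈ W, (Nat.card (orbP P e (u ^ i * x)) : ℂ)⁻¹ *
        conP p P e (χ.1 : G → ℂ) (ψ.1 : G → ℂ) (u ^ i * x) =
        if x = 1 then regInner p (χ.1 : G → ℂ) (ψ.1 : G → ℂ) else
          (Nat.card (orbP P e x) : ℂ)⁻¹ * conP p P e (χ.1 : G → ℂ) (ψ.1 : G → ℂ) x := by
      intro i x hx
      have hui : ∀ g, u ^ i * g = g * u ^ i := fun g => ((show Commute u g from huc g).pow_left i).eq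
      have horb : Nat.card (orbP P e (u ^ i * x)) = Nat.card (orbP P e x) := by
        rw [show orbP P e (u ^ i * x) = (u ^ i * ·) '' orbP P e x by
          ext g
          constructor
          · rintro ⟨s, hs, rfl⟩
            exact ⟨s * x * s⁻¹, ⟨s, hs, rfl⟩, by
              show u ^ i * (s * x * s⁻¹) = _
              rw [← mul_assoc, ← mul_assoc, hui s]; group⟩
          · rintro ⟨_, ⟨s, hs, rfl⟩, rfl⟩
            exact ⟨s, hs, by
              show _ = u ^ i * (s * x * s⁻¹)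
              simp only [← mul_assoc]
              rw [hui s]⟩]
        exact Nat.card_image_of_injective (mul_right_injective _) _
      rw [horb]
      split_ifs with h1
      · subst h1
        rw [card_orbP_one, Nat.cast_one, inv_one, one_mul, mul_one,
          conP_central hpM D χ.2.1 ψ.2.1 (P.pow_mem huP i) hui (fun g => hup' _ χ.2.2 i g)
            fun g => hup' _ ψ.2.2 i g]
      · congr 1
        have hxP := hWP hx
        have hcz : cz (u ^ i * x) = cz x := by
          ext g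
          rw [mem_cz, mem_cz]
          have hg : Commute (u ^ i) g := hui g
          exact ⟨fun h => by simpa using (hg.inv_left).mul_left h, fun h => hg.mul_left h⟩
        rw [conP, conP, locB_eq_of_cz hpM D (P.mul_mem (P.pow_mem huP i) hxP) hxP hcz,
          m2_eq_filter, m2_eq_filter, hcz]
        refine congrArg _ (Finset.sum_congr (by congr) fun g _ => ?_)
        have hsec : ∀ η : X, sec (η.1 : G → ℂ) (u ^ i * x) (locB p P e x) g =
            sec (η.1 : G → ℂ) x (locB p P e x) g := fun η => by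
          have hhat : hat (M := M) (u ^ i * x) (locB p P e x) = hat x (locB p P e x) := by
            exact congrArg (fun T : Subgroup G => haveI := Fintype.ofFinite T
              embedG M T.subtype (blockCoeff (Classical.epsilon fun c : Set (IrrCharacter T) =>
                IsPBlock M c ∧ idemS M c = locB p P e x))) hcz
          rw [sec, sec, hhat, trv, trv]
          refine Finset.sum_congr rfl fun h _ => ?_
          rw [mul_assoc (u ^ i), mul_assoc (u ^ i), hup' _ η.2.2]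
        rw [hsec χ, hsec ψ]
    rw [Finset.sum_congr rfl fun (i : Fin p) _ => Finset.sum_congr rfl fun x hx =>
      hinv (i : ℕ) x (Finset.mem_filter.mp hx).2] at hsum
    have h1W : (1 : G) ∈ Wset := Finset.mem_filter.mpr ⟨Finset.mem_univ _, one_mem W⟩
    rw [Finset.sum_const, Finset.card_univ, Fintype.card_fin, nsmul_eq_mul,
      ← Finset.add_sum_erase _ _ h1W, if_pos rfl, Finset.sum_congr (s₂ := Wf) (by
        ext; simp [hWset, hWf, and_comm]) fun x hx => if_neg (Finset.mem_filter.mp hx).2.2,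
      hWfeq, Finset.sum_biUnion (fun r hr r' hr' hne => Finset.disjoint_left.mpr fun x h1 h2 =>
        hne (hdisj r (Finset.mem_range.mp hr) r' (Finset.mem_range.mp hr') (by
          rw [← orbP_eq_of_mem (Finset.mem_filter.mp h1).2,
            orbP_eq_of_mem (Finset.mem_filter.mp h2).2]
          exact ⟨1, one_mem _, by simp⟩))),
      Finset.sum_congr rfl fun r _ => sum_filter_orbP (α := fun x =>
        conP p P e (χ.1 : G → ℂ) (ψ.1 : G → ℂ) x) (hWP (hvW r))
        fun x hx => conP_orb hpM D χ.1 ψ.1 (hWP (hvW r)) hx] at hsum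
    rw [show (if χ = ψ then (p : ℂ) else 0) = (p : ℂ) * if χ.1 = ψ.1 then 1 else 0 by
      rw [mul_ite, mul_one, mul_zero]; exact if_congr Subtype.ext_iff rfl rfl, ← hsum,
      Finset.sum_congr rfl fun r _ => (hAr r χ ψ).symm, ← Finset.mul_sum]
    simp only [R]
    ring
  have hinvR : ∀ χ ψ : X, R (F χ) ψ = R χ ψ := fun χ ψ => by
    simp only [R, regInner]
    refine congrArg _ (congrArg _ (Finset.sum_congr rfl fun s hs => ?_))
    rw [show ((F χ).1 : G → ℂ) s = (χ.1 : G → ℂ) (s ^ K ^ 1) from hFval 1 χ s,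
      hKr 1 s (mem_regs.mp hs)]
  have hper : ∀ χ ψ : X, a (F^[t] χ) * conj (a (F^[t] ψ)) = a χ * conj (a ψ) := fun χ ψ => by
    rw [← hAr, conP_orb hpM D χ.1 ψ.1 hwP htw]
    exact hAcon χ ψ
  obtain ⟨χ₀, hχ₀⟩ := block_nonempty D.blk
  have hXne : Nonempty X := by
    have h : χ₀ ∈ bf B := mem_bf.mpr hχ₀
    by_contra hX
    haveI : IsEmpty X := not_nonempty_iff.mp hX
    have := hsumB fun φ => if φ = χ₀ then 1 else 0
    simp [h] at this
  have horth : ∀ r, r < t → ∀ r', r' < t →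
      ∑ χ : X, a (F^[r] χ) * conj (a (F^[r'] χ)) = if r = r' then (p : ℂ) else 0 := by
    intro r hr r' hr'
    obtain ⟨ψ⟩ := hXne
    have hblk : ∀ i, IsBlk (cz (v i)) (locB p P e (v i)) := fun i =>
      ((locB_spec hpM D (hWP (hvW i))).isPair_left D.pmax.pair).blk
    have hvp : ∀ i, ∃ k, orderOf (v i) = p ^ k := fun i =>
      orderOf_of_mem D.pmax.pair.pgroup (hWP (hvW i))
    let θ : ℕ → G → ℂ := fun i =>
      star p (ψ.1 : G → ℂ) (orbitInd (v i) (locB p P e (v i)))
    have hθ : ∀ i (φ : IrrCharacter G), classInner (θ i) (φ : G → ℂ) =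
        conj (conP p P e (φ : G → ℂ) (ψ.1 : G → ℂ) (v i)) := fun i φ => by
      rw [conP, ← classInner_orbit hpM φ ψ.1 (hvp i) (hblk i), Chars.classInner_conj_symm]
    have hpars : classInner (θ r') (θ r) = ∑ φ : IrrCharacter G,
        conj (classInner (θ r) (φ : G → ℂ)) * classInner (θ r') (φ : G → ℂ) := by
      conv_lhs => arg 2; rw [show θ r = _ from Chars.eq_sum_classInner
        (isClassFunction_star hpM ψ.1 (phiConj_orbitInd (v r) (locB p P e (v r))))]
      rw [Chars.classInner_sum_right]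
      exact Finset.sum_congr rfl fun φ _ => Chars.classInner_smul_right _ _ _
    have hlhs : classInner (θ r') (θ r) = if r = r' then
        conP p P e (ψ.1 : G → ℂ) (ψ.1 : G → ℂ) (v r) else 0 := by
      split_ifs with h
      · subst h
        rw [conP, ← classInner_orbit hpM ψ.1 ψ.1 (hvp r) (hblk r)]
        conv_rhs => arg 1; rw [← star_const_one (p := p) hpM ψ.1]
        rw [classInner_star hpM, classInner_star hpM]
        refine congrArg _ (Finset.sum_congr rfl fun x _ => Finset.sum_congr rfl fun β _ => ?_)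
        congr 1
        unfold orbitInd
        split_ifs <;> simp
      · rw [classInner_star hpM, Finset.sum_eq_zero fun x _ => Finset.sum_eq_zero fun β _ => ?_,
          mul_zero]
        unfold orbitInd
        split_ifs with h1 h2 <;> try simp
        exfalso
        obtain ⟨x1, hx1, hb1⟩ := h1
        obtain ⟨x2, hx2, hb2⟩ := h2
        have hgv : x2⁻¹ * x1 * v r' * (x2⁻¹ * x1)⁻¹ = v r := by
          calc x2⁻¹ * x1 * v r' * (x2⁻¹ * x1)⁻¹ = x2⁻¹ * (x1 * v r' * x1⁻¹) * x2 := by group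
            _ = x2⁻¹ * (x2 * v r * x2⁻¹) * x2 := by rw [hx1, hx2]
            _ = v r := by group
        have hg' : PairLE p (conjS (x2⁻¹ * x1) (Subgroup.zpowers (v r')),
            cj (x2⁻¹ * x1) (locB p P e (v r'))) (P, e) := by
          rw [conjS_zpowers, hgv, cj_mul, hb1, ← hb2, cj_inv_cj]
          exact locB_spec hpM D (hWP (hvW r))
        obtain ⟨d, hd, hds⟩ :=
          exists_stab_of_abelian D.pmax hab (locB_spec hpM D (hWP (hvW r'))) hg'
        rw [conjS_zpowers, hgv] at hd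
        have hdv : v r * d = d * v r :=
          Subgroup.mem_centralizer_iff.mp hd _ (Subgroup.mem_zpowers _)
        refine h (hdisj r' hr' r hr ⟨_, hds, ?_⟩).symm
        calc d * (x2⁻¹ * x1) * v r' * (d * (x2⁻¹ * x1))⁻¹
            = d * (x2⁻¹ * x1 * v r' * (x2⁻¹ * x1)⁻¹) * d⁻¹ := by group
          _ = v r := by rw [hgv, ← hdv, mul_inv_cancel_right]
    have houtB : ∀ i (φ : IrrCharacter G), φ ∉ B →
        conP p P e (φ : G → ℂ) (ψ.1 : G → ℂ) (v i) = 0 := by
      intro i φ hφ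
      have hle := locB_spec hpM D (hWP (hvW i))
      have hind := isInduced_blkSet hpM D.blk (hvp i) (hblk i)
        ((hle.ofBlock_iff (isBlk_idemG hpM D.blk)).mpr D.ofB)
      rw [conP, m2_eq_filter, Finset.sum_eq_zero, mul_zero]
      intro g hg
      obtain ⟨-, h1, h2⟩ := Finset.mem_filter.mp hg
      rw [show g = ((⟨g, h1⟩ : cz (v i)) : G) from rfl, sec_eq_secPart hpM φ (hblk i),
        secPart_eq_zero (cz_eq (v i)) (hvp i) hpM hind hφ (by rwa [← Subgroup.orderOf_coe]),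
        zero_mul]
    rw [hlhs, Finset.sum_congr rfl fun φ _ => by rw [hθ, hθ, Complex.conj_conj],
      ← Finset.sum_subset (Finset.subset_univ (bf B)) fun φ _ hφ => by
        rw [houtB r φ (fun h => hφ (mem_bf.mpr h)), zero_mul],
      hsumB] at hpars
    simp only [hconT _ _ _ (v r) (hvW r), hconT _ _ _ (v r') (hvW r'), Finset.sum_const,
      Finset.card_univ, Fintype.card_fin, nsmul_eq_mul] at hpars
    have h4 : ∀ χ : X, ((p : ℂ) ^ 4) * (conP p P e (χ.1 : G → ℂ) (ψ.1 : G → ℂ) (v r) *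
        conj (conP p P e (χ.1 : G → ℂ) (ψ.1 : G → ℂ) (v r'))) =
        a (F^[r] χ) * conj (a (F^[r'] χ)) * (conj (a (F^[r] ψ)) * a (F^[r'] ψ)) := fun χ => by
      have e1 := hAr r χ ψ
      have e2 := congrArg conj (hAr r' χ ψ)
      rw [map_mul, map_mul, map_pow, map_natCast, Complex.conj_conj] at e2
      linear_combination (p : ℂ) ^ 2 * conj (conP p P e (χ.1 : G → ℂ) (ψ.1 : G → ℂ) (v r')) * e1 +
        a (F^[r] χ) * conj (a (F^[r] ψ)) * e2
    have h5 := congrArg ((p : ℂ) ^ 4 * ·) hpars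
    simp only [mul_left_comm ((p : ℂ) ^ 4) (p : ℂ), Finset.mul_sum ((Finset.univ : Finset X)) _
      ((p : ℂ) ^ 4), h4, ← Finset.sum_mul] at h5
    have hne : conj (a (F^[r] ψ)) * a (F^[r'] ψ) ≠ 0 :=
      mul_ne_zero ((map_ne_zero conj).mpr (hA0 _)) (hA0 _)
    refine mul_right_cancel₀ hne (mul_left_cancel₀ hp0 ?_)
    rw [← h5]
    split_ifs with h
    · subst h
      linear_combination (p : ℂ) ^ 2 * hAr r ψ ψ
    · ring
  have hζint : ∀ φ, IsIntegral ℤ (ζ φ) := fun φ => IsIntegral.of_pow (pow_pos hp.pos 1)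
    (by rw [hζ φ]; exact isIntegral_one)
  have S : CycModel p t F a R :=
    { ht := ht0, htp := htp, hp := hp, eq := heq, inv := hinvR, per := hper, orth := horth
      int := fun χ => IsIntegral.sum _ fun φ _ => (isIntegral_natCast _).mul (hζint φ)
      ne := hA0
      two := fun h χ => Subtype.ext (Subtype.ext (funext fun g => by
        have := hFval 1 χ g
        rw [pow_one, hK2 h, pow_one] at this
        exact this)) }
  obtain ⟨l, ι, hι, L, hl, hLC, hform, hnum⟩ := S.exists_squares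
  have hlrank : l = blockRank p B := by
    apply Nat.cast_injective (R := ℂ)
    rw [hl]
    apply mul_left_cancel₀ (Chars.card_ne_zero (G := G))
    rw [card_mul_blockRank hpM D.blk]
    have : ∑ φ ∈ bf B, regInner p (φ : G → ℂ) (φ : G → ℂ) = ∑ χ : X, R χ χ := by
      rw [hsumB]
      simp only [hregT, Finset.sum_const, Finset.card_univ, Fintype.card_fin, nsmul_eq_mul,
        Finset.mul_sum, R]
    rw [← this]
    simp only [regInner, Finset.mul_sum, kerB]
    rw [Finset.sum_comm]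
    exact Finset.sum_congr rfl fun s _ => Finset.sum_congr rfl fun φ _ => by
      rw [← mul_assoc, mul_inv_cancel₀ Chars.card_ne_zero, one_mul]
  let L' : ι → IrrCharacter G → ℂ := fun i φ => ∑ x : Fin p × X, if Tb x = φ then L i x.2 else 0
  let z' : (IrrCharacter G → ℂ) → X → ℂ := fun z χ => ∑ j : Fin p, z (Tb (j, χ))
  have hLz : ∀ z i, ∑ φ ∈ bf B, L' i φ * z φ = ∑ χ, L i χ * z' z χ := by
    intro z i
    simp only [L', z', Finset.sum_mul, ite_mul, zero_mul, Finset.mul_sum]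
    rw [Finset.sum_comm]
    simp only [Finset.sum_ite_eq, hTb, if_true]
    rw [Fintype.sum_prod_type, Finset.sum_comm]
  have hfold : ∀ z : IrrCharacter G → ℂ, ∑ φ ∈ bf B, ∑ ψ ∈ bf B,
      z φ * conj (z ψ) * regInner p (φ : G → ℂ) (ψ : G → ℂ) =
      ∑ χ, ∑ ψ, z' z χ * conj (z' z ψ) * regInner p (χ.1 : G → ℂ) (ψ.1 : G → ℂ) := by
    intro z
    rw [hsumB]
    simp only [hsumB, hregT]
    rw [Finset.sum_comm]
    refine Finset.sum_congr rfl fun χ _ => ?_
    simp only [z', map_sum, Finset.sum_mul, Finset.mul_sum]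
    conv_lhs => rw [Finset.sum_comm_cycle]
    exact Finset.sum_congr rfl fun ψ _ => Finset.sum_comm
  have hC : ∀ χ : X, a χ ∈ Subring.closure {z : ℂ | z ^ p = 1} ∧
      conj (a χ) ∈ Subring.closure {z : ℂ | z ^ p = 1} := by
    intro χ
    have hz : ∀ φ, ζ φ ∈ Subring.closure {z : ℂ | z ^ p = 1} ∧
        conj (ζ φ) ∈ Subring.closure {z : ℂ | z ^ p = 1} := fun φ => by
      have h := hζ φ
      rw [pow_one] at h
      refine ⟨Subring.subset_closure h, Subring.subset_closure ?_⟩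
      show conj (ζ φ) ^ p = 1
      rw [← map_pow, h, map_one]
    refine ⟨sum_mem fun φ _ => mul_mem (natCast_mem _ _) (hz φ).1, ?_⟩
    simp only [a, A, map_sum, map_mul, map_natCast]
    exact sum_mem fun φ _ => mul_mem (natCast_mem _ _) (hz φ).2
  have hform' : ∀ z : IrrCharacter G → ℂ, 2 * (p : ℂ) ^ 2 * ∑ φ ∈ bf B, ∑ ψ ∈ bf B,
      z φ * conj (z ψ) * regInner p (φ : G → ℂ) (ψ : G → ℂ) =
      ∑ i, (∑ φ ∈ bf B, L' i φ * z φ) * conj (∑ φ ∈ bf B, L' i φ * z φ) := by
    intro z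
    simp only [hLz, hfold, ← hform (z' z), R, Finset.mul_sum]
    exact Finset.sum_congr rfl fun χ _ => Finset.sum_congr rfl fun ψ _ => by ring
  refine ⟨ι, hι, L', fun i φ => sum_mem fun x _ => ?_, hform', fun z hz => ?_⟩
  · split_ifs
    · exact hLC _ hC _ _
    · exact zero_mem _
  · simp only [hLz, ← hlrank]
    refine hnum _ ?_
    by_contra h0
    push Not at h0
    apply hz
    have h1 := hform' z
    simp only [hLz, h0, zero_mul, Finset.sum_const_zero] at h1
    exact (mul_eq_zero.mp h1).resolve_left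
      (mul_ne_zero two_ne_zero (pow_ne_zero 2 hp0))

end Cfsg.Agent.BlockChar
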