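import Cfsg.Agent.BlockChar.StarPair
import Cfsg.Agent.BlockChar.SubsectionHeight

/-!
The part of a height zero character in a subsection: the scaled norm is a unit.
-/

set_option autoImplicit false
set_option linter.unusedSectionVars false
set_option linter.style.haveILetI false

namespace Cfsg.Agent.BlockChar

open Cfsg Cfsg.Agent Cfsg.Agent.Blocks
open scoped ComplexConjugate

universe u

variable {G : Type u} [Group G] [Fintype G] {p : ℕ} [Fact p.Prime] {M : Ideal AlgInt}
  [M.IsMaximal] {y : G} {H : Subgroup G} [Fintype H]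

/-- The norm of the part of a height zero character is a unit after scaling. -/
theorem not_memI_norm_secPart (hpM : (p : AlgInt) ∈ M) {B : Set (IrrCharacter G)}
    (hH : H = Subgroup.centralizer ({y} : Set G)) (hy : ∃ k : ℕ, orderOf y = p ^ k)
    {b : Set (IrrCharacter H)} (hind : IsInducedBlock M H b B) {χ₀ : IrrCharacter G}
    (hχ₀ : χ₀ ∈ B) (hh₀ : blockHeight p B (χ₀ : G → ℂ) = 0) :
    ¬ MemLocalIdeal M ((p : ℂ) ^ blockDefect p b * ((Nat.card H : ℂ)⁻¹ *
      ∑ s ∈ regs p H, secPart y b χ₀ s * conj (secPart y b χ₀ s))) := by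
  classical
  obtain ⟨k, hk⟩ := hy
  have hu : ∃ k : ℕ, orderOf y = p ^ k := ⟨k, hk⟩
  have hyH : y ∈ H := hH ▸ Subgroup.mem_centralizer_singleton_iff.2 rfl
  have hyk : (⟨y, hyH⟩ : H) ^ p ^ k = 1 := Subtype.ext (by
    show y ^ p ^ k = 1
    rw [← hk]; exact pow_orderOf_eq_one y)
  have hc : ∀ c : H, (⟨y, hyH⟩ : H) * c = c * ⟨y, hyH⟩ := fun c =>
    Subtype.ext (commute_sec hH c).eq
  choose ζ hζk hζ using fun φ : IrrCharacter H => exists_central_scalar hpM hyk hc φ
  have hres : ∀ χ : IrrCharacter G, IsCharacter H (fun h : H => (χ : G → ℂ) h) := fun χ =>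
    Chars.isCharacter_restrict (Chars.irr_isCharacter χ) H
  choose n hn using fun (χ : IrrCharacter G) (φ : IrrCharacter H) =>
    Chars.exists_classInner_eq_nat (hres χ) (Chars.irr_isCharacter φ)
  have hp0 : p ^ k ≠ 0 := pow_ne_zero _ (Fact.out : p.Prime).ne_zero
  have hζ0 : ∀ φ, ζ φ ≠ 0 := fun φ h => by simpa [h, zero_pow hp0] using hζk φ
  have ha : ∀ (χ : IrrCharacter G) (φ : IrrCharacter H),
      classInner (fun c : H => (χ : G → ℂ) (y * (c : G))) (φ : H → ℂ) = (n χ φ : ℂ) * ζ φ := by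
    intro χ φ
    rw [← hn χ φ, Chars.classInner_def, Chars.classInner_def, mul_assoc, Finset.sum_mul]
    congr 1
    refine Fintype.sum_equiv (Equiv.mulLeft (⟨y, hyH⟩ : H)) _ _ fun c => ?_
    show (χ : G → ℂ) (y * (c : G)) * conj ((φ : H → ℂ) c) =
      (χ : G → ℂ) (y * (c : G)) * conj ((φ : H → ℂ) ((⟨y, hyH⟩ : H) * c)) * ζ φ
    rw [hζ φ, map_mul, ← Complex.inv_eq_conj (Complex.norm_eq_one_of_pow_eq_one (hζk φ) hp0)]
    field_simp [hζ0 φ]
  have hsec : ∀ (χ : IrrCharacter G) (s : H), secPart y b χ s =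
      ∑ φ ∈ bf b, (n χ φ : ℂ) * ζ φ * (φ : H → ℂ) s := fun χ s => by
    rw [secPart, blockPart, finsum_mem_bf]
    refine Finset.sum_congr rfl fun φ _ => ?_
    rw [← ha χ φ]
    congr 1
    exact congrArg (fun i => @classInner _ _ i _ _) (Subsingleton.elim _ _)
  obtain ⟨A, hA, hsym, -, -⟩ := exists_contribution hpM hind.1
  set d := blockDefect p b with hbd
  have hNH : (Nat.card H : ℂ) ≠ 0 := Chars.card_ne_zero
  let Q : IrrCharacter G → IrrCharacter G → ℂ := fun χ ψ =>
    ∑ φ ∈ bf b, ∑ φ' ∈ bf b, (n χ φ : ℂ) * n ψ φ' * A φ φ' * (ζ φ * (ζ φ')⁻¹)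
  have hQ : ∀ χ ψ, Q χ ψ = (p : ℂ) ^ d * ((Nat.card H : ℂ)⁻¹ *
      ∑ s ∈ regs p H, secPart y b χ s * conj (secPart y b ψ s)) := by
    intro χ ψ
    simp only [hsec, map_sum, map_mul, map_natCast,
      ← fun φ => Complex.inv_eq_conj (Complex.norm_eq_one_of_pow_eq_one (hζk φ) hp0)]
    simp only [Q, Finset.mul_sum, Finset.sum_mul]
    rw [Finset.sum_comm_cycle]
    refine Finset.sum_congr rfl fun φ hφ => ?_
    rw [Finset.sum_comm]
    refine Finset.sum_congr rfl fun φ' _ => ?_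
    rw [hA φ (mem_bf.1 hφ), regInner]
    simp only [Finset.mul_sum, Finset.sum_mul]
    exact Finset.sum_congr rfl fun s _ => by ring
  obtain ⟨η, hη, hη0, r, hrR, hrη, hcongr, hrel⟩ := exists_congr_rank_one hpM hind.1 hA hsym
  set κ : IrrCharacter H → ℂ := fun φ => omega (η : H → ℂ) (regConj p (φ : H → ℂ)) with hκ
  have hκR : ∀ φ, MemLocalRing M (κ φ) := fun φ =>
    omega_memR hpM η.2 (isClassFunction_regConj (Chars.isClassFunction_irr φ)) (rFun_regConj φ)
  have hD : ∀ χ ∈ B, blockHeight p B (χ : G → ℂ) = 0 → ¬ MemLocalIdeal M (∑ φ ∈ bf b, (n χ φ : ℂ) * κ φ) := by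
    intro χ hχ hχ0 hI
    refine not_memI_omega_regConj hpM hind.2.1 hχ hχ0 hχ
      ((memI_iff_of_sub (isInducedBlock_apply H hpM hind hη hχ
        (isClassFunction_regConj (Chars.isClassFunction_irr χ)) (rFun_regConj χ))).1 ?_)
    have hsum : resFun H (regConj p (χ : G → ℂ)) =
        ∑ φ : IrrCharacter H, (n χ φ : ℂ) • regConj p (φ : H → ℂ) := by
      funext c
      rw [resFun_regConj, Finset.sum_apply]
      have h2 : (χ : G → ℂ) c = ∑ φ : IrrCharacter H, (n χ φ : ℂ) * (φ : H → ℂ) c := by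
        refine (congrFun (Chars.eq_sum_classInner
          (Chars.isClassFunction_of_isCharacter (hres χ))) c).trans ?_
        rw [Finset.sum_apply]
        exact Finset.sum_congr rfl fun φ _ => by rw [hn χ φ]; rfl
      simp only [regConj_apply, resFun, Pi.smul_apply, smul_eq_mul]
      split_ifs
      · simp
      · rw [h2, map_sum]
        exact Finset.sum_congr rfl fun φ _ => by rw [map_mul, map_natCast]
    rw [hsum, omega_sum]
    simp only [omega_smul]
    rw [← Finset.sum_subset (Finset.subset_univ (bf b)) fun φ _ hφ => by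
      rw [omega_regConj_of_not_sameBlock hpM
        (fun h => hφ (mem_bf.2 (mem_of_sameBlock hind.1 hη h))), mul_zero]]
    exact hI
  have hQI : ∀ χ ∈ B, ∀ ψ ∈ B, blockHeight p B (χ : G → ℂ) = 0 →
      blockHeight p B (ψ : G → ℂ) = 0 → ¬ MemLocalIdeal M (Q χ ψ) := by
    intro χ hχ ψ hψ hχ0 hψ0 hI
    set C : ℂ := ∑ φ ∈ bf b, (n χ φ : ℂ) * r φ with hC
    set D : ℂ := ∑ φ ∈ bf b, (n ψ φ : ℂ) * κ φ
    have hCR : MemLocalRing M C := memR_sum _ _ fun φ hφ =>
      memR_mul (memR_natCast _) (hrR φ (mem_bf.1 hφ))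
    have hdiff : MemLocalIdeal M (Q χ ψ - C * D) := by
      simp only [Q, C, D, Finset.sum_mul_sum, ← Finset.sum_sub_distrib]
      refine memI_sum _ _ fun φ hφ => memI_sum _ _ fun φ' hφ' => ?_
      have hz : (ζ φ * (ζ φ')⁻¹) ^ p ^ k = 1 := by rw [mul_pow, inv_pow, hζk, hζk, inv_one, one_mul]
      have he := memI_add
        (memI_mul_left (memR_mul (memR_natCast (M := M) (n χ φ)) (memR_natCast (n ψ φ')))
          (hcongr φ (mem_bf.1 hφ) φ' (mem_bf.1 hφ')))
        (memI_mul_left (memR_mul (memR_mul (memR_natCast (M := M) (n χ φ))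
          (memR_natCast (n ψ φ'))) (memR_intCast (A φ φ'))) (root_congr_one hpM hz))
      convert he using 1
      ring
    rcases memI_or_of_mul hCR (memR_sum _ _ fun φ _ => memR_mul (memR_natCast _) (hκR φ))
      ((memI_iff_of_sub hdiff).1 hI) with h | h
    · have h' : MemLocalIdeal M (r η * ∑ φ ∈ bf b, (n χ φ : ℂ) * κ φ - C * κ η) := by
        simp only [C, Finset.mul_sum, Finset.sum_mul, ← Finset.sum_sub_distrib]
        refine memI_sum _ _ fun φ hφ => ?_
        have he := memI_neg (memI_mul_left (memR_natCast (M := M) (n χ φ))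
          (hrel φ (mem_bf.1 hφ)))
        convert he using 1
        ring
      rcases memI_or_of_mul (hrR η hη) (memR_sum _ _ fun φ _ => memR_mul (memR_natCast _) (hκR φ))
        ((memI_iff_of_sub h').2 (memI_mul_right h (hκR η))) with h1 | h1
      · exact hrη h1
      · exact hD χ hχ hχ0 h1
    · exact hD ψ hψ hψ0 h
  rw [← hQ]
  exact hQI χ₀ hχ₀ χ₀ hχ₀ hh₀ hh₀

end Cfsg.Agent.BlockChar
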