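import Cfsg.Agent.BlockChar.LocalRank
import Cfsg.Agent.Chars.Linear

/-!
# Linear characters acting on a block with abelian defect group

A stable nontrivial linear character fixes no character of the block, so the ranks of the
subsections, weighted by it, sum to zero.
-/

set_option autoImplicit false
set_option linter.unusedSectionVars false
set_option linter.style.haveILetI false

namespace Cfsg.Agent.BlockChar

open MonoidAlgebra
open scoped MonoidAlgebra ComplexConjugate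
open Cfsg Cfsg.Agent Cfsg.Agent.Blocks

universe u

variable {G : Type u} [Group G] [Fintype G] {p : ℕ} [Fact p.Prime] {M : Ideal AlgInt}
  [M.IsMaximal]

open scoped Classical in
theorem trace_eq_zero (hpM : (p : AlgInt) ∈ M) {B : Set (IrrCharacter G)} {P : Subgroup G}
    {e : (Res M)[G]} (D : MaxData p B P e) (hab : ∀ x ∈ P, ∀ y ∈ P, x * y = y * x)
    (φ : P →* ℂˣ) (f : G → ℂ) (hf : ∀ v : P, f v = (φ v : ℂ))
    (hst : ∀ t ∈ stab P e, ∀ v ∈ P, f (t * v * t⁻¹) = f v) (hne : ∃ v, φ v ≠ 1) :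
    ∑ v ∈ Finset.univ.filter (· ∈ P), (Nat.card (orbP P e v) : ℂ)⁻¹ * f v *
      (rk p P e (cz v) : ℂ) = 0 := by
  haveI := charP_res (p := p) hpM
  have hP : IsPGroup p P := D.pmax.pair.pgroup
  letI : ∀ v : G, Fintype (cz v) := fun v => Fintype.ofFinite _
  have hstable : IsStable p P e f := by
    intro v hv g hg
    obtain ⟨β, hβ, hβ'⟩ := hg
    obtain ⟨c, hc, hcg⟩ := exists_stab_of_abelian D.pmax hab hβ hβ'
    rw [conjS_zpowers] at hc
    have h := hst _ hcg v hv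
    have hcomm : c * (g * v * g⁻¹) = g * v * g⁻¹ * c :=
      (Subgroup.mem_centralizer_iff.mp hc _ (Subgroup.mem_zpowers _)).symm
    rwa [show c * g * v * (c * g)⁻¹ = c * (g * v * g⁻¹) * c⁻¹ by group, hcomm,
      mul_inv_cancel_right] at h
  have hgen : IsGeneralizedCharacter P (fun v : P => f v) := by
    simp only [hf]
    exact Chars.isGen_of_isCharacter (Chars.isCharacter_hom φ)
  have hnorm : ∀ v ∈ P, f v * conj (f v) = 1 := fun v hv => by
    rw [hf ⟨v, hv⟩]
    obtain ⟨n, hn⟩ := orderOf_of_mem hP hv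
    have hpow : ((φ ⟨v, hv⟩ : ℂˣ) : ℂ) ^ p ^ n = 1 := by
      rw [← Units.val_pow_eq_pow_val, ← map_pow, show (⟨v, hv⟩ : P) ^ p ^ n = 1 from
        Subtype.ext (by simp [← hn, pow_orderOf_eq_one]), map_one, Units.val_one]
    rw [← Complex.inv_eq_conj (Complex.norm_eq_one_of_pow_eq_one hpow
      (pow_ne_zero _ (Fact.out : p.Prime).ne_zero)), mul_inv_cancel₀ (Units.ne_zero _)]
  have hone : ∀ χ : IrrCharacter G, χ ∈ B → classInner (starP p P e (χ : G → ℂ) f)
      (starP p P e (χ : G → ℂ) f) = 1 := fun χ hχ => by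
    rw [classInner_starP_mul hpM χ f, starP_congr (g := fun _ => 1) hnorm,
      starP_one hpM D hχ, Chars.classInner_irrCharacter, if_pos rfl]
  have hf1 : f 1 = ((1 : ℕ) : ℂ) := by
    rw [show (1 : G) = ((1 : P) : G) from rfl, hf, map_one]; simp
  have hzero : ∀ χ ∈ B, ∑ v ∈ Finset.univ.filter (· ∈ P), (Nat.card (orbP P e v) : ℂ)⁻¹ *
      f v * conP p P e (χ : G → ℂ) (χ : G → ℂ) v = 0 := by
    intro χ hχ
    obtain ⟨ψ, hψ, hψeq, -, -⟩ :=
      isIrrCharacter_starP hpM D (isGen_starP hpM D χ hstable hgen) (hone χ hχ) hf1 hχ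
    have hsec : ∀ v ∈ P, ∀ s ∈ cz v, ¬ p ∣ orderOf s →
        sec (ψ : G → ℂ) v (locB p P e v) s = f v * sec (χ : G → ℂ) v (locB p P e v) s := by
      intro v hv s hs hsr
      have hle := locB_spec hpM D hv
      rw [sec_of_star hpM χ ψ hψeq (orderOf_of_mem hP hv) (hle.isPair_left D.pmax.pair).blk hs hsr]
      congr 1
      refine (phiOf_eq hstable (x := 1) ?_).trans (by simp)
      unfold Below
      rw [one_mul, inv_one, mul_one, cj_one]
      exact hle
    have hne' : ψ ≠ χ := by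
      rintro rfl
      obtain ⟨⟨v, hv⟩, hφ⟩ := hne
      obtain ⟨s, hs, hsr, hne0⟩ := exists_sec_ne_zero_of_central hpM D hv
        (fun w hw => hab v hv w hw) (locB_spec hpM D hv) hψ
      have h := hsec v hv s hs hsr
      rw [eq_comm, mul_left_eq_self₀] at h
      refine hφ (Units.ext ?_)
      rw [← hf ⟨v, hv⟩]
      exact h.resolve_right hne0
    have h := sum_conP hpM D hab ψ hχ
    rw [if_neg hne'] at h
    rw [← h]
    refine Finset.sum_congr rfl fun v hv => ?_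
    have hvP := (Finset.mem_filter.mp hv).2
    rw [mul_assoc]
    congr 1
    rw [conP, conP, mul_left_comm]
    congr 1
    simp only [m2, Finset.mul_sum]
    refine Finset.sum_congr rfl fun s hs => ?_
    rw [hsec v hvP s s.2 (by rw [Subgroup.orderOf_coe]; exact mem_regs.mp hs), mul_assoc]
  have h := Finset.sum_eq_zero (s := bf B) fun χ hχ => hzero χ (mem_bf.mp hχ)
  rw [Finset.sum_comm] at h
  rw [← h]
  refine Finset.sum_congr rfl fun v hv => ?_
  rw [← Finset.mul_sum, sum_conP_diag hpM D (Finset.mem_filter.mp hv).2,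
    rk_cz hpM D hab (Finset.mem_filter.mp hv).2]

open scoped Classical in
/-- The same inside a subgroup containing the centralizer of the defect group. -/
theorem trace_eq_zero_in (hpM : (p : AlgInt) ∈ M) {P : Subgroup G} {e : (Res M)[G]}
    (hmax : IsMaxPair p P e) (hab : ∀ x ∈ P, ∀ y ∈ P, x * y = y * x) {H : Subgroup G}
    (hPH : P ≤ H) (hC : Subgroup.centralizer (P : Set G) ≤ H)
    (φ : P →* ℂˣ) (f : G → ℂ) (hf : ∀ v : P, f v = (φ v : ℂ))
    (hst : ∀ t ∈ stab P e ⊓ H, ∀ v ∈ P, f (t * v * t⁻¹) = f v) (hne : ∃ v, φ v ≠ 1) :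
    ∑ v ∈ Finset.univ.filter (· ∈ P),
      (Nat.card {w : G | ∃ t ∈ stab P e ⊓ H, t * v * t⁻¹ = w} : ℂ)⁻¹ * f v *
        (rk p P e (H ⊓ cz v) : ℂ) = 0 := by
  haveI := charP_res (p := p) hpM
  letI := Fintype.ofFinite H
  obtain ⟨P', e', B', S, D', -⟩ := exists_subPair hpM hmax hPH hC
  let j : P' →* P :=
    { toFun := fun v => ⟨((v : H) : G), S.mem_iff.mp v.2⟩
      map_one' := rfl
      map_mul' := fun _ _ => rfl }
  have hne' : ∃ v : P', (φ.comp j) v ≠ 1 := by
    obtain ⟨⟨v, hv⟩, hφ⟩ := hne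
    exact ⟨⟨⟨v, hPH hv⟩, S.mem_iff.mpr hv⟩, hφ⟩
  have hab' : ∀ x ∈ P', ∀ y ∈ P', x * y = y * x := fun x hx y hy =>
    Subtype.ext (hab _ (S.mem_iff.mp hx) _ (S.mem_iff.mp hy))
  have h := trace_eq_zero hpM D' hab' (φ.comp j) (fun v => f (v : G))
    (fun v => hf (j v))
    (fun t ht v hv => by
      push_cast
      exact hst _ ⟨S.mem_stab.mp ht, t.2⟩ _ (S.mem_iff.mp hv)) hne'
  rw [← h]
  symm
  refine Finset.sum_nbij' (fun v => (v : G)) (fun g => if hg : g ∈ H then ⟨g, hg⟩ else 1)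
    ?_ ?_ ?_ ?_ ?_
  · exact fun v hv => Finset.mem_filter.mpr ⟨Finset.mem_univ _,
      S.mem_iff.mp (Finset.mem_filter.mp hv).2⟩
  · intro g hg
    have hgP := (Finset.mem_filter.mp hg).2
    rw [dif_pos (hPH hgP)]
    exact Finset.mem_filter.mpr ⟨Finset.mem_univ _, S.mem_iff.mpr hgP⟩
  · intro v _; simp [v.2]
  · intro g hg; simp [hPH (Finset.mem_filter.mp hg).2]
  intro v hv
  have hvP' := (Finset.mem_filter.mp hv).2
  have horb : Nat.card (orbP P' e' v) =
      Nat.card {w : G | ∃ t ∈ stab P e ⊓ H, t * (v : G) * t⁻¹ = w} := by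
    refine Nat.card_congr (Equiv.ofBijective (fun w => ⟨((w.1 : H) : G), ?_⟩) ⟨?_, ?_⟩)
    · obtain ⟨t, ht, hw⟩ := w.2
      exact ⟨t, ⟨S.mem_stab.mp ht, t.2⟩, congrArg Subtype.val hw⟩
    · exact fun a c hac => Subtype.ext (Subtype.ext (congrArg Subtype.val hac :))
    · rintro ⟨w, t, ht, rfl⟩
      exact ⟨⟨⟨t, ht.2⟩ * v * ⟨t, ht.2⟩⁻¹, ⟨t, ht.2⟩, S.mem_stab.mpr ht.1, rfl⟩, rfl⟩
  have hcz : (cz v).map H.subtype = H ⊓ cz (v : G) := by
    ext g
    simp only [Subgroup.mem_map, Subgroup.mem_inf, mem_cz, Subgroup.coe_subtype]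
    constructor
    · rintro ⟨x, hx, rfl⟩
      exact ⟨x.2, congrArg Subtype.val hx.eq⟩
    · rintro ⟨hg, hc⟩
      exact ⟨⟨g, hg⟩, Subtype.ext hc.eq, rfl⟩
  rw [horb, S.rk_map hpM D'.pmax.pair hmax.pair hC (fun w hw => mem_cz.mpr (hab' v hvP' w hw))
    (fun w hw => mem_cz.mpr (Subgroup.mem_centralizer_iff.mp hw v hvP')), hcz]

end Cfsg.Agent.BlockChar
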