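import Cfsg.Agent.BlockChar.CharCount
import Cfsg.Agent.Chars2.Ramified
import Cfsg.Agent.Blocks.Local

/-!
Values of combinations of characters vanishing off the regular elements are divisible by the
order of a Sylow subgroup of the centraliser; arithmetic of short sign vectors.
-/

set_option autoImplicit false
set_option linter.unusedSectionVars false
set_option linter.style.haveILetI false

namespace Cfsg.Agent.BlockChar

open Cfsg Cfsg.Agent Cfsg.Agent.Blocks
open scoped ComplexConjugate

universe u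

variable {G : Type u} [Group G] [Fintype G] {p : ℕ} [Fact p.Prime] {M : Ideal AlgInt}
  [M.IsMaximal]

/-- The sum of an irreducible character over a coset of a `p`-subgroup in its centraliser. -/
theorem exists_coset_sum {Q : Subgroup G} [Fintype Q] {t : G}
    (hcomm : ∀ u ∈ Q, Commute u t) (η : IrrCharacter G) :
    ∃ a : ℂ, IsIntegral ℤ a ∧ ∑ u : Q, (η : G → ℂ) ((u : G) * t) = (Nat.card Q : ℂ) * a := by
  classical
  set K := Q ⊔ Subgroup.zpowers t with hK
  have htK : t ∈ K := Subgroup.mem_sup_right (Subgroup.mem_zpowers t)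
  have hQK : Q ≤ K := le_sup_left
  have hKN : K ≤ Subgroup.normalizer (Q : Set G) := by
    refine sup_le Subgroup.le_normalizer (Subgroup.zpowers_le.mpr ?_)
    rw [Subgroup.mem_normalizer_iff]
    have hfix : ∀ u ∈ Q, t * u * t⁻¹ = u := fun u hu => by
      rw [← (hcomm u hu).eq, mul_inv_cancel_right]
    refine fun u => ⟨fun hu => by rwa [hfix u hu], fun hu => ?_⟩
    have h := hfix _ hu
    have h2 : t * u * t⁻¹ = u := mul_left_cancel (mul_right_cancel h)
    rwa [h2] at hu
  haveI : (Q.subgroupOf K).Normal := Subgroup.normal_subgroupOf_of_le_normalizer hKN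
  haveI : Fintype K := Fintype.ofFinite _
  haveI : Fintype (Q.subgroupOf K) := Fintype.ofFinite _
  have hres := Chars.isCharacter_restrict (Chars.irr_isCharacter η) K
  obtain ⟨c, hc⟩ := Chars2.exists_multiplicities hres
  have hterm : ∀ ψ : IrrCharacter K, ∃ a : ℂ, IsIntegral ℤ a ∧
      ∑ n : Q.subgroupOf K, (ψ : K → ℂ) ((n : K) * ⟨t, htK⟩) = (Nat.card Q : ℂ) * a := by
    intro ψ
    have h1 := Chars2.sum_coset (N := Q.subgroupOf K) ψ.2 (⟨t, htK⟩ : K)
    have hne := Chars.irr_apply_one_ne_zero ψ.2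
    by_cases h0 : classInner (fun n : Q.subgroupOf K => (ψ : K → ℂ) n) (fun _ => 1) = 0
    · refine ⟨0, isIntegral_zero, ?_⟩
      rw [h0, mul_zero, zero_mul, mul_eq_zero] at h1
      rw [h1.resolve_right hne, mul_zero]
    · refine ⟨(ψ : K → ℂ) ⟨t, htK⟩,
        Chars.isIntegral_of_isCharacter (Chars.irr_isCharacter ψ) _, ?_⟩
      rw [Chars2.restrict_eq_one_of_over ψ.2 h0,
        Nat.card_congr (Subgroup.subgroupOfEquivOfLe hQK).toEquiv] at h1
      refine mul_right_cancel₀ hne ?_
      rw [h1]
      ring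
  choose a ha using hterm
  refine ⟨∑ ψ : IrrCharacter K, (c ψ : ℂ) * a ψ,
    IsIntegral.sum _ (fun ψ _ => IsIntegral.mul (isIntegral_algebraMap (R := ℤ) (x := (c ψ : ℤ)))
      (ha ψ).1), ?_⟩
  calc ∑ u : Q, (η : G → ℂ) ((u : G) * t)
      = ∑ n : Q.subgroupOf K, (η : G → ℂ) ((((n : K) * ⟨t, htK⟩ : K)) : G) :=
        (Fintype.sum_equiv (Subgroup.subgroupOfEquivOfLe hQK).toEquiv _ _ fun n => rfl).symm
    _ = ∑ n : Q.subgroupOf K, ∑ ψ : IrrCharacter K,
          (c ψ : ℂ) * (ψ : K → ℂ) ((n : K) * ⟨t, htK⟩) := by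
        refine Finset.sum_congr rfl fun n _ => ?_
        refine (Chars2.apply_eq_sum (Chars.isClassFunction_of_isCharacter hres) _).trans ?_
        exact Finset.sum_congr rfl fun ψ _ => by rw [hc ψ]
    _ = _ := by
        rw [Finset.sum_comm, Finset.mul_sum]
        refine Finset.sum_congr rfl fun ψ _ => ?_
        rw [← Finset.mul_sum, (ha ψ).2]
        ring

/-- A combination of characters vanishing on the singular elements is divisible, at a regular
element, by the order of its centraliser. -/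
theorem local_div_of_vanish (hpM : (p : AlgInt) ∈ M) (c : IrrCharacter G → ℂ)
    (hc : ∀ η, MemLocalRing M (c η))
    (hvan : ∀ x : G, p ∣ orderOf x → ∑ η : IrrCharacter G, c η * (η : G → ℂ) x = 0) {t : G}
    (ht : ¬ p ∣ orderOf t) :
    MemLocalRing M ((∑ η : IrrCharacter G, c η * (η : G → ℂ) t) /
      (Nat.card (Subgroup.centralizer ({t} : Set G)) : ℂ)) := by
  classical
  set C := Subgroup.centralizer ({t} : Set G) with hC
  obtain ⟨S⟩ : Nonempty (Sylow p C) := inferInstance
  set Q := (S : Subgroup C).map C.subtype with hQ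
  haveI : Fintype Q := Fintype.ofFinite _
  have hcomm : ∀ u ∈ Q, Commute u t := by
    intro u hu
    obtain ⟨x, -, rfl⟩ := hu
    exact (Subgroup.mem_centralizer_iff.mp x.2 t rfl).symm
  have hQp : IsPGroup p Q := S.isPGroup'.map _
  choose a ha using fun η : IrrCharacter G => exists_coset_sum hcomm η
  set h : G → ℂ := fun x => ∑ η : IrrCharacter G, c η * (η : G → ℂ) x with hh
  have key : h t = (Nat.card Q : ℂ) * ∑ η : IrrCharacter G, c η * a η := by
    calc h t = ∑ u : Q, h ((u : G) * t) := by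
          rw [Fintype.sum_eq_single (1 : Q) fun u hu => ?_, Subgroup.coe_one, one_mul]
          refine hvan _ ?_
          obtain ⟨k, hk⟩ := IsPGroup.iff_orderOf.mp hQp u
          have hcop : (orderOf (u : G)).Coprime (orderOf t) := by
            rw [Subgroup.orderOf_coe, hk]
            exact Nat.Coprime.pow_left _ ((Fact.out : p.Prime).coprime_iff_not_dvd.mpr ht)
          rw [(hcomm u u.2).orderOf_mul_eq_mul_orderOf_of_coprime hcop, Subgroup.orderOf_coe, hk]
          refine Dvd.dvd.mul_right (dvd_pow_self p ?_) _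
          rintro rfl
          exact hu (orderOf_eq_one_iff.mp (by rw [hk, pow_zero]))
      _ = ∑ η : IrrCharacter G, c η * ((Nat.card Q : ℂ) * a η) := by
          simp only [hh]
          rw [Finset.sum_comm]
          exact Finset.sum_congr rfl fun η _ => by rw [← Finset.mul_sum, (ha η).2]
      _ = _ := by
          rw [Finset.mul_sum]
          exact Finset.sum_congr rfl fun η _ => by ring
  have hidx : Nat.card C = Nat.card Q * (S : Subgroup C).index := by
    rw [hQ, Subgroup.card_map_of_injective C.subtype_injective, Subgroup.card_mul_index]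
  have hnd : ¬ p ∣ (S : Subgroup C).index := S.not_dvd_index
  show MemLocalRing M (h t / (Nat.card C : ℂ))
  rw [key, hidx, Nat.cast_mul, mul_div_mul_left _ _ (Nat.cast_ne_zero.2 Nat.card_pos.ne'),
    div_eq_mul_inv]
  exact memR_mul (memR_sum _ _ fun η _ => memR_mul (hc η) (memR_of_isIntegral (ha η).1))
    (memR_inv_natCast hpM hnd)

/-- The product of two sign vectors of length four with sums divisible by four. -/
theorem four_dvd_sum_mul {ι : Type*} (s : Finset ι) (hs : s.card = 4) (u w : ι → ℤ)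
    (hu : ∀ i ∈ s, u i * u i = 1) (hw : ∀ i ∈ s, w i * w i = 1) (h1 : (4 : ℤ) ∣ ∑ i ∈ s, u i)
    (h2 : (4 : ℤ) ∣ ∑ i ∈ s, w i) : (4 : ℤ) ∣ ∑ i ∈ s, u i * w i := by
  have h3 : (4 : ℤ) ∣ ∑ i ∈ s, (u i - 1) * (w i - 1) := by
    refine Finset.dvd_sum fun i hi => ?_
    rcases mul_self_eq_one_iff.mp (hu i hi) with h | h <;>
      rcases mul_self_eq_one_iff.mp (hw i hi) with h' | h' <;> simp [h, h']
  have e : ∑ i ∈ s, u i * w i =
      ∑ i ∈ s, (u i - 1) * (w i - 1) + ∑ i ∈ s, u i + ∑ i ∈ s, w i - 4 := by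
    have e2 : ∀ i, u i * w i = (u i - 1) * (w i - 1) + u i + w i - 1 := fun i => by ring
    rw [Finset.sum_congr rfl fun i _ => e2 i, Finset.sum_sub_distrib, Finset.sum_add_distrib,
      Finset.sum_add_distrib, Finset.sum_const, hs]
    norm_num
  rw [e]
  exact dvd_sub (dvd_add (dvd_add h3 h1) h2) dvd_rfl

end Cfsg.Agent.BlockChar
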